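import Groth.Agent.Lib.PMor16.Words
import Groth.Agent.Lib.RedCell16.WordStep

/-!
# Braid moves between reduced words
-/

set_option autoImplicit false
set_option linter.unusedSectionVars false
set_option linter.unusedSimpArgs false
set_option linter.style.haveILetI false

universe u

open CategoryTheory AlgebraicGeometry MonObj

noncomputable section

namespace Groth.Agent.PMor16

open RootDLib RootPairing RedCell16

/-- The alternating word of length `n` starting with `s`. -/
def altB : Bool → ℕ → List Bool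
  | _, 0 => []
  | s, n + 1 => s :: altB (!s) n

theorem length_altB : ∀ (s : Bool) (n : ℕ), (altB s n).length = n
  | _, 0 => rfl
  | s, n + 1 => by simp [altB, length_altB (!s) n]

theorem altB_snoc : ∀ (s : Bool) (n : ℕ), altB s (n + 1) = altB s n ++ [if n % 2 = 0 then s else !s]
  | s, 0 => rfl
  | s, n + 1 => by
    rw [altB, altB_snoc (!s) n]
    rcases Nat.mod_two_eq_zero_or_one n with h | h
    · rw [altB, if_pos h, if_neg (by omega)]; rfl
    · rw [altB, if_neg (by omega), if_pos (by omega), Bool.not_not]; rfl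

/-- The coordinates of a letter. -/
def unitv : Bool → ℤ × ℤ
  | false => (1, 0)
  | true => (0, 1)

theorem braid_table {p q : ℤ} (h : Pairs p q) (A B : ℤ) :
    fl p q A B (altB false (braidLen p q)) (0, 0) = fl p q A B (altB true (braidLen p q)) (0, 0) := by
  rcases h with ⟨rfl, rfl⟩ | ⟨rfl, rfl⟩ | ⟨rfl, rfl⟩ | ⟨rfl, rfl⟩ | ⟨rfl, rfl⟩ | ⟨rfl, rfl⟩ <;>
    simp [braidLen, altB, fl, stp] <;> ring_nf <;> trivial

theorem prefix_table {p q : ℤ} (h : Pairs p q) : ∀ s : Bool, ∀ k < braidLen p q,
    0 ≤ (fl p q 0 0 (altB s k) (unitv (if k % 2 = 0 then s else !s))).1 ∧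
      0 ≤ (fl p q 0 0 (altB s k) (unitv (if k % 2 = 0 then s else !s))).2 := by
  rcases h with ⟨rfl, rfl⟩ | ⟨rfl, rfl⟩ | ⟨rfl, rfl⟩ | ⟨rfl, rfl⟩ | ⟨rfl, rfl⟩ | ⟨rfl, rfl⟩ <;>
    decide

theorem prefix_table' {p q : ℤ} (h : Pairs p q) : ∀ k < braidLen p q - 1,
    0 < (fl p q 0 0 (altB true k) (unitv (if k % 2 = 0 then true else false))).2 := by
  rcases h with ⟨rfl, rfl⟩ | ⟨rfl, rfl⟩ | ⟨rfl, rfl⟩ | ⟨rfl, rfl⟩ | ⟨rfl, rfl⟩ | ⟨rfl, rfl⟩ <;>
    decide

theorem end_table {p q : ℤ} (h : Pairs p q) : ∀ s : Bool,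
    fl p q 0 0 (altB s (braidLen p q - 1)) (unitv (if (braidLen p q - 1) % 2 = 0 then s else !s)) = unitv (!s) := by
  rcases h with ⟨rfl, rfl⟩ | ⟨rfl, rfl⟩ | ⟨rfl, rfl⟩ | ⟨rfl, rfl⟩ | ⟨rfl, rfl⟩ | ⟨rfl, rfl⟩ <;>
    decide

theorem rev_table {p q : ℤ} (h : Pairs p q) :
    (altB true (braidLen p q - 1)).reverse =
      altB (decide (braidLen p q % 2 = 0)) (braidLen p q - 1) ∧
      (if (braidLen p q - 1) % 2 = 0 then decide (braidLen p q % 2 = 0) else !decide (braidLen p q % 2 = 0)) = false := by
  rcases h with ⟨rfl, rfl⟩ | ⟨rfl, rfl⟩ | ⟨rfl, rfl⟩ | ⟨rfl, rfl⟩ | ⟨rfl, rfl⟩ | ⟨rfl, rfl⟩ <;>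
    decide

variable {S : Scheme.{u}} {G : Over S} [GrpObj G] {D : Red.SplitRed G} [D.P.IsReduced]

theorem root_fl {a b : D.idx} {p q : ℤ} (hp : D.P.pairing b a = -p) (hq : D.P.pairing a b = -q) (l : List Bool)
    (x : Bool) :
    D.P.root (wprod D.P (nm a b l) • (if x then b else a)) =
      (fl p q 0 0 l (unitv x)).1 • D.P.root a + (fl p q 0 0 l (unitv x)).2 • D.P.root b := by
  have hc : D.P.root (if x then b else a) = 0 + (unitv x).1 • D.P.root a + (unitv x).2 • D.P.root b := by
    cases x <;> simp [unitv]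
  have e := coords_word hp hq 0 hc l
  rwa [map_zero, map_zero, zero_add] at e

theorem wprod_braid {a b : D.idx} {p q : ℤ} (hp : D.P.pairing b a = -p) (hq : D.P.pairing a b = -q)
    (h : Pairs p q) :
    wprod D.P (nm a b (altB false (braidLen p q))) = wprod D.P (nm a b (altB true (braidLen p q))) :=
  wprod_nm_ext hp hq (braid_table h)

theorem smul_end {a b : D.idx} {p q : ℤ} (hp : D.P.pairing b a = -p) (hq : D.P.pairing a b = -q)
    (h : Pairs p q) (s : Bool) :
    wprod D.P (nm a b (altB s (braidLen p q - 1))) •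
      (if (if (braidLen p q - 1) % 2 = 0 then s else !s) then b else a) = if !s then b else a := by
  refine D.P.root.injective ?_
  rw [root_fl hp hq, end_table h s]
  cases s <;> simp [unitv]

theorem nm_altB_snoc (a b : D.idx) (s : Bool) {n : ℕ} (hn : 0 < n) :
    nm a b (altB s n) = nm a b (altB s (n - 1)) ++ [if (if (n - 1) % 2 = 0 then s else !s) then b else a] := by
  obtain ⟨k, rfl⟩ : ∃ k, n = k + 1 := ⟨n - 1, by omega⟩
  rw [altB_snoc, nm_append, Nat.add_sub_cancel]
  rfl

variable (b₀ : D.P.Base)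

/-- Splitting a descending dihedral prefix off a reduced word. -/
theorem exists_peel {a b : D.idx} (ha : a ∈ b₀.support) (hb : b ∈ b₀.support) (s : Bool) {l : List D.idx}
    (hl : Red b₀ l) (K : ℕ) (hK : ∀ k < K, (wprod D.P l)⁻¹ •
      (wprod D.P (nm a b (altB s k)) • (if (if k % 2 = 0 then s else !s) then b else a)) ∉ RedSub.posRoots D.P b₀) :
    ∃ v, Red b₀ (nm a b (altB s K) ++ v) ∧ wprod D.P (nm a b (altB s K) ++ v) = wprod D.P l := by
  haveI := D.fintypeIdx
  induction K with
  | zero => exact ⟨l, by simpa [altB] using hl, by simp [altB]⟩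
  | succ K ih =>
    obtain ⟨v, hv, he⟩ := ih fun k hk => hK k (Nat.lt_succ_of_lt hk)
    set x := (if (if K % 2 = 0 then s else !s) then b else a) with hx
    have hxs : x ∈ b₀.support := by rw [hx]; split_ifs <;> assumption
    have h := hK K (Nat.lt_succ_self K)
    rw [← he, wprod_append, _root_.mul_inv_rev, mul_smul, inv_smul_smul] at h
    have hvr := hv.append_right b₀
    obtain ⟨v', hv', he'⟩ := exists_red b₀ (x :: v)
    have h1 : L b₀ (x :: v) + 1 = L b₀ v := Order.len_simple' b₀ hxs v h
    have hlen : v'.length + 1 = v.length := by rw [← hv'.2, L_congr b₀ he', h1, hvr.2]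
    have e : wprod D.P (nm a b (altB s (K + 1)) ++ v') = wprod D.P (nm a b (altB s K) ++ v) := by
      rw [altB_snoc, nm_append]
      simp only [wprod_append, _root_.mul_assoc]
      congr 1
      rw [show nm a b [if K % 2 = 0 then s else !s] = [x] from rfl, wprod_cons, wprod_nil, _root_.mul_one, he',
        ← wprod_cons, Order.wprod_cons_cons]
    refine ⟨v', Red.of_eq b₀ hv (fun y hy => ?_) e ?_, e.trans he⟩
    · rcases List.mem_append.1 hy with hy | hy
      · obtain ⟨z, -, rfl⟩ := List.mem_map.1 hy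
        split_ifs <;> assumption
      · exact hv'.1 y hy
    · simp only [List.length_append, nm, List.length_map, length_altB]
      omega

/-- **Reduced words of the same element are joined by braid moves.** -/
theorem matsumoto (R : List D.idx → List D.idx → Prop) (hrefl : R [] [])
    (htrans : ∀ {l m n}, R l m → R m n → R l n) (hcons : ∀ (a : D.idx) {l m}, a ∈ b₀.support → R l m → R (a :: l) (a :: m))
    (hbraid : ∀ (a b : D.idx) (p q : ℤ), a ∈ b₀.support → b ∈ b₀.support → a ≠ b → D.P.pairing b a = -p →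
      D.P.pairing a b = -q → Pairs p q → ∀ v, Red b₀ (nm a b (altB false (braidLen p q)) ++ v) →
        R (nm a b (altB false (braidLen p q)) ++ v) (nm a b (altB true (braidLen p q)) ++ v))
    (pairs : ∀ {a b : D.idx}, a ∈ b₀.support → b ∈ b₀.support → a ≠ b →
      ∃ p q : ℤ, D.P.pairing b a = -p ∧ D.P.pairing a b = -q ∧ Pairs p q) :
    ∀ {l l' : List D.idx}, Red b₀ l → Red b₀ l' → wprod D.P l = wprod D.P l' → R l l' := by
  haveI := D.fintypeIdx
  intro l
  induction hn : l.length using Nat.strong_induction_on generalizing l with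
  | _ n ih =>
    intro l' hl hl' he
    have hlen : l'.length = l.length := by rw [← hl'.2, ← hl.2, L_congr b₀ he]
    match l, l', hl, hl', he, hlen, hn with
    | [], [], _, _, _, _, _ => exact hrefl
    | [], _ :: _, _, _, _, hlen, _ => simp at hlen
    | _ :: _, [], _, _, _, hlen, _ => simp at hlen
    | a :: l₁, c :: l₁', hl, hl', he, hlen, hn =>
      obtain ⟨ha, hl₁, hp⟩ := (red_cons_iff b₀).1 hl
      obtain ⟨hc, hl₁', hp'⟩ := (red_cons_iff b₀).1 hl'
      by_cases hac : a = c
      · subst hac
        rw [wprod_cons, wprod_cons, mul_left_cancel_iff] at he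
        exact hcons a ha (ih _ (by rw [← hn]; simp) rfl hl₁ hl₁' he)
      obtain ⟨p, q, hp₁, hq₁, hpq⟩ := pairs ha hc hac
      have desc : ∀ x : D.idx, (x = a ∨ x = c) → (wprod D.P (a :: l₁))⁻¹ • x ∉ RedSub.posRoots D.P b₀ := by
        rintro x (rfl | rfl)
        · rw [wprod_cons, _root_.mul_inv_rev, mul_smul, Equiv.reflection_inv, refl_smul,
            show D.P.reflectionPerm x x = ng D.P x from rfl, smul_ng]
          exact ng_not_pos b₀ hp
        · rw [he, wprod_cons, _root_.mul_inv_rev, mul_smul, Equiv.reflection_inv, refl_smul,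
            show D.P.reflectionPerm x x = ng D.P x from rfl, smul_ng]
          exact ng_not_pos b₀ hp'
      have hall : ∀ (s : Bool) (k : ℕ), k < braidLen p q → (wprod D.P (a :: l₁))⁻¹ •
          (wprod D.P (nm a c (altB s k)) • (if (if k % 2 = 0 then s else !s) then c else a)) ∉
            RedSub.posRoots D.P b₀ := by
        intro s k hk
        obtain ⟨h1, h2⟩ := prefix_table hpq s k hk
        set g := (wprod D.P (a :: l₁))⁻¹
        set z := wprod D.P (nm a c (altB s k)) • (if (if k % 2 = 0 then s else !s) then c else a)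
        rw [not_pos_iff]
        refine pos_comb ((not_pos_iff b₀ _).1 (desc a (Or.inl rfl))) ((not_pos_iff b₀ _).1 (desc c (Or.inr rfl)))
          h1 h2 ?_
        rw [root_ng, root_ng, root_ng, ← smul_root, root_fl hp₁ hq₁, smul_add, smul_comm, smul_comm g
          ((fl p q 0 0 (altB s k) (unitv (if k % 2 = 0 then s else !s))).2), smul_root, smul_root, smul_neg, smul_neg, neg_add]
      obtain ⟨v, hv, hev⟩ := exists_peel b₀ ha hc false hl _ (hall false)
      set m := braidLen p q with hm
      have hev' : wprod D.P (nm a c (altB true m) ++ v) = wprod D.P (a :: l₁) := by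
        rw [wprod_append, ← wprod_braid hp₁ hq₁ hpq, ← wprod_append, hev]
      have hv' : Red b₀ (nm a c (altB true m) ++ v) := by
        refine Red.of_eq b₀ hv (fun y hy => ?_) (hev'.trans hev.symm) (by simp [nm, length_altB])
        rcases List.mem_append.1 hy with hy | hy
        · obtain ⟨z, -, rfl⟩ := List.mem_map.1 hy
          split_ifs <;> assumption
        · exact hv.1 y (List.mem_append_right _ hy)
      obtain ⟨k, hk⟩ : ∃ k, m = k + 1 := ⟨m - 1, by have := braidLen_pos p q; omega⟩
      have e1 : nm a c (altB false m) ++ v = a :: (nm a c (altB true k) ++ v) := by rw [hk]; rfl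
      have e2 : nm a c (altB true m) ++ v = c :: (nm a c (altB false k) ++ v) := by rw [hk]; rfl
      have r1 : R (a :: l₁) (nm a c (altB false m) ++ v) := by
        rw [e1] at hv hev ⊢
        have := hev.symm
        rw [wprod_cons, wprod_cons, mul_left_cancel_iff] at this
        exact hcons a ha (ih _ (by rw [← hn]; simp) rfl hl₁ (hv.tail b₀) this)
      have r2 : R (nm a c (altB true m) ++ v) (c :: l₁') := by
        rw [e2] at hv' hev' ⊢
        have := hev'.trans he
        rw [wprod_cons, wprod_cons, mul_left_cancel_iff] at this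
        refine hcons c hc (ih _ ?_ rfl (hv'.tail b₀) hl₁' this)
        have h3 : (nm a c (altB false k) ++ v).length = l₁'.length := by
          rw [← (hv'.tail b₀).2, ← hl₁'.2, L_congr b₀ this]
        rw [← hn, h3]
        simp only [List.length_cons] at hlen ⊢
        omega
      exact htrans (htrans r1 (hbraid a c p q ha hc hac hp₁ hq₁ hpq v hv)) r2

/-- **A reduced word carrying a simple root to a simple root ends with a dihedral one.** -/
theorem exists_fix_step {l : List D.idx} (hl : Red b₀ l) (hne : l ≠ []) {a c : D.idx} (ha : a ∈ b₀.support)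
    (hc : c ∈ b₀.support) (he : wprod D.P l • a = c)
    (pairs : ∀ {a b : D.idx}, a ∈ b₀.support → b ∈ b₀.support → a ≠ b →
      ∃ p q : ℤ, D.P.pairing b a = -p ∧ D.P.pairing a b = -q ∧ Pairs p q) :
    ∃ (x : D.idx) (p q : ℤ) (v : List D.idx), x ∈ b₀.support ∧ a ≠ x ∧ D.P.pairing x a = -p ∧
      D.P.pairing a x = -q ∧ Pairs p q ∧ v.length < l.length ∧
      Red b₀ (v ++ nm a x (altB (decide (braidLen p q % 2 = 0)) (braidLen p q - 1))) ∧
      wprod D.P (v ++ nm a x (altB (decide (braidLen p q % 2 = 0)) (braidLen p q - 1))) = wprod D.P l ∧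
      wprod D.P v • (if !decide (braidLen p q % 2 = 0) then x else a) = c := by
  haveI := D.fintypeIdx
  obtain ⟨x, hx, hwx⟩ : ∃ x ∈ b₀.support, wprod D.P l • x ∉ RedSub.posRoots D.P b₀ := by
    by_contra h
    push Not at h
    have h1 := eq_one_of_mapsTo (RootComb21.isSimpleSys_support b₀) (RootDLib.wprod_mem_weyl l) h
    have h2 := hl.2
    rw [L_congr b₀ (show wprod D.P l = wprod D.P [] by rw [h1]; rfl), L_nil] at h2
    exact hne (List.length_eq_zero_iff.1 h2.symm)
  have hxa : a ≠ x := fun e => hwx (by rw [← e, he]; exact simple_pos b₀ hc)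
  have hxa' : D.P.root x ≠ -D.P.root a := fun e => by
    have := simple_pos b₀ hx
    rw [show x = ng D.P a from root_eq_ng D.P e] at this
    exact ng_not_pos b₀ (simple_pos b₀ ha) this
  obtain ⟨p, q, hp, hq, h⟩ := pairs ha hx hxa
  set m := braidLen p q with hm
  have hK : ∀ k < m - 1, (wprod D.P l.reverse)⁻¹ •
      (wprod D.P (nm a x (altB true k)) • (if (if k % 2 = 0 then true else !true) then x else a)) ∉
        RedSub.posRoots D.P b₀ := by
    intro k hk
    rw [wprod_reverse', _root_.inv_inv]
    refine neg_span hc he hwx hxa' (prefix_table' h k hk) (root_fl hp hq _ _)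
  obtain ⟨v, hv, hev⟩ := exists_peel b₀ ha hx true hl.reverse (m - 1) hK
  have hr := hv.reverse b₀
  have hrev : (nm a x (altB true (m - 1))).reverse = nm a x (altB (decide (m % 2 = 0)) (m - 1)) := by
    rw [nm, ← List.map_reverse, (rev_table h).1]
  rw [List.reverse_append, hrev] at hr
  have hew : wprod D.P (v.reverse ++ nm a x (altB (decide (m % 2 = 0)) (m - 1))) = wprod D.P l := by
    rw [← hrev, ← List.reverse_append, wprod_reverse', hev, wprod_reverse', _root_.inv_inv]
  refine ⟨x, p, q, v.reverse, hx, hxa, hp, hq, h, ?_, hr, hew, ?_⟩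
  · have h1 : (v.reverse ++ nm a x (altB (decide (m % 2 = 0)) (m - 1))).length = l.length := by
      rw [← hr.2, ← hl.2, L_congr b₀ hew]
    simp only [List.length_append, nm, List.length_map, length_altB] at h1
    have : 2 ≤ m := by
      rw [hm]; unfold braidLen; split_ifs <;> omega
    omega
  · have h1 := smul_end hp hq h (decide (m % 2 = 0))
    rw [(rev_table h).2] at h1
    rw [← he, ← hew, wprod_append, mul_smul]
    congr 1
    exact h1.symm

end Groth.Agent.PMor16
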