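import Groth.Agent.Lib.PMor16.Hom
import Groth.Agent.Lib.RootD.PMor

/-!
# The data of a `p`-morphism of pinned root data
-/

set_option autoImplicit false
set_option linter.style.haveILetI false
set_option linter.unusedSimpArgs false
set_option linter.unusedSectionVars false
set_option backward.isDefEq.respectTransparency false
set_option backward.isDefEq.respectTransparency.types false

universe u

open CategoryTheory CategoryTheory.Limits MonoidalCategory CartesianMonoidalCategory MonObj AlgebraicGeometry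

noncomputable section

namespace Groth.Agent.PMor16

open DiagGL RootDLib RedCell16
open RankOne (P A)

variable {S : Scheme.{u}} {G G' : Over S} [GrpObj G] [GrpObj G']
variable (D : Red.SplitRed G) (D' : Red.SplitRed G') (hM : D'.M →ₗ[ℤ] D.M)

/-- The map of tori. -/
abbrev phi : D.T ⟶ D'.T :=
  D.split.hom.hom.hom ≫ Red.DSmap S hM.toAddMonoidHom ≫ D'.split.inv.hom.hom

theorem ch_phi {X : Over S} (t : X ⟶ D.T) (w : D'.M) :
    (chars D').ch (t ≫ phi D D' hM) (Multiplicative.ofAdd w) = (chars D).ch t (Multiplicative.ofAdd (hM w)) := by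
  show (charsDS S D'.M).ch ((t ≫ phi D D' hM) ≫ D'.split.hom.hom.hom) (Multiplicative.ofAdd w) = _
  have e : D'.split.inv.hom.hom ≫ D'.split.hom.hom.hom = 𝟙 _ :=
    congrArg (fun f => f.hom.hom) D'.split.inv_hom_id
  simp only [phi, Category.assoc, e, Category.comp_id]
  rw [← Category.assoc, DSmap_ch]
  rfl

theorem isMonHom_phi : IsMonHom (phi D D' hM) :=
  TorsorSch25.isMonHom_of_points (G := D.T) (G' := D'.T) (phi D D' hM) fun X x y => (chars D').inj fun w => by
    rw [(chars D').mul, show w = Multiplicative.ofAdd w.toAdd from rfl, ch_phi, ch_phi, ch_phi, (chars D).mul]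

variable {D D' hM} {b : D.P.Base} {b' : D'.P.Base}
variable {d : D.idx ≃ D'.idx} {q : D.idx → ℕ} {p : ℕ}

theorem add_pow_of (hp : ∀ (X : Over S) (a b : Γ(X.left, ⊤)), (a + b) ^ p = a ^ p + b ^ p) (n : ℕ)
    (X : Over S) (x y : Γ(X.left, ⊤)) : (x + y) ^ p ^ n = x ^ p ^ n + y ^ p ^ n := by
  induction n with
  | zero => simp
  | succ n ih => rw [pow_succ, pow_mul, ih, hp, ← pow_mul, ← pow_mul]

theorem natCast_eq_zero_of (hp : ∀ (X : Over S) (a b : Γ(X.left, ⊤)), (a + b) ^ p = a ^ p + b ^ p) {k : ℕ}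
    (hk : k = 2 ∨ k = 3) (hpk : p = k) (X : Over S) : (k : Γ(X.left, ⊤)) = 0 := by
  subst hpk
  rcases hk with rfl | rfl
  · have h := hp X 1 1
    norm_num at h
    push_cast
    linear_combination h
  · have h := (quad_eq_zero (fun Y : Over S => (3 : Γ(Y.left, ⊤))) (fun Y : Over S => (3 : Γ(Y.left, ⊤)))
      (fun Y Y' g => map_ofNat _ 3) (fun Y Y' g => map_ofNat _ 3) (fun Y u => by
        have h' := hp Y 1 u
        linear_combination h') X).1
    exact_mod_cast h

theorem eq_of_pow_eq_mul {k i j : ℕ} (hk : k.Prime) (hp0 : 0 < p) (h : p ^ i = k * p ^ j) : p = k := by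
  have hp1 : p ≠ 1 := fun e => by
    rw [e, one_pow, one_pow, _root_.mul_one] at h
    exact hk.one_lt.ne h
  rcases Nat.lt_or_ge j i with hij | hij
  · obtain ⟨e, rfl⟩ := Nat.exists_eq_add_of_lt hij
    have h2 : p ^ (e + 1) = k := by
      have h3 : p ^ j * p ^ (e + 1) = p ^ j * k := by rw [← pow_add, ← Nat.add_assoc, h, Nat.mul_comm]
      exact Nat.eq_of_mul_eq_mul_left (pow_pos hp0 j) h3
    rcases hk.eq_one_or_self_of_dvd p (h2 ▸ dvd_pow_self p (Nat.succ_ne_zero e)) with h4 | h4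
    · exact absurd h4 hp1
    · exact h4
  · exfalso
    have := Nat.pow_le_pow_right hp0 hij
    have := hk.two_le
    have := pow_pos hp0 j
    nlinarith

theorem exists_mor [D.P.IsReduced] (hE : ∀ a ∈ b.support, DualPair D a) (hE' : ∀ a ∈ b'.support, DualPair D' a)
    (hp0 : 0 < p) (hp : ∀ (X : Over S) (a b : Γ(X.left, ⊤)), (a + b) ^ p = a ^ p + b ^ p)
    (hq : ∀ a, ∃ n : ℕ, q a = p ^ n)
    (hroot : ∀ a, hM (D'.P.root (d a)) = (q a : ℤ) • D.P.root a)
    (hcoroot : ∀ a, hM.dualMap (D.P.coroot a) = (q a : ℤ) • D'.P.coroot (d a))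
    (hΔ : ∀ a ∈ b.support, d a ∈ b'.support) :
    ∃ m : Mor D b D' b', m.φ = phi D D' hM ∧ m.d = d ∧ m.q = q := by
  haveI := D.fintypeIdx
  have hq0 : ∀ a, 0 < q a := fun a => by
    obtain ⟨n, hn⟩ := hq a
    exact hn ▸ pow_pos hp0 n
  have hfg : ∀ (w : D'.M) (n : Module.Dual ℤ D.M),
      D.P.toLinearMap (hM w) n = D'.P.toLinearMap w (hM.dualMap n) := fun w n => by
    rw [D.pairing_eq, D'.pairing_eq]
    rfl
  refine ⟨{
    φ := phi D D' hM
    d := d
    q := q
    q_pos := hq0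
    add_pow := fun a X x y => by
      obtain ⟨n, hn⟩ := hq a
      rw [hn]
      exact add_pow_of hp n X x y
    d_refl := fun c e => (pmor_reflectionPerm hfg hroot hcoroot hq0 c e).2
    q_refl := fun c e => (pmor_reflectionPerm hfg hroot hcoroot hq0 c e).1
    pairing_q := fun i j => pmor_pairing hfg hroot hcoroot i j
    base := hΔ
    dual := hE
    dual' := hE'
    φ_hom := isMonHom_phi D D' hM
    rt_φ := fun X t c => by
      rw [rt_eq_ch, rt_eq_ch, ch_phi, hroot, natCast_zsmul, ofAdd_nsmul, map_pow]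
    φ_co := fun c X v => (chars D').inj fun w => by
      rw [show w = Multiplicative.ofAdd w.toAdd from rfl, ← Category.assoc, ch_phi, ch_coChar, ch_coChar,
        GmPts.unitOfPt_ptOfUnit, GmPts.unitOfPt_ptOfUnit]
      have e : co D c (hM w.toAdd) = (q c : ℤ) * co D' (d c) w.toAdd :=
        congrArg (fun f : Module.Dual ℤ D'.M => f w.toAdd) (hcoroot c)
      rw [e, zpow_mul, zpow_natCast]
    char_ratio := fun a c k hk h X => by
      obtain ⟨i, hi⟩ := hq a
      obtain ⟨j, hj⟩ := hq c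
      rw [hi, hj] at h
      exact natCast_eq_zero_of hp hk
        (eq_of_pow_eq_mul (by rcases hk with rfl | rfl <;> norm_num) hp0 h) X }, rfl, rfl, rfl⟩

/-- Existence and uniqueness of the homomorphism. -/
theorem existsUnique_hom [D.P.IsReduced] [D'.P.IsReduced] (hE : ∀ a ∈ b.support, DualPair D a)
    (hE' : ∀ a ∈ b'.support, DualPair D' a)
    (hp0 : 0 < p) (hp : ∀ (X : Over S) (a b : Γ(X.left, ⊤)), (a + b) ^ p = a ^ p + b ^ p)
    (hq : ∀ a, ∃ n : ℕ, q a = p ^ n)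
    (hroot : ∀ a, hM (D'.P.root (d a)) = (q a : ℤ) • D.P.root a)
    (hcoroot : ∀ a, hM.dualMap (D.P.coroot a) = (q a : ℤ) • D'.P.coroot (d a))
    (hΔ : ∀ a ∈ b.support, d a ∈ b'.support) :
    ∃! f : G ⟶ G', IsMonHom f ∧
      D.i ≫ f = D.split.hom.hom.hom ≫ Red.DSmap S hM.toAddMonoidHom ≫ D'.split.inv.hom.hom ≫ D'.i ∧
      ∀ a ∈ b.support, ∀ (X : Over S) (x y : X ⟶ Red.Ga S), Red.gaFn y = Red.gaFn x ^ q a →
        (x ≫ D.u a) ≫ f = y ≫ D'.u (d a) ∧
          (x ≫ D.u (D.P.reflectionPerm a a)) ≫ f = y ≫ D'.u (D'.P.reflectionPerm (d a) (d a)) := by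
  obtain ⟨m, h1, h2, h3⟩ := exists_mor hE hE' hp0 hp hq hroot hcoroot hΔ
  obtain ⟨F, hF, hT, hU⟩ := m.exists_hom
  rw [h1] at hT
  rw [h2, h3] at hU
  have hT' : D.i ≫ F = D.split.hom.hom.hom ≫ Red.DSmap S hM.toAddMonoidHom ≫ D'.split.inv.hom.hom ≫ D'.i :=
    hT.trans (by simp only [phi, Category.assoc])
  refine ⟨F, ⟨hF, hT', fun a ha X x y hy => ?_⟩, ?_⟩
  · rw [RankOne.comp_eq_P _ x, RankOne.comp_eq_P _ y, RankOne.comp_eq_P (D.u (D.P.reflectionPerm a a)) x,
      RankOne.comp_eq_P (D'.u (D'.P.reflectionPerm (d a) (d a))) y, hy]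
    exact hU a ha X (Red.gaFn x)
  · rintro f ⟨hf, hfT, hfU⟩
    haveI := hf
    haveI := hF
    refine hom_ext_simple D b f F (hfT.trans hT'.symm) fun a ha => ?_
    obtain ⟨e1, e2⟩ := hfU a ha (Red.Ga S) (𝟙 _) (GaPts.ptOfFn (Red.gaFn (𝟙 (Red.Ga S)) ^ q a))
      (GaPts.gaFn_ptOfFn _)
    obtain ⟨u1, u2⟩ := hU a ha (Red.Ga S) (Red.gaFn (𝟙 (Red.Ga S)))
    simp only [RankOne.comp_eq_P (D.u a), RankOne.comp_eq_P (D.u (D.P.reflectionPerm a a))] at e1 e2
    exact ⟨by rw [← Category.id_comp (D.u a), RankOne.comp_eq_P, e1, u1]; rfl,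
      by rw [← Category.id_comp (D.u (D.P.reflectionPerm a a)), RankOne.comp_eq_P, e2, u2]; rfl⟩

end Groth.Agent.PMor16
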