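import Groth.Agent.Lib.CartanRel21.Basic
import Groth.Agent.Lib.RankOne16.Centr
import Groth.Agent.Lib.MTRigid29.MTFlat
import Groth.Agent.Lib.MTRigid29.SubgrpEqvGlobal
import Groth.Agent.Lib.MTRigid29.CentralizerNormalizer
import Groth.Agent.Lib.QuotFlat20.Basic
import Groth.Agent.Lib.MTRigid29.QuotTorus
import Groth.Agent.S5431

/-!
# A central torus lies in the maximal torus of the centre
-/

set_option autoImplicit false
set_option linter.style.haveILetI false
set_option linter.unusedSectionVars false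
set_option backward.isDefEq.respectTransparency false
set_option backward.isDefEq.respectTransparency.types false
set_option maxSynthPendingDepth 3

universe u

open CategoryTheory CategoryTheory.Limits MonoidalCategory CartesianMonoidalCategory MonObj AlgebraicGeometry

noncomputable section

namespace Groth.Agent.PMor16

open DiagGL MTRigid29

section Field

variable {k : Type u} [Field k] [IsAlgClosed k]

/-- Over an algebraically closed field a torus with values in a commutative subgroup lies in a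
maximal torus of that subgroup. -/
theorem field_factor {C ZZ R Q : Over (Spec (CommRingCat.of k))} [GrpObj C] [GrpObj ZZ] [GrpObj R] [GrpObj Q]
    [LocallyOfFiniteType C.hom] (j : ZZ ⟶ C) [IsMonHom j] [Mono j] (r : R ⟶ ZZ) [IsMonHom r]
    (hR : Red.IsTorus R) (hQ : Red.IsTorus Q) (f : Q ⟶ ZZ) [IsMonHom f]
    (hc : ∀ (X : Over (Spec (CommRingCat.of k))) (a b : X ⟶ ZZ), a * b = b * a)
    (hmax : ∀ (T' : Over (Spec (CommRingCat.of k))) [GrpObj T'] (m : T' ⟶ ZZ) [IsMonHom m] [Mono m] (g : R ⟶ T'),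
      Red.IsTorus T' → g ≫ m = r → IsIso g) :
    ∃ l : Q ⟶ R, l ≫ r = f := by
  have hP := AttrBorel21.isTorus_tensor hR hQ
  obtain ⟨hPa, hPs, -, -⟩ := TorPts21.props_of_isTorus hP
  haveI := hPa
  haveI := hPs
  let F' : R ⊗ Q ⟶ ZZ := (fst R Q ≫ r) * (snd R Q ≫ f)
  have hF : ∀ {X : Over (Spec (CommRingCat.of k))} (x : X ⟶ R ⊗ Q),
      x ≫ F' = ((x ≫ fst R Q) ≫ r) * ((x ≫ snd R Q) ≫ f) := fun x => by
    simp only [F', MonObj.comp_mul, Category.assoc]
  haveI : IsMonHom F' := TorsorSch25.isMonHom_of_points F' fun X x y => by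
    rw [hF, hF, hF, MonObj.mul_comp x y (fst R Q), MonObj.mul_comp x y (snd R Q), MonObj.mul_comp, MonObj.mul_comp]
    simp only [_root_.mul_assoc]
    congr 1
    rw [← _root_.mul_assoc, hc X ((y ≫ fst R Q) ≫ r) ((x ≫ snd R Q) ≫ f), _root_.mul_assoc]
  haveI : IsSeparated C.hom := AbRigid.isSeparated_of_grpObj C
  haveI : IsClosedImmersion (η[C]).left :=
    isClosedImmersion_of_comp_eq_id C.hom (η[C]).left (Over.w η[C])
  obtain ⟨K, _, kk, w, hkm, hkc, hK⟩ := TorPts21.exists_subgroup_inter (F' ≫ j) η[C]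
  haveI := hkm
  haveI := hkc
  have hu : w = toUnit K := toUnit_unique _ _
  subst hu
  haveI : LocallyOfFinitePresentation K.hom := by
    rw [← Over.w kk]
    haveI : LocallyOfFiniteType (kk.left ≫ (R ⊗ Q).hom) := inferInstance
    exact LocallyOfFinitePresentation.iff_locallyOfFiniteType.2 inferInstance
  haveI : Mono kk := Over.mono_of_mono_left kk
  have hKm := MTRigid29.isMultTypeFT_of_closedSubgroup K (R ⊗ Q) (TorPts21.isMultTypeFT_of_isTorus hP) kk hkc
    inferInstance inferInstance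
  haveI : LocallyOfFinitePresentation (R ⊗ Q).hom := inferInstance
  obtain ⟨T', _, q, hqm, hq, -, m, hm, hmono, hqf⟩ :=
    QuotFlat20.exists_kernelQuotient (.inl inferInstance) (F' ≫ j) kk hK inferInstance
  haveI := hqm
  haveI := hq.1
  haveI := hq.2.1
  haveI := hq.2.2.1
  obtain ⟨m', hm', hqm'⟩ := exists_desc_hom q F' fun a b hab => (cancel_mono j).1 (by
    rw [Category.assoc, Category.assoc, ← hqf, ← Category.assoc, hab, Category.assoc])
  haveI := hm'
  haveI : Epi q := by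
    haveI : Epi q.left := Flat.epi_of_flat_of_surjective _
    exact Over.epi_of_epi_left q
  have hmj : m' ≫ j = m := (cancel_epi q).1 (by rw [← Category.assoc, hqm', hqf])
  haveI : Mono m' := by
    haveI := hmono
    haveI : Mono (m' ≫ j) := by rw [hmj]; infer_instance
    exact mono_of_mono m' j
  let g₁ : R ⟶ T' := lift (𝟙 R) 1 ≫ q
  let g₂ : Q ⟶ T' := lift 1 (𝟙 Q) ≫ q
  have h₁ : g₁ ≫ m' = r := by
    rw [Category.assoc, hqm', hF, lift_fst, lift_snd, Category.id_comp, MonObj.one_comp, _root_.mul_one]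
  have h₂ : g₂ ≫ m' = f := by
    rw [Category.assoc, hqm', hF, lift_fst, lift_snd, Category.id_comp, MonObj.one_comp, _root_.one_mul]
  haveI : IsIso g₁ := hmax T' m' g₁ (MTRigid29.isTorus_quotient hP kk hKm q hq) h₁
  exact ⟨g₂ ≫ inv g₁, by rw [← h₂, ← h₁, Category.assoc, IsIso.inv_hom_id_assoc]⟩

end Field

variable {S : Scheme.{u}}

/-- A product of groups of multiplicative type is of multiplicative type. -/
theorem isMultTypeFT_tensor {R Q : Over S} [GrpObj R] [GrpObj Q] (hR : SGA3x.IsMultTypeFT R)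
    (hQ : SGA3x.IsMultTypeFT Q) : SGA3x.IsMultTypeFT (R ⊗ Q) := by
  haveI := flat_of_isMultTypeFT hR
  haveI := isAffineHom_of_isMultTypeFT hR
  haveI : Surjective R.hom := ⟨fun s => ⟨(η[R]).left s, by
    rw [← Scheme.Hom.comp_apply, Over.w]; rfl⟩⟩
  have hp : IsPullback (fst R Q).left (snd R Q).left R.hom Q.hom := by
    simpa using IsPullback.of_hasPullback R.hom Q.hom
  haveI : Flat (snd R Q).left := MorphismProperty.of_isPullback hp ‹Flat R.hom›
  haveI : Surjective (snd R Q).left := MorphismProperty.of_isPullback hp ‹Surjective R.hom›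
  haveI : QuasiCompact (snd R Q).left := MorphismProperty.of_isPullback hp (inferInstance : QuasiCompact R.hom)
  haveI hι : IsMonHom (lift (𝟙 R) (1 : R ⟶ Q)) := TorsorSch25.isMonHom_of_points _ fun X x y =>
    CartesianMonoidalCategory.hom_ext _ _
      (by simp [MonObj.mul_comp]) (by simp [MonObj.mul_comp, MonObj.comp_one])
  refine @S5431.result S (R ⊗ Q) R Q _ _ _ (snd R Q) _ _ _ _ (lift (𝟙 R) (1 : R ⟶ Q)) hι ?_ hR hQ (.inl ⟨?_⟩)
  · refine ⟨⟨by rw [lift_snd, Hom.one_def]⟩, ⟨PullbackCone.IsLimit.mk _ (fun c => c.fst ≫ fst R Q)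
      (fun c => ?_) (fun c => toUnit_unique _ _) (fun c z hz _ => ?_)⟩⟩
    · refine CartesianMonoidalCategory.hom_ext _ _ (by simp) ?_
      rw [Category.assoc, lift_snd, MonObj.comp_one, Hom.one_def, c.condition, toUnit_unique c.snd (toUnit _)]
    · rw [← hz]; simp
  · have hcomm : ∀ {X : Over S} (a b : X ⟶ R ⊗ Q), a * b = b * a := fun a b =>
      CartesianMonoidalCategory.hom_ext _ _
        (by rw [MonObj.mul_comp, MonObj.mul_comp]; exact commute_of_isMultTypeFT hR _ _)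
        (by rw [MonObj.mul_comp, MonObj.mul_comp]; exact commute_of_isMultTypeFT hQ _ _)
    have h := hcomm (snd (R ⊗ Q) (R ⊗ Q)) (fst (R ⊗ Q) (R ⊗ Q))
    rw [Hom.mul_def, Hom.mul_def, lift_fst_snd, Category.id_comp] at h
    rw [← h]
    congr 1

set_option maxHeartbeats 1600000 in
/-- A torus mapping into the centre factors through the maximal torus of the centre. -/
theorem factor_maximalTorus {C ZZ R Q : Over S} [GrpObj C] [GrpObj ZZ] [GrpObj R] [GrpObj Q]
    [LocallyOfFiniteType C.hom] [IsSeparated C.hom] (j : ZZ ⟶ C) (hj : Red.IsCentre j) (r : R ⟶ ZZ)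
    (hR : Red.IsMaximalTorus r) (hQ : Red.IsTorus Q) (f : Q ⟶ ZZ) [IsMonHom f] :
    ∃ l : Q ⟶ R, l ≫ r = f := by
  obtain ⟨hjm, hjmono, hiff⟩ := hj
  obtain ⟨hrm, hrmono, hRt, hmax⟩ := hR
  haveI := hjm; haveI := hjmono; haveI := hrm; haveI := hrmono
  have hcen : ∀ {X : Over S} (z : X ⟶ ZZ) (g : X ⟶ C), g * (z ≫ j) = (z ≫ j) * g := fun {X} z g => by
    have h := (hiff X (z ≫ j)).1 ⟨z, rfl⟩ X (𝟙 X) g
    simpa using h.symm
  have hcomm : ∀ {X : Over S} (a b : X ⟶ ZZ), a * b = b * a := fun a b =>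
    (cancel_mono j).1 (by rw [MonObj.mul_comp, MonObj.mul_comp, hcen b (a ≫ j)])
  have hRm := TorPts21.isMultTypeFT_of_isTorus hRt
  have hQm := TorPts21.isMultTypeFT_of_isTorus hQ
  haveI := isAffineHom_of_isMultTypeFT hQm
  haveI := lfp_of_isMultTypeFT hQm
  let F : R ⊗ Q ⟶ ZZ := (fst R Q ≫ r) * (snd R Q ≫ f)
  let i₁ : R ⊗ Q ⟶ C ⊗ Q := lift (F ≫ j) (snd R Q)
  let i₂ : R ⊗ Q ⟶ C ⊗ Q := lift (fst R Q ≫ r ≫ j) (snd R Q)
  have hF : ∀ {X : Over S} (x : X ⟶ R ⊗ Q), x ≫ F = ((x ≫ fst R Q) ≫ r) * ((x ≫ snd R Q) ≫ f) := fun x => by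
    simp only [F, MonObj.comp_mul, Category.assoc]
  haveI hFm : IsMonHom F := TorsorSch25.isMonHom_of_points F fun X x y => by
    rw [hF, hF, hF, MonObj.mul_comp x y (fst R Q), MonObj.mul_comp x y (snd R Q), MonObj.mul_comp, MonObj.mul_comp]
    simp only [_root_.mul_assoc]
    congr 1
    rw [← _root_.mul_assoc, hcomm ((y ≫ fst R Q) ≫ r) ((x ≫ snd R Q) ≫ f), _root_.mul_assoc]
  haveI hm₁ : IsMonHom i₁ := TorsorSch25.isMonHom_of_points _ fun X x y =>
    CartesianMonoidalCategory.hom_ext _ _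
      (by simp [i₁, MonObj.mul_comp])
      (by simp [i₁, MonObj.mul_comp])
  haveI hm₂ : IsMonHom i₂ := TorsorSch25.isMonHom_of_points _ fun X x y =>
    CartesianMonoidalCategory.hom_ext _ _
      (by simp [i₂, MonObj.mul_comp])
      (by simp [i₂, MonObj.mul_comp])
  haveI : Mono i₂ := ⟨fun {X} x y h => by
    have h1 := congrArg (· ≫ fst C Q) h
    have h2 := congrArg (· ≫ snd C Q) h
    simp only [i₂, Category.assoc, lift_fst, lift_snd] at h1 h2
    exact CartesianMonoidalCategory.hom_ext _ _ ((cancel_mono r).1 ((cancel_mono j).1 (by simpa using h1))) h2⟩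
  haveI : Mono i₁ := ⟨fun {X} x y h => by
    have h1 := congrArg (· ≫ fst C Q) h
    have h2 := congrArg (· ≫ snd C Q) h
    simp only [i₁, Category.assoc, lift_fst, lift_snd] at h1 h2
    have h3 := (cancel_mono j).1 (show (x ≫ F) ≫ j = (y ≫ F) ≫ j by simpa using h1)
    rw [hF, hF, h2] at h3
    exact CartesianMonoidalCategory.hom_ext _ _ ((cancel_mono r).1 (mul_right_cancel h3)) h2⟩
  haveI : Mono i₁.left := Over.mono_left_of_mono i₁
  haveI : Mono i₂.left := Over.mono_left_of_mono i₂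
  have hp : IsPullback (fst C Q).left (snd C Q).left C.hom Q.hom := by
    simpa using IsPullback.of_hasPullback C.hom Q.hom
  haveI : LocallyOfFiniteType (C ⊗ Q).hom := by
    haveI : LocallyOfFiniteType (snd C Q).left := MorphismProperty.of_isPullback hp ‹LocallyOfFiniteType C.hom›
    rw [← Over.w (snd C Q)]; infer_instance
  haveI : IsSeparated (C ⊗ Q).hom := by
    haveI : IsSeparated (snd C Q).left := MorphismProperty.of_isPullback hp ‹IsSeparated C.hom›
    rw [← Over.w (snd C Q)]; infer_instance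
  have hcentral : ∀ (X : Over S) (g : X ⟶ C ⊗ Q) (h : X ⟶ R ⊗ Q), g * (h ≫ i₁) = (h ≫ i₁) * g := fun X g h => by
    refine CartesianMonoidalCategory.hom_ext _ _ ?_ ?_
    · rw [MonObj.mul_comp, MonObj.mul_comp, show (h ≫ i₁) ≫ fst C Q = (h ≫ F) ≫ j by simp [i₁]]
      exact hcen _ _
    · rw [MonObj.mul_comp, MonObj.mul_comp]
      exact commute_of_isMultTypeFT hQm _ _
  obtain ⟨U, -, hU, hUe⟩ := good_id (i₁ := i₁) (i₂ := i₂)
    ⟨inferInstance, inferInstance, inferInstance, inferInstance, isMultTypeFT_tensor hRm hQm,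
      isMultTypeFT_tensor hRm hQm, hcentral, pairFG_of_base i₁ i₂ (.inr inferInstance)⟩
  -- agreement on every geometric fibre
  have hgeom : ∀ s : S, Eqv i₁ i₂ (Red.geomPt s) := by
    intro s
    let φ := Red.geomPt s
    haveI : LocallyOfFiniteType (Red.bc φ C).hom := inferInstanceAs (LocallyOfFiniteType (pullback.snd C.hom φ))
    haveI : IsMonHom ((Over.pullback φ).map j) := MTRigid29.isMonHom_map j φ
    haveI : IsMonHom ((Over.pullback φ).map r) := MTRigid29.isMonHom_map r φ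
    haveI : IsMonHom ((Over.pullback φ).map f) := MTRigid29.isMonHom_map f φ
    haveI : Mono ((Over.pullback φ).map j) := Functor.map_mono _ _
    obtain ⟨l₀, hl₀⟩ := field_factor ((Over.pullback φ).map j) ((Over.pullback φ).map r)
      (TorusHom19.isTorus_bc hRt φ) (TorusHom19.isTorus_bc hQ φ) ((Over.pullback φ).map f)
      (fun Y a b => fl_injective φ ZZ (by rw [fl_mul, fl_mul, hcomm]))
      (fun T' _ m _ _ g hT' hg => hmax s T' m g hT' hg)
    have hpt : ∀ (Y : Over (Spec (CommRingCat.of (AlgebraicClosure (S.residueField s))))) (a : (Over.map φ).obj Y ⟶ Q),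
        ∃ b : (Over.map φ).obj Y ⟶ R, b ≫ r = a ≫ f := fun Y a => by
      obtain ⟨a', ha'⟩ := fl_surjective φ Q a
      exact ⟨fl φ R (a' ≫ l₀), by rw [← fl_comp_map, Category.assoc, hl₀, fl_comp_map, ha']⟩
    constructor <;> intro X t x hx
    · let h : (Over.map φ).obj (Over.mk t) ⟶ R ⊗ Q := Over.homMk x hx
      obtain ⟨b, hb⟩ := hpt _ (h ≫ snd R Q)
      refine ⟨(lift ((h ≫ fst R Q) * b) (h ≫ snd R Q) : _ ⟶ R ⊗ Q).left, ?_⟩
      have hh : lift ((h ≫ fst R Q) * b) (h ≫ snd R Q) ≫ i₂ = h ≫ i₁ := by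
        refine CartesianMonoidalCategory.hom_ext _ _ ?_ (by simp [i₁, i₂])
        simp only [i₁, i₂, Category.assoc, lift_fst]
        rw [lift_fst_assoc, ← Category.assoc, ← Category.assoc h F j, hF, MonObj.mul_comp, hb]
      exact congrArg CommaMorphism.left hh
    · let h : (Over.map φ).obj (Over.mk t) ⟶ R ⊗ Q := Over.homMk x hx
      obtain ⟨b, hb⟩ := hpt _ (h ≫ snd R Q)
      refine ⟨(lift ((h ≫ fst R Q) * b⁻¹) (h ≫ snd R Q) : _ ⟶ R ⊗ Q).left, ?_⟩
      have hh : lift ((h ≫ fst R Q) * b⁻¹) (h ≫ snd R Q) ≫ i₁ = h ≫ i₂ := by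
        refine CartesianMonoidalCategory.hom_ext _ _ ?_ (by simp [i₁, i₂])
        simp only [i₁, i₂, Category.assoc, lift_fst]
        rw [← Category.assoc, hF, lift_fst, lift_snd]
        simp only [MonObj.mul_comp, GrpObj.inv_comp, hb, Category.assoc, inv_mul_cancel_right]
      exact congrArg CommaMorphism.left hh
  have hall : ∀ s : S, s ∈ U := fun s => by
    rw [hU, Category.comp_id]
    let q : Spec (CommRingCat.of (AlgebraicClosure (S.residueField s))) ⟶ Spec (S.residueField s) :=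
      Spec.map (CommRingCat.ofHom (algebraMap (S.residueField s) (AlgebraicClosure (S.residueField s))))
    haveI : Surjective q := ⟨fun p => ⟨IsLocalRing.closedPoint (AlgebraicClosure (S.residueField s)), Subsingleton.elim _ _⟩⟩
    haveI : Flat q := (HasRingHomProperty.Spec_iff (P := @Flat)).2 (RingHom.Flat.of_isField (Field.toIsField _) _)
    exact eqv_of_flat_cover i₁ i₂ q (hgeom s)
  rw [Category.comp_id] at hUe
  have hE : Eqv i₁ i₂ (𝟙 S) := eqv_of_cover i₁ i₂ (𝟙 S) fun x =>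
    ⟨_, U.ι, inferInstance, ⟨⟨x, hall x⟩, rfl⟩, by rw [Category.comp_id]; exact hUe⟩
  let e : Q ⟶ R ⊗ Q := lift 1 (𝟙 Q)
  obtain ⟨l, hl⟩ := hE.1 Q.left Q.hom e.left ((Over.w e).trans (Category.comp_id _).symm)
  have hw : l ≫ (R ⊗ Q).hom = Q.hom := by
    rw [← Over.w i₂, ← Category.assoc, hl, Category.assoc, Over.w i₁, Over.w e]
  let L : Q ⟶ R ⊗ Q := Over.homMk l hw
  have hL : L ≫ i₂ = e ≫ i₁ := Over.OverMorphism.ext hl
  refine ⟨L ≫ fst R Q, (cancel_mono j).1 ?_⟩
  have h1 := congrArg (· ≫ fst C Q) hL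
  simp only [i₁, i₂, Category.assoc, lift_fst] at h1
  rw [← Category.assoc e F j, hF, lift_fst, lift_snd, MonObj.one_comp, _root_.one_mul, Category.id_comp] at h1
  simpa using h1

end Groth.Agent.PMor16

namespace Groth.Agent.PMor16

open DiagGL MTRigid29

variable {S : Scheme.{u}}

/-- The centraliser of a torus in a reductive group is closed. -/
theorem isClosedImmersion_centralizer {G Q Z : Over S} [GrpObj G] [GrpObj Q] [GrpObj Z] (hG : Red.IsReductive G)
    (q : Q ⟶ G) [IsMonHom q] (hQ : Red.IsTorus Q) (z : Z ⟶ G) (hZ : Red.IsCentralizerOf q z) :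
    IsClosedImmersion z.left := by
  obtain ⟨Z', _, j, hj, hjc, -⟩ :=
    exists_centralizer (isMT_of_ft (TorPts21.isMultTypeFT_of_isTorus hQ)) hG.2.1 hG.1 q
  obtain ⟨-, hzmono, hzu⟩ := hZ
  obtain ⟨-, hjmono, hju⟩ := hj
  haveI := hzmono
  haveI := hjmono
  obtain ⟨f, hf⟩ := (hju Z z).2 ((hzu Z z).1 ⟨𝟙 Z, Category.id_comp z⟩)
  obtain ⟨g, hg⟩ := (hzu Z' j).2 ((hju Z' j).1 ⟨𝟙 Z', Category.id_comp j⟩)
  haveI : IsIso f := ⟨g, (cancel_mono z).1 (by rw [Category.assoc, hg, hf, Category.id_comp]),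
    (cancel_mono j).1 (by rw [Category.assoc, hf, hg, Category.id_comp])⟩
  haveI : IsIso f.left := inferInstanceAs (IsIso ((Over.forget _).map f))
  haveI := hjc
  rw [← hf, Over.comp_left]; infer_instance

/-- A torus central in the centraliser `z` of a torus lies in the maximal torus of its centre. -/
theorem factor_radical {G Q Z ZZ R T : Over S} [GrpObj G] [GrpObj Q] [GrpObj Z] [GrpObj ZZ] [GrpObj R] [GrpObj T]
    (hG : Red.IsReductive G) (q : Q ⟶ G) [IsMonHom q] (hQ : Red.IsTorus Q) (z : Z ⟶ G)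
    (hZ : Red.IsCentralizerOf q z) (jz : ZZ ⟶ Z) (hZZ : Red.IsCentre jz) (r : R ⟶ ZZ)
    (hR : Red.IsMaximalTorus r) (hT : Red.IsTorus T) (t : T ⟶ G) [IsMonHom t]
    (hin : ∀ (X : Over S) (x : X ⟶ T) (h : X ⟶ Q), (x ≫ t) * (h ≫ q) = (h ≫ q) * (x ≫ t))
    (hcen : ∀ (X : Over S) (x : X ⟶ T) (w : X ⟶ Z), (x ≫ t) * (w ≫ z) = (w ≫ z) * (x ≫ t)) :
    ∃ l : T ⟶ R, l ≫ r ≫ jz ≫ z = t := by
  haveI := isClosedImmersion_centralizer hG q hQ z hZ
  haveI := hG.1
  haveI := hG.2.1
  haveI : LocallyOfFiniteType Z.hom := by rw [← Over.w z]; infer_instance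
  haveI : IsSeparated Z.hom := by rw [← Over.w z]; infer_instance
  obtain ⟨hzm, hzmono, hzu⟩ := hZ
  haveI := hzm
  haveI := hzmono
  obtain ⟨t₀, ht₀⟩ := (hzu T t).2 fun X' x h => hin X' x h
  haveI : IsMonHom t₀ := TorsorSch25.isMonHom_of_points t₀ fun X a b => (cancel_mono z).1 (by
    rw [Category.assoc, ht₀, MonObj.mul_comp, MonObj.mul_comp, Category.assoc, Category.assoc, ht₀])
  haveI := hZZ.1
  haveI := hZZ.2.1
  obtain ⟨t₁, ht₁⟩ := (hZZ.2.2 T t₀).2 fun X' x h => by
    refine (cancel_mono z).1 ?_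
    rw [Category.comp_id, MonObj.mul_comp, MonObj.mul_comp, Category.assoc, ht₀]
    exact hcen X' x h
  haveI : IsMonHom t₁ := TorsorSch25.isMonHom_of_points t₁ fun X a b => (cancel_mono jz).1 (by
    rw [Category.assoc, ht₁, MonObj.mul_comp, MonObj.mul_comp, Category.assoc, Category.assoc, ht₁])
  obtain ⟨l, hl⟩ := factor_maximalTorus jz hZZ r hR hT t₁
  exact ⟨l, by rw [← Category.assoc, hl, ← Category.assoc, ht₁, ht₀]⟩

end Groth.Agent.PMor16
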