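import Groth.Agent.Lib.RedCell16.BorelField
import Groth.Agent.Lib.RedCell16.PairRoots
import Groth.Agent.Lib.RedCell16.BaseExists
import Groth.Agent.Lib.RankOne16.GaFibre
import Groth.Agent.Lib.RootClosed19.Basic

/-!
# The unipotent subgroup spanned by a closed set of positive roots
-/

set_option autoImplicit false
set_option linter.style.haveILetI false
set_option linter.unusedSimpArgs false
set_option linter.unusedSectionVars false
set_option backward.isDefEq.respectTransparency false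
set_option backward.isDefEq.respectTransparency.types false

universe u

open CategoryTheory CategoryTheory.Limits MonoidalCategory CartesianMonoidalCategory MonObj AlgebraicGeometry

noncomputable section

namespace Groth.Agent.PMor16

open DiagGL RootDLib RedCell16
open RankOne (P)
open AttrBorel21 (powPt powFn powPt_powFn powFn_powPt)

variable {S : Scheme.{u}} {G : Over S} [GrpObj G] (D : Red.SplitRed G)

/-- Closed sets are stable under positive combinations. -/
theorem comb_mem_of_closed {Ψ : Set D.idx}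
    (hcl : ∀ a b c : D.idx, a ∈ Ψ → b ∈ Ψ → D.P.root a + D.P.root b = D.P.root c → c ∈ Ψ)
    (p q d : D.idx) (i j : ℕ) (hp : p ∈ Ψ) (hq : q ∈ Ψ) (h : IsComb D p q d i j) : d ∈ Ψ := by
  haveI := D.fintypeIdx
  refine mem_of_closed D.P (fun a b c ha hb h => hcl a b c ha hb h.symm) ?_
  rw [h.2.2, natCast_zsmul, natCast_zsmul]
  exact add_mem (nsmul_mem (root_mem_natSpan D.P hp) _) (nsmul_mem (root_mem_natSpan D.P hq) _)

/-- Closed sets without opposite pairs lie in a positive system. -/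
theorem exists_pos_closed [D.P.IsReduced] {Ψ : Set D.idx}
    (hcl : ∀ a b c : D.idx, a ∈ Ψ → b ∈ Ψ → D.P.root a + D.P.root b = D.P.root c → c ∈ Ψ)
    (hneg : ∀ a b : D.idx, a ∈ Ψ → D.P.root b = -D.P.root a → b ∉ Ψ) :
    ∃ b : D.P.Base, Ψ ⊆ RedSub.posRoots D.P b := by
  haveI := D.fintypeIdx
  exact RootClosed19.exists_subset_posRoots (fun a b c ha hb h => hcl a b c ha hb h.symm)
    fun a ha => hneg a _ ha (root_ng D.P a)

/-- Two monomorphisms factoring through each other have isomorphic sources. -/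
theorem exists_iso_of_mono {A B : Over S} (v : A ⟶ G) (w : B ⟶ G) [Mono v] [Mono w] (f : A ⟶ B) (hf : f ≫ w = v)
    (g : B ⟶ A) (hg : g ≫ v = w) : ∃ φ : A ≅ B, φ.hom ≫ w = v :=
  ⟨⟨f, g, by rw [← cancel_mono v, Category.assoc, hg, hf, Category.id_comp],
    by rw [← cancel_mono w, Category.assoc, hf, hg, Category.id_comp]⟩, hf⟩

theorem comp_prodMap {k : ℕ} (e : Fin k → D.idx) {X : Over S} (z : X ⟶ RedSub.pow (Red.Ga S) k) :
    z ≫ RedSub.prodMap (Red.Ga S) k (fun l => D.u (e l)) = rp D e (powFn k z) := by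
  rw [rp, powPt_powFn]

section

variable [D.P.IsReduced] (Ψ : Set D.idx)
  (hcl : ∀ a b c : D.idx, a ∈ Ψ → b ∈ Ψ → D.P.root a + D.P.root b = D.P.root c → c ∈ Ψ)
  {b : D.P.Base} (hΨ : Ψ ⊆ RedSub.posRoots D.P b) {k : ℕ} (e : Fin k → D.idx) (he : RedSub.Enumerates Ψ e)

include hcl hΨ he

theorem factor_closed {X : Over S} (g : X ⟶ G) :
    (∃ z, z ≫ RedSub.prodMap (Red.Ga S) k (fun l => D.u (e l)) = g) ↔ g ∈ gens D Ψ X := by
  constructor
  · rintro ⟨z, rfl⟩
    rw [comp_prodMap]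
    exact rp_mem_gens D _ _ fun l => he.2 ▸ Set.mem_range_self l
  · intro hg
    obtain ⟨n, m, eneg, epos, hneg, hpos⟩ := exists_enum D b
    have hg' : g ∈ fil D Ψ X b 0 := (Subgroup.closure_le _).2 (by
      rintro _ ⟨d, a, hd, rfl⟩
      exact P_mem_fil D Ψ X hd (height_pos D (hΨ hd)).le a) hg
    obtain ⟨z, -, hz⟩ := exists_rp_mul D eneg epos hneg hpos Ψ (fun _ h => hΨ h) (comb_mem_of_closed D hcl) X e
      he.2.ge le_rfl 0 (fun _ _ => rfl) hg'
    rw [rp_zero_fn, _root_.one_mul] at hz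
    exact ⟨powPt k (0 + z), hz.symm⟩

theorem rp_inj_closed {X : Over S} (v v' : Fin k → Γ(X.left, ⊤)) (h : rp D e v = rp D e v') : v = v' := by
  obtain ⟨n, m, eneg, epos, hneg, hpos⟩ := exists_enum D b
  exact rp_inj D eneg epos hneg hpos Ψ (fun _ h => hΨ h) (comb_mem_of_closed D hcl) X e he.1
    (fun l => he.2 ▸ Set.mem_range_self l) v v' h

theorem mono_prodMap_closed : Mono (RedSub.prodMap (Red.Ga S) k (fun l => D.u (e l))) := ⟨fun z z' h => by
  rw [comp_prodMap, comp_prodMap] at h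
  rw [← powPt_powFn k z, rp_inj_closed D Ψ hcl hΨ e he _ _ h, powPt_powFn]⟩

theorem exists_grpObj_closed : ∃ _ : GrpObj (RedSub.pow (Red.Ga S) k),
    IsMonHom (RedSub.prodMap (Red.Ga S) k (fun l => D.u (e l))) := by
  haveI := mono_prodMap_closed D Ψ hcl hΨ e he
  set v := RedSub.prodMap (Red.Ga S) k (fun l => D.u (e l)) with hv
  have hf : ∀ {X : Over S} (d : X ⟶ RedSub.pow (Red.Ga S) k), d ≫ v ∈ gens D Ψ X :=
    fun d => (factor_closed D Ψ hcl hΨ e he _).1 ⟨d, rfl⟩
  choose mm hm using (factor_closed D Ψ hcl hΨ e he _).2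
    (mul_mem (hf (fst (RedSub.pow (Red.Ga S) k) (RedSub.pow (Red.Ga S) k))) (hf (snd _ _)))
  choose ee hee using (factor_closed D Ψ hcl hΨ e he (1 : 𝟙_ (Over S) ⟶ G)).2 (Subgroup.one_mem _)
  choose nn hn using (factor_closed D Ψ hcl hΨ e he _).2 (inv_mem (hf (𝟙 _)))
  rw [Category.id_comp] at hn
  exact ⟨SubGrp13.grpObjOfMono v hm hee hn, SubGrp13.isMonHom_grpObjOfMono v hm hee hn⟩

theorem exists_iso_closed {k' : ℕ} (e' : Fin k' → D.idx) (he' : RedSub.Enumerates Ψ e') :
    ∃ φ : RedSub.pow (Red.Ga S) k' ≅ RedSub.pow (Red.Ga S) k,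
      φ.hom ≫ RedSub.prodMap (Red.Ga S) k (fun l => D.u (e l)) =
        RedSub.prodMap (Red.Ga S) k' (fun l => D.u (e' l)) := by
  haveI := mono_prodMap_closed D Ψ hcl hΨ e he
  haveI := mono_prodMap_closed D Ψ hcl hΨ e' he'
  obtain ⟨f, hf⟩ := (factor_closed D Ψ hcl hΨ e he _).2
    ((factor_closed D Ψ hcl hΨ e' he' _).1 ⟨𝟙 _, rfl⟩)
  obtain ⟨g, hg⟩ := (factor_closed D Ψ hcl hΨ e' he' _).2
    ((factor_closed D Ψ hcl hΨ e he _).1 ⟨𝟙 _, rfl⟩)
  rw [Category.id_comp] at hf hg
  exact exists_iso_of_mono _ _ f hf g hg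

theorem isClosedImmersion_closed :
    IsClosedImmersion (RedSub.prodMap (Red.Ga S) k (fun l => D.u (e l))).left := by
  classical
  obtain ⟨k₂, e₂, he₂⟩ := exists_enum_set D (RedSub.posRoots D.P b \ Ψ)
  let ep : Fin (k + k₂) → D.idx := Fin.append e e₂
  have hep : RedSub.Enumerates (RedSub.posRoots D.P b) ep := by
    refine ⟨Fin.append_injective_iff.2 ⟨he.1, he₂.1, fun i l h => ?_⟩, ?_⟩
    · exact (he₂.2 ▸ Set.mem_range_self l : e₂ l ∈ RedSub.posRoots D.P b \ Ψ).2 (h ▸ he.2 ▸ Set.mem_range_self i)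
    · rw [Set.range_eq_iff]
      refine ⟨fun i => ?_, fun x hx => ?_⟩
      · refine Fin.addCases (fun l => ?_) (fun l => ?_) i
        · rw [show ep (Fin.castAdd k₂ l) = e l from Fin.append_left _ _ l]; exact hΨ (he.2 ▸ Set.mem_range_self l)
        · rw [show ep (Fin.natAdd k l) = e₂ l from Fin.append_right _ _ l]
          exact (he₂.2 ▸ Set.mem_range_self l : e₂ l ∈ RedSub.posRoots D.P b \ Ψ).1
      · by_cases h : x ∈ Ψ
        · rw [← he.2] at h
          obtain ⟨l, rfl⟩ := h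
          exact ⟨_, Fin.append_left _ _ l⟩
        · obtain ⟨l, rfl⟩ : x ∈ Set.range e₂ := he₂.2.symm ▸ ⟨hx, h⟩
          exact ⟨_, Fin.append_right _ _ l⟩
  obtain ⟨n, m, eneg, epos, hneg, -⟩ := exists_enum D b
  haveI := D.maximalTorus.1
  haveI := isClosedImmersion_borelMap D eneg ep b hneg hep
  let z := powFn k (𝟙 (RedSub.pow (Red.Ga S) k))
  let s : RedSub.pow (Red.Ga S) k ⟶ D.T ⊗ RedSub.pow (Red.Ga S) (k + k₂) :=
    lift 1 (powPt (k + k₂) (Fin.append z 0))
  have hs : s ≫ RedSub.borelMap D ep = RedSub.prodMap (Red.Ga S) k (fun l => D.u (e l)) := by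
    rw [show s = mkB D 1 (Fin.append z 0) from rfl, mkB_comp, MonObj.one_comp, _root_.one_mul, rp_append,
      show (fun i => Fin.append z 0 (Fin.natAdd k i)) = (0 : Fin k₂ → Γ((RedSub.pow (Red.Ga S) k).left, ⊤)) from
        funext fun i => Fin.append_right _ _ i,
      show (fun i => Fin.append z 0 (Fin.castAdd k₂ i)) = z from funext fun i => Fin.append_left _ _ i,
      rp_zero_fn, _root_.mul_one, ← comp_prodMap, Category.id_comp]
  let r : D.T ⊗ RedSub.pow (Red.Ga S) (k + k₂) ⟶ RedSub.pow (Red.Ga S) k :=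
    powPt k fun l => powFn (k + k₂) (snd D.T (RedSub.pow (Red.Ga S) (k + k₂))) (Fin.castAdd k₂ l)
  have hsr : s ≫ r = 𝟙 _ := by
    have h1 : powPt k (fun l => powFn (k + k₂) (s ≫ snd _ _) (Fin.castAdd k₂ l)) = 𝟙 _ := by
      rw [lift_snd, powFn_powPt]
      conv_rhs => rw [← powPt_powFn k (𝟙 (RedSub.pow (Red.Ga S) k))]
      congr 1
      funext l
      exact Fin.append_left _ _ l
    refine Eq.trans ?_ h1
    rw [AttrBorel21.powPt_comp]
    congr 1
    funext l
    exact congrFun (AttrBorel21.powFn_comp (k + k₂) s (snd _ _)).symm _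
  haveI : IsSeparated (D.T ⊗ RedSub.pow (Red.Ga S) (k + k₂)).hom := by
    haveI : IsAffineHom G.hom := D.reductive.1
    rw [← Over.w (RedSub.borelMap D ep)]; infer_instance
  haveI : IsClosedImmersion s.left := RankOne16.isClosedImmersion_of_retraction s r hsr
  rw [← hs, Over.comp_left]
  infer_instance

set_option synthInstance.maxHeartbeats 200000 in
set_option maxHeartbeats 1000000 in
/-- The subgroup has no subtorus on the geometric fibres. -/
theorem hasNoSubtorus_closed [GrpObj (RedSub.pow (Red.Ga S) k)]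
    [IsMonHom (RedSub.prodMap (Red.Ga S) k (fun l => D.u (e l)))] (s : S) :
    Red.HasNoSubtorus (AlgebraicClosure (S.residueField s)) (Red.geomFibre s (RedSub.pow (Red.Ga S) k)) := by
  classical
  intro T' _ j _ _ hT'
  let K := AlgebraicClosure (S.residueField s)
  obtain ⟨hTa, hTs, -, -⟩ := TorPts21.props_of_isTorus hT'
  haveI := hTa
  haveI := hTs
  obtain ⟨r, ⟨C⟩⟩ := TorPts21.exists_chars hT'
  let DK := geomSplit D s
  haveI hredK : DK.P.IsReduced := ‹D.P.IsReduced›
  obtain ⟨n, m, eneg, epos, hneg, hpos⟩ := exists_enum DK b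
  have hΨK : ∀ d ∈ Ψ, d ∈ RedSub.posRoots DK.P b := fun _ h => hΨ h
  have hclK : ∀ p q d i j, p ∈ Ψ → q ∈ Ψ → IsComb DK p q d i j → d ∈ Ψ := comb_mem_of_closed D hcl
  let v := RedSub.prodMap (Red.Ga S) k (fun l => D.u (e l))
  haveI hvc : IsClosedImmersion v.left := isClosedImmersion_closed D Ψ hcl hΨ e he
  haveI : IsClosedImmersion ((Over.pullback (Red.geomPt s)).map v).left :=
    MorphismProperty.overPullbackMap (P := @IsClosedImmersion) (Red.geomPt s) v hvc
  haveI : Mono ((Over.pullback (Red.geomPt s)).map v) := Over.mono_of_mono_left _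
  let A := VecGrp.pt K K
  obtain ⟨B, hB⟩ := exists_height_bound DK b
  let φ : (A ⟶ T') →* (A ⟶ Red.geomFibre s G) :=
    MonoidHom.mk' (fun y => (y ≫ j) ≫ (Over.pullback (Red.geomPt s)).map v) fun y y' => by
      rw [MonObj.mul_comp, MonObj.mul_comp]
  have hinj : ∀ y, φ y = 1 → y = 1 := fun y hy => by
    haveI : IsMonHom ((Over.pullback (Red.geomPt s)).map v) := inferInstance
    have h1 : y ≫ j = 1 := (cancel_mono ((Over.pullback (Red.geomPt s)).map v)).1
      (hy.trans (MonObj.one_comp _).symm)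
    exact (cancel_mono j).1 (h1.trans (MonObj.one_comp j).symm)
  have hφ : ∀ y, φ y ∈ fil DK Ψ A b 0 := fun y => by
    have h1 : φ y = rp DK e (powFn k ((y ≫ j) ≫ (powBc (Red.geomPt s) k).hom)) := by
      show (y ≫ j) ≫ (Over.pullback (Red.geomPt s)).map v = _
      rw [map_prodMap, ← Category.assoc, rp, powPt_powFn]
    rw [h1]
    exact rp_mem_fil DK Ψ A e _ fun l hl => absurd
      ⟨(he.2 ▸ Set.mem_range_self l : e l ∈ Ψ), (height_pos DK (hΨK _ (he.2 ▸ Set.mem_range_self l))).le⟩ hl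
  -- squares move down the filtration in characteristic two, and detect it otherwise
  have hsq : ∀ h : ℤ, 0 ≤ h → ∀ w ∈ fil DK Ψ A b h,
      ((2 : Γ(A.left, ⊤)) = 0 → w * w ∈ fil DK Ψ A b (h + 1)) ∧
      (IsUnit (2 : Γ(A.left, ⊤)) → w * w = 1 → w ∈ fil DK Ψ A b (h + 1)) := by
    intro h hh w hw
    obtain ⟨z, hz, hmod⟩ := exists_rp_mod DK eneg epos hneg hpos Ψ hΨK hclK A hh e he.2.ge hw
    have hz0 : Supp DK Ψ A b e 0 z := supp_mono DK Ψ A hh hz
    have hadd := rp_add DK eneg epos hneg hpos Ψ hΨK hclK A hh e z z hz0 hz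
    set w' := (rp DK e z)⁻¹ * w with hw'
    have hmem : rp DK e z ∈ fil DK Ψ A b 0 := rp_mem_fil DK Ψ A e z hz0
    have h2 : (rp DK e (z + z))⁻¹ * (w * w) ∈ fil DK Ψ A b (h + 1) := by
      rw [show (rp DK e (z + z))⁻¹ * (w * w) = ((rp DK e z * rp DK e z)⁻¹ * rp DK e (z + z))⁻¹ *
        (((rp DK e z)⁻¹ * w' * (rp DK e z)⁻¹⁻¹) * w') by rw [hw']; group]
      exact mul_mem (inv_mem hadd) (mul_mem (conj_mem_fil DK eneg epos hneg hpos Ψ hΨK hclK A (inv_mem hmem) hmod) hmod)
    constructor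
    · intro h20
      rwa [show z + z = 0 from funext fun l => by rw [Pi.add_apply, ← two_mul, h20, zero_mul]; rfl, rp_zero_fn,
        inv_one, _root_.one_mul] at h2
    · intro hu hw2
      rw [hw2, _root_.mul_one, inv_mem_iff] at h2
      obtain ⟨z', hz', hzz⟩ := exists_rp_mul DK eneg epos hneg hpos Ψ hΨK hclK A e he.2.ge (by omega : (0:ℤ) ≤ h + 1) 0
        (fun _ _ => rfl) h2
      rw [rp_zero_fn, _root_.one_mul, zero_add] at hzz
      have h3 := rp_inj DK eneg epos hneg hpos Ψ hΨK hclK A e he.1 (fun l => he.2 ▸ Set.mem_range_self l) _ _ hzz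
      have hz1 : Supp DK Ψ A b e (h + 1) z := fun l hl => hu.mul_right_eq_zero.1 (by
        rw [two_mul]
        exact (congrFun h3 l).trans (hz' l hl))
      have h4 : rp DK e z ∈ fil DK Ψ A b (h + 1) := rp_mem_fil DK Ψ A e z hz1
      have := mul_mem h4 hmod
      rwa [hw', mul_inv_cancel_left] at this
  refine TorPts21.isTrivialGrp_of_pts fun x => ?_
  by_cases h20 : (2 : Γ(A.left, ⊤)) = 0
  · obtain ⟨y, hy⟩ := TorPts21.exists_pow_eq hT' (Nat.two_pow_pos B) x
    have key : ∀ i : ℕ, φ (y ^ (2 ^ i)) ∈ fil DK Ψ A b i := fun i => by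
      induction i with
      | zero => simpa using hφ y
      | succ i ih =>
        rw [pow_succ, pow_mul, pow_two, map_mul]
        exact_mod_cast (hsq _ (Int.natCast_nonneg i) _ ih).1 h20
    have h1 := key B
    rw [hy, fil_eq_bot DK Ψ A hB, Subgroup.mem_bot] at h1
    exact hinj _ h1
  · have hu : IsUnit (2 : Γ(A.left, ⊤)) :=
      RankOne16.isUnit_of_ne (x := Spec.map (CommRingCat.ofHom (algebraMap K K))) h20
    rcases Nat.eq_zero_or_pos r with hr | hr
    · subst hr
      refine C.inj fun a => ?_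
      rw [show a = 1 from Multiplicative.toAdd.injective (Subsingleton.elim _ _), map_one, map_one]
    · exfalso
      obtain ⟨y, hy⟩ := C.surj (T := A) ((Units.coeHom _).comp (MonoidHom.mk'
        (fun a : Multiplicative (Fin r → ℤ) => (-1 : (Γ(A.left, ⊤))ˣ) ^ a.toAdd ⟨0, hr⟩) fun a b => by
          simp only [toAdd_mul, Pi.add_apply, zpow_add]))
      have hy2 : y * y = 1 := by
        refine C.inj fun a => ?_
        rw [C.mul, hy, C.one]
        show ((((-1 : (Γ(A.left, ⊤))ˣ) ^ a.toAdd ⟨0, hr⟩) : (Γ(A.left, ⊤))ˣ) : Γ(A.left, ⊤)) * _ = 1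
        rw [MonoidHom.comp_apply, MonoidHom.mk'_apply, Units.coeHom_apply, ← Units.val_mul,
          ← mul_zpow, neg_mul_neg]
        simp
      have hsq2 : φ y * φ y = 1 := by rw [← map_mul, hy2, map_one]
      have key : ∀ i : ℕ, φ y ∈ fil DK Ψ A b i := fun i => by
        induction i with
        | zero => simpa using hφ y
        | succ i ih => exact_mod_cast (hsq _ (Int.natCast_nonneg i) _ ih).2 hu hsq2
      have h1 := key B
      rw [fil_eq_bot DK Ψ A hB, Subgroup.mem_bot] at h1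
      have h3 := C.one A (Multiplicative.ofAdd (Pi.single ⟨0, hr⟩ 1))
      rw [← hinj _ h1, hy] at h3
      simp at h3
      exact h20 (by linear_combination -h3)

omit hcl hΨ he in
theorem connectedSpace_geomFibre_pow (s : S) : ConnectedSpace (Red.geomFibre s (RedSub.pow (Red.Ga S) k)).left := by
  haveI := connectedSpace_powGa (K := AlgebraicClosure (S.residueField s)) k
  haveI : IsIso (powBc (Red.geomPt s) k).inv.left := inferInstanceAs (IsIso ((Over.forget _).map _))
  exact (powBc (Red.geomPt s) k).inv.left.surjective.connectedSpace (powBc (Red.geomPt s) k).inv.left.continuous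

end

end Groth.Agent.PMor16
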