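import Groth.Agent.Lib.PMor16.Coradical
import Groth.Agent.Lib.RedCell16.Extend
import Groth.Agent.Lib.RedCell16.BorelGlobal
import Groth.Agent.Lib.MTRigid29.SplitHom
import Groth.Agent.Lib.RankOne16.CommMain
import Groth.Agent.Lib.AlgSpDescent.SchemeSmooth

/-!
# The homomorphism to the torus modulo the coroots
-/

set_option autoImplicit false
set_option linter.style.haveILetI false
set_option linter.unusedSimpArgs false
set_option linter.unusedSectionVars false
set_option backward.isDefEq.respectTransparency false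
set_option backward.isDefEq.respectTransparency.types false

universe u

open CategoryTheory CategoryTheory.Limits MonoidalCategory CartesianMonoidalCategory MonObj AlgebraicGeometry

noncomputable section

namespace Groth.Agent.PMor16

open DiagGL RedCell16
open RankOne (P A)

variable {S : Scheme.{u}} {G : Over S} [GrpObj G] (D : Red.SplitRed G)

section Lattice

variable (N : AddSubgroup D.M) (hN : ∀ x : D.M, x ∈ N ↔ ∀ c : D.idx, D.P.coroot c x = 0)

/-- The coroots as coordinates. -/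
def coCoord : D.M →ₗ[ℤ] (D.idx → ℤ) := LinearMap.pi fun c => D.P.coroot c

include hN in
theorem exists_proj : ∃ π : D.M →+ N, ∀ x : N, π x = x := by
  haveI := D.fintypeIdx
  obtain ⟨s, hs⟩ := Module.projective_lifting_property (coCoord D).rangeRestrict LinearMap.id
    (coCoord D).surjective_rangeRestrict
  have hmem : ∀ m, m - s ((coCoord D).rangeRestrict m) ∈ N := fun m => (hN _).2 fun c => by
    have h := congrArg (fun v : (coCoord D).range => (v : D.idx → ℤ) c) (LinearMap.congr_fun hs ((coCoord D).rangeRestrict m))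
    simp only [LinearMap.comp_apply, LinearMap.id_apply, LinearMap.codRestrict_apply] at h
    rw [map_sub, sub_eq_zero]
    exact h.symm
  refine ⟨AddMonoidHom.mk' (fun m => ⟨_, hmem m⟩) fun a b => Subtype.ext ?_, fun x => Subtype.ext ?_⟩
  · simp only [map_add, AddSubgroup.coe_add]; abel
  · show (x : D.M) - _ = _
    rw [show (coCoord D).rangeRestrict (x : D.M) = 0 from Subtype.ext (funext fun c => (hN _).1 x.2 c), map_zero, sub_zero]

include hN in
/-- The coroots embed the quotient. -/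
theorem exists_coord_quot : ∃ φ : D.M ⧸ N →+ (D.idx → ℤ), Function.Injective φ ∧
    ∀ m c, φ (QuotientAddGroup.mk' N m) c = D.P.coroot c m := by
  refine ⟨QuotientAddGroup.lift N (coCoord D).toAddMonoidHom fun x hx => funext fun c => (hN x).1 hx c, ?_, fun m c => rfl⟩
  refine (injective_iff_map_eq_zero _).2 fun q => ?_
  induction q using QuotientAddGroup.induction_on with
  | H m => exact fun h => (QuotientAddGroup.eq_zero_iff m).2 ((hN m).2 fun c => congrFun h c)

end Lattice

section DS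

/-- A character map with injective dual map has lifts after a cover. -/
theorem exists_cover_lift {M₁ M₂ : Type} [AddCommGroup M₁] [AddCommGroup M₂] {φ : M₂ →+ M₁}
    (hφ : Function.Injective φ) {X : Over S} (q : X ⟶ Red.DS S M₂) :
    ∃ (Y : Over S) (π : Y ⟶ X) (r : Y ⟶ Red.DS S M₁), Epi π ∧ π ≫ q = r ≫ Red.DSmap S φ := by
  let R := ULift.{u} ℤ
  let f := Spec.map (CommRingCat.ofHom (MonoidAlgebra.mapDomainAlgHom R R φ.toMultiplicative).toRingHom)
  have hff := MTRigid29.faithfullyFlat_mapDomain (R := R) hφ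
  haveI : Flat f := HasRingHomProperty.Spec_iff.2 hff.flat
  haveI : Surjective f := ⟨by
    letI := (MonoidAlgebra.mapDomainAlgHom R R φ.toMultiplicative).toRingHom.toAlgebra
    haveI : Module.FaithfullyFlat (MonoidAlgebra R (Multiplicative M₂)) (MonoidAlgebra R (Multiplicative M₁)) := hff
    exact PrimeSpectrum.comap_surjective_of_faithfullyFlat⟩
  let toZ := Limits.IsTerminal.from specULiftZIsTerminal S
  have hpb : IsPullback (Limits.pullback.fst (Red.diag R M₁).hom toZ) (Red.DSmap S φ).left f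
      (Limits.pullback.fst (Red.diag R M₂).hom toZ) := by
    have hw : f ≫ (Red.diag R M₂).hom = (Red.diag R M₁).hom := Over.w (Red.diagMap R φ)
    have hsnd : (Red.DSmap S φ).left ≫ Limits.pullback.snd (Red.diag R M₂).hom toZ =
        Limits.pullback.snd (Red.diag R M₁).hom toZ := Over.w (Red.DSmap S φ)
    refine IsPullback.of_bot (h₁₁ := Limits.pullback.fst _ _) (v₁₁ := (Red.DSmap S φ).left) (v₁₂ := f) ?_ ?_
      (IsPullback.of_hasPullback (Red.diag R M₂).hom toZ)
    · erw [hw, hsnd]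
      exact IsPullback.of_hasPullback _ _
    · exact (Limits.pullback.lift_fst _ _ _).symm
  haveI : Flat (Red.DSmap S φ).left := MorphismProperty.of_isPullback hpb ‹_›
  haveI : Surjective (Red.DSmap S φ).left := MorphismProperty.of_isPullback hpb ‹_›
  exact Extend.exists_cover_pt _ q

end DS

section Killed

variable {H : Over S} [GrpObj H] (h : G ⟶ H) [IsMonHom h] (hc : ∀ (X : Over S) (a b : X ⟶ H), a * b = b * a)

include hc in
theorem P_killed [D.P.IsReduced] (c : D.idx) {X : Over S} (x : Γ(X.left, ⊤)) : P (D.u c) x ≫ h = 1 := by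
  obtain ⟨vd, cu, -, hvd, E⟩ := exists_dual D c
  haveI := E.hom_pp; haveI := E.hom_i; haveI := E.hom_av
  obtain ⟨X', g, v, hg, hv⟩ := RankOne16.exists_cover_poly X (Polynomial.X ^ 2 - 1) (by simp)
  haveI := hg
  simp only [Polynomial.eval₂_sub, Polynomial.eval₂_X_pow, Polynomial.eval₂_one] at hv
  obtain ⟨w, hw⟩ := hv
  rw [← cancel_epi g, ← Category.assoc, RankOne.comp_P, MonObj.comp_one]
  let x' := g.left.appTop x
  let y : Γ(X'.left, ⊤) := ((w⁻¹ : (Γ(X'.left, ⊤))ˣ) : Γ(X'.left, ⊤)) * x'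
  have key := congrArg (· ≫ h) (RankOne.A_conj_P E v y)
  simp only [MonObj.mul_comp] at key
  rw [hc X' (RankOne.A D.i (coChar D c) v ≫ h)] at key
  have key' := mul_right_cancel key
  rw [show (v : Γ(X'.left, ⊤)) * (v : Γ(X'.left, ⊤)) * y = x' + y by
      simp only [y]; linear_combination x' * (Units.inv_mul w) - ((w⁻¹ : (Γ(X'.left, ⊤))ˣ) : Γ(X'.left, ⊤)) * x' * hw,
    RankOne.P_add, MonObj.mul_comp] at key'
  exact mul_eq_right.1 key'.symm

include hc in
theorem coChar_killed [D.P.IsReduced] (c : D.idx) {X : Over S} (v : (Γ(X.left, ⊤))ˣ) :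
    (GmPts.ptOfUnit v ≫ coChar D c) ≫ D.i ≫ h = 1 := by
  obtain ⟨vd, cu, -, hvd, E⟩ := exists_dual D c
  have hw : ∀ a a' : Γ(X.left, ⊤), RankOne.w (D.u c) vd a a' ≫ h = 1 := fun a a' => by
    simp only [RankOne.w, MonObj.mul_comp, hvd, P_killed D h hc, _root_.mul_one]
  have key := congrArg (· ≫ h) (RankOne.w_smul_left E v 1 (-1) (v : Γ(X.left, ⊤)) (-((v⁻¹ : (Γ(X.left, ⊤))ˣ) : Γ(X.left, ⊤)))
    (by ring) (by rw [_root_.mul_one]) (by rw [neg_mul, Units.inv_mul]))
  simp only [MonObj.mul_comp, hw, _root_.mul_one, RankOne.A, Category.assoc] at key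
  rw [Category.assoc]
  exact key.symm

variable (N : AddSubgroup D.M) (hN : ∀ x : D.M, x ∈ N ↔ ∀ c : D.idx, D.P.coroot c x = 0)

include hc hN in
/-- A point of the torus without characters killing the coroots is killed. -/
theorem torus_killed [D.P.IsReduced] {X : Over S} (t : X ⟶ D.T)
    (ht : ∀ a ∈ N, (chars D).ch t (Multiplicative.ofAdd a) = 1) : t ≫ D.i ≫ h = 1 := by
  classical
  haveI := D.fintypeIdx
  haveI := D.maximalTorus.1
  obtain ⟨φ, hφ, hφc⟩ := exists_coord_quot D N hN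
  let ψ : D.M ⧸ N →+ Additive (Γ(X.left, ⊤))ˣ := QuotientAddGroup.lift N
    (MonoidHom.toAdditiveRight ((chars D).ch t).toHomUnits) fun a ha =>
    AddMonoidHom.mem_ker.2 (congrArg Additive.ofMul (Units.ext (ht a ha)))
  obtain ⟨q, hq⟩ := (charsDS S (D.M ⧸ N)).surj ((Units.coeHom _).comp (MonoidHom.toAdditiveRight.symm ψ))
  obtain ⟨Y, π, r, hπ, hr⟩ := exists_cover_lift hφ q
  haveI := hπ
  rw [← cancel_epi π, MonObj.comp_one, ← Category.assoc]
  let uu : D.idx → (Γ(Y.left, ⊤))ˣ := fun c =>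
    ((charsDS S (D.idx → ℤ)).ch r).toHomUnits (Multiplicative.ofAdd (Pi.single c 1))
  have hchar : ∀ m : D.M, (chars D).ch (π ≫ t) (Multiplicative.ofAdd m) =
      ((∏ c, uu c ^ D.P.coroot c m : (Γ(Y.left, ⊤))ˣ) : Γ(Y.left, ⊤)) := fun m => by
    rw [(chars D).nat, show (chars D).ch t (Multiplicative.ofAdd m) =
      (charsDS S (D.M ⧸ N)).ch q (Multiplicative.ofAdd (QuotientAddGroup.mk' N m)) by rw [hq]; rfl,
      ← (charsDS S (D.M ⧸ N)).nat, hr, DSmap_ch, ← MonoidHom.coe_toHomUnits]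
    congr 1
    rw [show (AddMonoidHom.toMultiplicative φ) (Multiplicative.ofAdd (QuotientAddGroup.mk' N m)) =
      ∏ c, Multiplicative.ofAdd (Pi.single c (1 : ℤ)) ^ D.P.coroot c m from Multiplicative.toAdd.injective ?_,
      map_prod]
    · simp only [map_zpow, uu]
    · funext d
      show φ (QuotientAddGroup.mk' N m) d = _
      simp [hφc, toAdd_prod, Finset.sum_apply, Pi.single_apply]
      exact hφc m d
  have key : ∀ (s : Finset D.idx) (t' : Y ⟶ D.T), (∀ m : D.M, (chars D).ch t' (Multiplicative.ofAdd m) =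
      ((∏ c ∈ s, uu c ^ D.P.coroot c m : (Γ(Y.left, ⊤))ˣ) : Γ(Y.left, ⊤))) → t' ≫ D.i ≫ h = 1 := by
    intro s
    induction s using Finset.induction_on with
    | empty =>
      intro t' ht'
      rw [show t' = 1 from (chars D).inj fun m => by
        rw [show m = Multiplicative.ofAdd m.toAdd from rfl, ht', (chars D).one]; simp, MonObj.one_comp]
    | insert c s hcs ih =>
      intro t' ht'
      let p : Y ⟶ D.T := GmPts.ptOfUnit (uu c) ≫ coChar D c
      have h1 : p ≫ D.i ≫ h = 1 := coChar_killed D h hc c (uu c)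
      have h2 : (p⁻¹ * t') ≫ D.i ≫ h = 1 := ih _ fun m => by
        have hp := (chars D).mul p⁻¹ p (Multiplicative.ofAdd m)
        rw [inv_mul_cancel, (chars D).one, ch_coChar, GmPts.unitOfPt_ptOfUnit] at hp
        rw [(chars D).mul, ht', Finset.prod_insert hcs, Units.val_mul, ← _root_.mul_assoc]
        simp only [co, LinearMap.toAddMonoidHom_coe] at hp ⊢
        rw [← hp, _root_.one_mul]
      rw [MonObj.mul_comp, GrpObj.inv_comp, h1, inv_one, _root_.one_mul] at h2
      exact h2
  exact key Finset.univ (π ≫ t) hchar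

end Killed

section Main

theorem smooth_DS (N : Type) [AddCommGroup N] [Module.Free ℤ N] [Module.Finite ℤ N] :
    Smooth (Red.DS S N).hom := by
  haveI : Smooth (Red.diag (ULift.{u} ℤ) N).hom := by
    show Smooth (Spec.map (CommRingCat.ofHom (algebraMap (ULift.{u} ℤ)
      (MonoidAlgebra (ULift.{u} ℤ) (Multiplicative N)))))
    rw [HasRingHomProperty.Spec_iff (P := @Smooth)]
    exact RingHom.smooth_algebraMap.2 (smooth_groupAlgebra N)
  exact MorphismProperty.pullback_snd _ _ inferInstance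

theorem isMonHom_DSmap {M₁ M₂ : Type} [AddCommGroup M₁] [AddCommGroup M₂] (φ : M₂ →+ M₁) :
    IsMonHom (Red.DSmap S φ) :=
  TorsorSch25.isMonHom_of_points (G := Red.DS S M₁) (G' := Red.DS S M₂) _ fun X x y => (charsDS S M₂).inj fun a => by
    rw [(charsDS S M₂).mul, DSmap_ch, DSmap_ch, DSmap_ch, (charsDS S M₁).mul]

/-- The kernel of a homomorphism with a section is a direct factor. -/
theorem kernel_split {H : Over S} [GrpObj H] (f : G ⟶ H) [IsMonHom f] (σ : H ⟶ G) [IsMonHom σ] (hσ : σ ≫ f = 𝟙 H)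
    {K : Over S} [GrpObj K] (k : K ⟶ G) [IsMonHom k] (hk : AlgGrp.IsKernel k f) :
    k ≫ f = 1 ∧ ∃ r : G ⟶ K, k ≫ r = 𝟙 K ∧ ∃ E : G ≅ K ⊗ H, E.hom ≫ fst K H = r := by
  let c : G ⟶ G := 𝟙 G * (f ≫ σ)⁻¹
  have hcf : c ≫ f = toUnit G ≫ η[H] := by
    rw [← Hom.one_def]
    simp only [c, MonObj.mul_comp, GrpObj.inv_comp, Category.id_comp, Category.assoc, hσ, Category.comp_id,
      mul_inv_cancel]
  let r : G ⟶ K := hk.lift c (toUnit G) hcf
  have hr : r ≫ k = c := hk.lift_fst _ _ _
  have hkf : k ≫ f = 1 := hk.w.trans Hom.one_def.symm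
  have hmono : ∀ (Z : Over S) (a a' : Z ⟶ K), a ≫ k = a' ≫ k → a = a' := fun Z a a' h =>
    hk.hom_ext h (toUnit_unique _ _)
  have hkr : k ≫ r = 𝟙 K := hmono _ _ _ (by
    rw [Category.assoc, hr, Category.id_comp]
    simp only [c, MonObj.comp_mul, GrpObj.comp_inv, Category.comp_id, reassoc_of% hkf, MonObj.one_comp,
      ← Category.assoc k f, hkf]
    simp [MonObj.one_comp])
  have e1 : ((fst K H ≫ k) * (snd K H ≫ σ)) ≫ f = snd _ _ := by
    simp only [MonObj.mul_comp, Category.assoc, hkf, MonObj.comp_one, _root_.one_mul, hσ, Category.comp_id]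
  refine ⟨hkf, r, hkr,
    { hom := lift r f
      inv := (fst _ _ ≫ k) * (snd _ _ ≫ σ)
      hom_inv_id := by
        simp only [MonObj.comp_mul, lift_fst_assoc, lift_snd_assoc, hr, c, inv_mul_cancel_right]
      inv_hom_id := by
        refine CartesianMonoidalCategory.hom_ext _ _ ?_ ?_
        · rw [Category.assoc, lift_fst, Category.id_comp]
          refine hmono _ _ _ ?_
          rw [Category.assoc, hr]
          simp only [c, MonObj.comp_mul, GrpObj.comp_inv, Category.comp_id]
          rw [← Category.assoc _ f, e1, mul_inv_cancel_right]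
        · rw [Category.assoc, lift_snd, Category.id_comp, e1] }, lift_fst _ _⟩

/-- The torus part of a quotient of two points killed by a homomorphism. -/
theorem torus_div {H : Over S} [GrpObj H] [IsMonHom D.i] (f : G ⟶ H) [IsMonHom f] (p : D.T ⟶ H) (hi : D.i ≫ f = p)
    {X : Over S} (g a a' : X ⟶ G) (t t' : X ⟶ D.T) (hg : g = a * a'⁻¹) (h1 : g ≫ f = 1) (ha : a ≫ f = t ≫ p)
    (ha' : a' ≫ f = t' ≫ p) : (t * t'⁻¹) ≫ p = 1 := by
  subst hi
  rw [MonObj.mul_comp, GrpObj.inv_comp, ← ha, ← ha', ← GrpObj.inv_comp, ← MonObj.mul_comp, ← hg, h1]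

/-- The extension of a multiplicative map on the cell. -/
theorem exists_extend {H : Over S} [GrpObj H] {b : D.P.Base} {nn mm : ℕ} {eneg : Fin nn → D.idx} {epos : Fin mm → D.idx}
    (hneg : RedSub.Enumerates (RedSub.negRoots D.P b) eneg) (hpos : RedSub.Enumerates (RedSub.posRoots D.P b) epos)
    (f₀ : RedSub.pow (Red.Ga S) nn ⊗ (D.T ⊗ RedSub.pow (Red.Ga S) mm) ⟶ H)
    (hf : ∀ (X : Over S) (x y z : X ⟶ RedSub.pow (Red.Ga S) nn ⊗ (D.T ⊗ RedSub.pow (Red.Ga S) mm)),
      z ≫ RedSub.cellMap D eneg epos = (x ≫ RedSub.cellMap D eneg epos) * (y ≫ RedSub.cellMap D eneg epos) →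
        z ≫ f₀ = (x ≫ f₀) * (y ≫ f₀)) :
    ∃ F : G ⟶ H, IsMonHom F ∧ RedSub.cellMap D eneg epos ≫ F = f₀ := by
  haveI := isOpenImmersion_cellMap D b eneg epos hneg hpos
  exact Extend.exists_hom (RankOne16.Rig.of_isReductive D.reductive)
    (j := RedSub.cellMap D eneg epos) (fun s => unit_mem D eneg epos s) f₀ hf

variable (N : AddSubgroup D.M) (hN : ∀ x : D.M, x ∈ N ↔ ∀ c : D.idx, D.P.coroot c x = 0)
  {b : D.P.Base} {nn mm : ℕ} {eneg : Fin nn → D.idx} {epos : Fin mm → D.idx}
  (hneg : RedSub.Enumerates (RedSub.negRoots D.P b) eneg)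
  (hpos : RedSub.Enumerates (RedSub.posRoots D.P b) epos)

set_option maxHeartbeats 1000000 in
include hN hneg hpos in
theorem exists_torusHom : ∃ f : G ⟶ Red.DS S N, IsMonHom f ∧
    D.i ≫ f = D.split.hom.hom.hom ≫ Red.DSmap S N.subtype ∧
    ∀ (X : Over S) (y : Fin nn → Γ(X.left, ⊤)) (t : X ⟶ D.T) (x : Fin mm → Γ(X.left, ⊤)),
      cellPt D eneg epos y t x ≫ f = t ≫ D.split.hom.hom.hom ≫ Red.DSmap S N.subtype := by
  haveI := isOpenImmersion_cellMap D b eneg epos hneg hpos
  let f₀ : RedSub.pow (Red.Ga S) nn ⊗ (D.T ⊗ RedSub.pow (Red.Ga S) mm) ⟶ Red.DS S N :=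
    snd _ _ ≫ fst _ _ ≫ D.split.hom.hom.hom ≫ Red.DSmap S N.subtype
  have hf : ∀ (X : Over S) (x y z : X ⟶ RedSub.pow (Red.Ga S) nn ⊗ (D.T ⊗ RedSub.pow (Red.Ga S) mm)),
      z ≫ RedSub.cellMap D eneg epos = (x ≫ RedSub.cellMap D eneg epos) * (y ≫ RedSub.cellMap D eneg epos) →
        z ≫ f₀ = (x ≫ f₀) * (y ≫ f₀) := fun X x y z h => by
    obtain ⟨y₁, t₁, x₁, rfl⟩ := exists_mkDom D x
    obtain ⟨y₂, t₂, x₂, rfl⟩ := exists_mkDom D y
    obtain ⟨y₃, t₃, x₃, rfl⟩ := exists_mkDom D z
    refine (charsDS S N).inj fun a => ?_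
    simp only [f₀, mkDom, lift_snd_assoc, lift_fst_assoc, (charsDS S N).mul]
    simp only [← Category.assoc, DSmap_ch]
    exact char_mul_cell D hneg hpos ((hN _).1 a.toAdd.2) h
  have ee := exists_extend D hneg hpos f₀
  obtain ⟨F, hF, hjF⟩ := ee hf
  have hcell : ∀ (X : Over S) (y : Fin nn → Γ(X.left, ⊤)) (t : X ⟶ D.T) (x : Fin mm → Γ(X.left, ⊤)),
      cellPt D eneg epos y t x ≫ F = t ≫ D.split.hom.hom.hom ≫ Red.DSmap S N.subtype := fun X y t x => by
    rw [cellPt, Category.assoc, hjF]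
    simp only [f₀, mkDom, lift_snd_assoc, lift_fst_assoc]
  refine ⟨F, hF, ?_, hcell⟩
  have := hcell D.T 0 (𝟙 D.T) 0
  rwa [cellPt_torus, Category.id_comp, Category.id_comp] at this

set_option maxHeartbeats 1000000 in
include hN hneg hpos in
theorem kernel_props (f : G ⟶ Red.DS S N) [IsMonHom f]
    (hi : D.i ≫ f = D.split.hom.hom.hom ≫ Red.DSmap S N.subtype)
    (hcell : ∀ (X : Over S) (y : Fin nn → Γ(X.left, ⊤)) (t : X ⟶ D.T) (x : Fin mm → Γ(X.left, ⊤)),
      cellPt D eneg epos y t x ≫ f = t ≫ D.split.hom.hom.hom ≫ Red.DSmap S N.subtype)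
    (K : Over S) [GrpObj K] (k : K ⟶ G) [IsMonHom k] (hk : AlgGrp.IsKernel k f) :
    Smooth K.hom ∧ RedSub.HasConnectedFibres K ∧ RedSub.KilledByCommutative k := by
  haveI := D.maximalTorus.1
  obtain ⟨π, hπ⟩ := exists_proj D N hN
  let σ : Red.DS S N ⟶ D.T := Red.DSmap S π ≫ D.split.inv.hom.hom
  have hσ : σ ≫ D.i ≫ f = 𝟙 _ := by
    rw [hi]
    refine (charsDS S N).inj fun a => ?_
    simp only [σ, Category.assoc]
    rw [← Category.assoc D.split.inv.hom.hom, show D.split.inv.hom.hom ≫ D.split.hom.hom.hom = 𝟙 _ by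
      simp [← Grp.comp', ← Mon.comp_hom'], Category.id_comp, DSmap_ch]
    conv_lhs => rw [← Category.id_comp (Red.DSmap S π), DSmap_ch]
    show (charsDS S N).ch (𝟙 _) (Multiplicative.ofAdd (π (a.toAdd : D.M))) = _
    rw [hπ]
    rfl
  haveI : IsMonHom D.split.inv.hom.hom := D.split.inv.hom.isMonHom_hom
  haveI : IsMonHom (Red.DSmap S π) := isMonHom_DSmap π
  haveI : IsMonHom (σ ≫ D.i) := inferInstance
  obtain ⟨hkf, r, hkr, E, hE⟩ := kernel_split f (σ ≫ D.i) (by rw [Category.assoc, hσ]) k hk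
  have hsurj : Surjective r.left := ⟨fun x => ⟨k.left x, by
    have h := congrArg (fun z => z.left x) hkr
    simpa using h⟩⟩
  refine ⟨?_, fun s => ?_, fun H _ h _ hcomm => ?_⟩
  · haveI : Module.Free ℤ N := inferInstanceAs (Module.Free ℤ (AddSubgroup.toIntSubmodule N))
    haveI : Module.Finite ℤ N := inferInstanceAs (Module.Finite ℤ (AddSubgroup.toIntSubmodule N))
    haveI := smooth_DS (S := S) N
    haveI : Smooth (fst K (Red.DS S N)).left := inferInstanceAs (Smooth (pullback.fst K.hom (Red.DS S N).hom))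
    haveI : IsIso E.hom.left := inferInstanceAs (IsIso ((Over.forget _).map E.hom))
    have hs : Smooth r.left := by
      rw [← hE, Over.comp_left]
      infer_instance
    exact AlgSpDescent.smooth_of_smooth_surjective_comp r.left K.hom hs hsurj (by rw [Over.w r]; exact D.reductive.2.1)
  · obtain ⟨ha, hs, hconn, -⟩ := D.reductive.2.2 s
    haveI := RankOne16.connectedSpace_fibre_of_geomFibre G s hconn
    have h1 : _root_.IsConnected (G.hom.base ⁻¹' {s}) := by
      haveI : ConnectedSpace ↥(G.hom.fiber s) := ‹_›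
      rw [isConnected_iff_connectedSpace]
      exact (G.hom.fiberHomeo s).surjective.connectedSpace (G.hom.fiberHomeo s).continuous
    have h2 : r.left.base '' (G.hom.base ⁻¹' {s}) = K.hom.base ⁻¹' {s} := by
      ext x
      constructor
      · rintro ⟨y, hy, rfl⟩
        show K.hom (r.left y) = s
        rw [← Scheme.Hom.comp_apply, Over.w r]
        exact hy
      · intro hx
        refine ⟨k.left x, ?_, ?_⟩
        · show G.hom (k.left x) = s
          rw [← Scheme.Hom.comp_apply, Over.w k]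
          exact hx
        · have h := congrArg (fun z => z.left x) hkr
          simpa using h
    rw [← h2]
    exact h1.image _ r.left.continuous.continuousOn
  · haveI := isOpenImmersion_cellMap D b eneg epos hneg hpos
    obtain ⟨X', e, p, q, he, -, -, hp, hq, hg⟩ := RankOne16.exists_cover_div (RankOne16.Rig.of_isReductive D.reductive)
      (RedSub.cellMap D eneg epos).left.opensRange (fun s => unit_mem D eneg epos s) k
    haveI := he
    rw [← cancel_epi e, MonObj.comp_one, ← Category.assoc, hg]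
    rcases isEmpty_or_nonempty X'.left with hX | ⟨⟨pt⟩⟩
    · exact Over.OverMorphism.ext ((isInitialOfIsEmpty (X := X'.left)).hom_ext _ _)
    haveI := isReduced D (X'.hom pt)
    obtain ⟨y, t, x, rfl⟩ := exists_cellPt D eneg epos hneg hpos p hp
    obtain ⟨y', t', x', rfl⟩ := exists_cellPt D eneg epos hneg hpos q hq
    have hrp : ∀ {l : ℕ} (e : Fin l → D.idx) (v : Fin l → Γ(X'.left, ⊤)), rp D e v ≫ h = 1 := by
      intro l
      induction l with
      | zero => intro e v; rw [rp_eq_prod]; simp [MonObj.one_comp]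
      | succ l ih => intro e v; rw [rp_succ, MonObj.mul_comp, P_killed D h hcomm, ih, _root_.one_mul]
    have hh : ∀ (y : Fin nn → Γ(X'.left, ⊤)) (t : X' ⟶ D.T) (x : Fin mm → Γ(X'.left, ⊤)),
        cellPt D eneg epos y t x ≫ h = t ≫ D.i ≫ h := fun y t x => by
      rw [cellPt_eq, MonObj.mul_comp, MonObj.mul_comp, hrp, hrp, _root_.one_mul, _root_.mul_one, Category.assoc]
    rw [MonObj.mul_comp, GrpObj.inv_comp, hh, hh, ← GrpObj.inv_comp t' (D.i ≫ h), ← MonObj.mul_comp]
    refine torus_killed D h hcomm N hN _ fun a ha => ?_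
    have hd : (t * t'⁻¹) ≫ D.split.hom.hom.hom ≫ Red.DSmap S N.subtype = 1 := by
      have := @torus_div S G _ D _ _ _ f _ _ hi X'
      exact this _ _ _ t t' hg (by rw [Category.assoc, hkf, MonObj.comp_one]) (hcell _ y t x) (hcell _ y' t' x')
    have := congrArg (fun z => (charsDS S N).ch z (Multiplicative.ofAdd (⟨a, ha⟩ : N))) hd
    simp only [← Category.assoc, DSmap_ch, (charsDS S N).one] at this
    exact this

end Main

end Groth.Agent.PMor16
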