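import Groth.Agent.Lib.PMor16.Iso
import Groth.Agent.Lib.RankOne16.UnitVal
import Groth.Agent.Lib.AttrBorel21.SplitSS
import Mathlib.LinearAlgebra.RootSystem.Finite.Nondegenerate

/-!
# Characters killing the coroots are multiplicative on the big cell
-/

set_option autoImplicit false
set_option linter.style.haveILetI false
set_option linter.unusedSimpArgs false
set_option linter.unusedSectionVars false
set_option backward.isDefEq.respectTransparency false
set_option backward.isDefEq.respectTransparency.types false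

universe u

open CategoryTheory CategoryTheory.Limits MonoidalCategory CartesianMonoidalCategory MonObj AlgebraicGeometry

noncomputable section

namespace Groth.Agent.PMor16

open DiagGL RootDLib RedCell16
open RankOne (P A)

variable {S : Scheme.{u}} {G : Over S} [GrpObj G] (D : Red.SplitRed G)

/-- A primitive cocharacter killing the roots. -/
theorem exists_primitive {n : D.M} (hn : n ≠ 0) (hco : ∀ c, D.P.coroot c n = 0) :
    ∃ ℓ : D.M →ₗ[ℤ] ℤ, (∀ c, ℓ (D.P.root c) = 0) ∧ ∃ m₀, ℓ m₀ = 1 := by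
  classical
  haveI : Fintype D.idx := D.fintypeIdx
  obtain ⟨ℓ₀, hℓ₀, hker⟩ : ∃ φ : D.M →ₗ[ℤ] ℤ, φ ≠ 0 ∧ ∀ m ∈ D.P.rootSpan ℤ, φ m = 0 := by
    refine (AttrBorel21.exists_functional_or_exponent _).resolve_right fun h => hn ?_
    haveI := D.P.isAnisotropic_of_isValuedIn ℤ
    have h1 := (AttrBorel21.finrank_eq_iff_exponent _).2 h
    rw [← D.P.finrank_corootSpan_eq', show Module.finrank ℤ D.M = Module.finrank ℤ (Module.Dual ℤ D.M) by
      rw [Module.finrank_linearMap, Module.finrank_self, _root_.mul_one]] at h1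
    obtain ⟨N, hN, hspan⟩ := (AttrBorel21.finrank_eq_iff_exponent (M := Module.Dual ℤ D.M) _).1 h1
    refine (Module.forall_dual_apply_eq_zero_iff ℤ n).1 fun θ => ?_
    have h2 : (N • θ) n = 0 := by
      refine Submodule.span_induction (p := fun g _ => g n = 0) ?_ rfl (fun a b _ _ ha hb => by simp [ha, hb])
        (fun r a _ ha => by simp [ha]) (hspan θ)
      rintro _ ⟨c, rfl⟩
      exact hco c
    simpa [hN] using h2
  obtain ⟨d, hd⟩ := Int.subgroup_cyclic ℓ₀.toAddMonoidHom.range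
  have hmem : ∀ m, ∃ k : ℤ, k * d = ℓ₀ m := fun m => by
    have h : ℓ₀ m ∈ AddSubgroup.closure ({d} : Set ℤ) := hd ▸ (⟨m, rfl⟩ : ℓ₀ m ∈ ℓ₀.toAddMonoidHom.range)
    obtain ⟨k, hk⟩ := AddSubgroup.mem_closure_singleton.1 h
    exact ⟨k, by rwa [smul_eq_mul] at hk⟩
  have hd0 : d ≠ 0 := fun h => hℓ₀ (LinearMap.ext fun m => by
    obtain ⟨k, hk⟩ := hmem m
    rw [← hk, h, mul_zero]
    rfl)
  choose k hk using hmem
  obtain ⟨m₀, hm₀⟩ : d ∈ ℓ₀.toAddMonoidHom.range := hd ▸ AddSubgroup.subset_closure rfl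
  refine ⟨(AddMonoidHom.mk' k fun a b => mul_right_cancel₀ hd0 (by rw [hk, add_mul, hk, hk, map_add])).toIntLinearMap,
    fun c => mul_right_cancel₀ hd0 ((hk _).trans ((hker _ (Submodule.subset_span ⟨c, rfl⟩)).trans (zero_mul d).symm)),
    m₀, mul_right_cancel₀ hd0 ((hk m₀).trans (hm₀.trans (_root_.one_mul d).symm))⟩

variable (n : D.M) (ℓ : D.M →ₗ[ℤ] ℤ)

/-- The map of lattices. -/
def shear : D.M →ₗ[ℤ] D.M := LinearMap.id + ℓ.smulRight n

/-- The central part. -/
def lam {X : Over S} (t : X ⟶ D.T) : X ⟶ D.T := t⁻¹ * (t ≫ phi D D (shear D n ℓ))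

theorem ch_lam {X : Over S} (t : X ⟶ D.T) (m : D.M) :
    (chars D).ch (lam D n ℓ t) (Multiplicative.ofAdd m) =
      (((((chars D).ch t).toHomUnits (Multiplicative.ofAdd n)) ^ ℓ m : (Γ(X.left, ⊤))ˣ) : Γ(X.left, ⊤)) := by
  have hcancel : (chars D).ch t⁻¹ (Multiplicative.ofAdd m) * (chars D).ch t (Multiplicative.ofAdd m) = 1 := by
    rw [← (chars D).mul, inv_mul_cancel, (chars D).one]
  rw [lam, (chars D).mul, ch_phi,
    show shear D n ℓ m = m + ℓ m • n by simp [shear], ofAdd_add, map_mul, ← _root_.mul_assoc, hcancel,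
    _root_.one_mul, ← map_zpow, ← ofAdd_zsmul, MonoidHom.coe_toHomUnits]

variable (hℓ : ∀ c, ℓ (D.P.root c) = 0)

include hℓ in
theorem rt_lam {X : Over S} (t : X ⟶ D.T) (c : D.idx) : rt D (lam D n ℓ t) c = 1 := by
  rw [rt_eq_ch, ch_lam, hℓ, zpow_zero, Units.val_one]

include hℓ in
/-- The endomorphism shearing the torus along a central cocharacter. -/
theorem exists_shear_hom [D.P.IsReduced] (b : D.P.Base) (hco : ∀ c, D.P.coroot c n = 0) :
    ∃ F : G ⟶ G, IsMonHom F ∧ D.i ≫ F = phi D D (shear D n ℓ) ≫ D.i ∧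
      ∀ (c : D.idx) (X : Over S) (x : Γ(X.left, ⊤)), P (D.u c) x ≫ F = P (D.u c) x := by
  haveI := D.fintypeIdx
  obtain ⟨w, hw, hwa, hwd⟩ := exists_normalised D b
  haveI : (withU D w hw).P.IsReduced := ‹D.P.IsReduced›
  obtain ⟨m, h1, h2, h3⟩ := exists_mor (D := withU D w hw) (D' := withU D w hw) (b := b) (b' := b)
    (hM := shear D n ℓ) (d := Equiv.refl D.idx) (q := fun _ => 1) (p := 1) hwd hwd one_pos
    (fun X a c => by simp) (fun _ => ⟨0, rfl⟩)
    (fun a => by simp [shear, hℓ])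
    (fun a => by
      ext x
      simp [shear, hco])
    (fun a ha => ha)
  obtain ⟨F, hF, hT, hU⟩ := m.exists_hom
  rw [h1] at hT
  rw [h2, h3] at hU
  haveI := hF
  refine ⟨F, hF, hT, fun c => ?_⟩
  have hfix : ∀ a ∈ b.support, ∀ (X : Over S) (x : Γ(X.left, ⊤)),
      P (w a) x ≫ F = P (w a) x ∧ P (w (ng D.P a)) x ≫ F = P (w (ng D.P a)) x := fun a ha X x => by
    obtain ⟨u1, u2⟩ := hU a ha X x
    simp only [pow_one, Equiv.refl_apply] at u1 u2
    exact ⟨u1, u2⟩
  refine mem_of_reflect_closed D b {c | ∀ (X : Over S) (x : Γ(X.left, ⊤)), P (D.u c) x ≫ F = P (D.u c) x}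
    (fun a ha X x => by rw [← hwa a ha]; exact (hfix a ha X x).1) (fun a ha c hc X x => ?_) c
  have E : RankOne.Datum D.i (rootChar D a) (D.u a) (w (ng D.P a)) (coChar D a) := by
    rw [← hwa a ha]; exact hwd a ha
  obtain ⟨ν, hν⟩ := exists_weyl_conj D a E b c
  have hW : (RankOne16.W (D.u a) (w (ng D.P a)) : X ⟶ G) ≫ F = RankOne16.W (D.u a) (w (ng D.P a)) := by
    rw [← hwa a ha]
    simp only [RankOne16.W, RankOne.w, MonObj.mul_comp, (hfix a ha X _).1, (hfix a ha X _).2]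
  rw [hν X x, MonObj.mul_comp, MonObj.mul_comp, GrpObj.inv_comp, hW, hc]

variable {nn mm : ℕ} {eneg : Fin nn → D.idx} {epos : Fin mm → D.idx}

include hℓ in
theorem cellPt_comp_shear (F : G ⟶ G) [IsMonHom F] (hT : D.i ≫ F = phi D D (shear D n ℓ) ≫ D.i)
    (hU : ∀ (c : D.idx) (X : Over S) (x : Γ(X.left, ⊤)), P (D.u c) x ≫ F = P (D.u c) x) {X : Over S}
    (y : Fin nn → Γ(X.left, ⊤)) (t : X ⟶ D.T) (x : Fin mm → Γ(X.left, ⊤)) :
    cellPt D eneg epos y t x ≫ F = cellPt D eneg epos y t x * (lam D n ℓ t ≫ D.i) := by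
  haveI := D.maximalTorus.1
  have hrp : ∀ {l : ℕ} (e : Fin l → D.idx) (v : Fin l → Γ(X.left, ⊤)), rp D e v ≫ F = rp D e v := by
    intro l
    induction l with
    | zero => intro e v; rw [rp_eq_prod]; simp [MonObj.one_comp]
    | succ l ih => intro e v; rw [rp_succ, MonObj.mul_comp, hU, ih]
  have hc : ∀ v : Fin mm → Γ(X.left, ⊤),
      rp D epos v * (lam D n ℓ t ≫ D.i) = (lam D n ℓ t ≫ D.i) * rp D epos v := fun v => by
    have h := conj_rp D (lam D n ℓ t) epos v
    rw [show (fun k => rt D (lam D n ℓ t) (epos k) * v k) = v from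
      funext fun k => by rw [rt_lam D n ℓ hℓ, _root_.one_mul]] at h
    exact (mul_inv_eq_iff_eq_mul.1 h).symm
  rw [cellPt_eq, MonObj.mul_comp, MonObj.mul_comp, hrp, hrp, Category.assoc, hT,
    _root_.mul_assoc, _root_.mul_assoc, hc, ← _root_.mul_assoc (t ≫ D.i), ← MonObj.mul_comp, lam,
    mul_inv_cancel_left]
  simp only [phi, Category.assoc]

variable {b : D.P.Base} (hneg : RedSub.Enumerates (RedSub.negRoots D.P b) eneg)
  (hpos : RedSub.Enumerates (RedSub.posRoots D.P b) epos)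

omit n ℓ hℓ

/-- The functions on a scheme without points form a zero ring. -/
theorem subsingleton_of_isEmpty (X : Over S) [IsEmpty X.left] : Subsingleton Γ(X.left, ⊤) :=
  isUnit_zero_iff.1 (RankOne16.isUnit_of_geom (0 : Γ(X.left, ⊤)) fun p => isEmptyElim p) |> subsingleton_of_zero_eq_one

include hneg hpos in
/-- **A character killing the coroots is multiplicative on the big cell.** -/
theorem char_mul_cell {n : D.M} (hco : ∀ c, D.P.coroot c n = 0) {X : Over S}
    {y₁ y₂ y₃ : Fin nn → Γ(X.left, ⊤)} {t₁ t₂ t₃ : X ⟶ D.T} {x₁ x₂ x₃ : Fin mm → Γ(X.left, ⊤)}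
    (h : cellPt D eneg epos y₃ t₃ x₃ = cellPt D eneg epos y₁ t₁ x₁ * cellPt D eneg epos y₂ t₂ x₂) :
    (chars D).ch t₃ (Multiplicative.ofAdd n) =
      (chars D).ch t₁ (Multiplicative.ofAdd n) * (chars D).ch t₂ (Multiplicative.ofAdd n) := by
  haveI := D.maximalTorus.1
  rcases isEmpty_or_nonempty X.left with hX | ⟨⟨p⟩⟩
  · haveI := subsingleton_of_isEmpty X
    exact Subsingleton.elim _ _
  haveI := isReduced D (X.hom p)
  by_cases hn : n = 0
  · subst hn; simp
  obtain ⟨ℓ, hℓ, m₀, hm₀⟩ := exists_primitive D hn hco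
  obtain ⟨F, hF, hT, hU⟩ := exists_shear_hom D n ℓ hℓ b hco
  haveI := hF
  have h' := congrArg (· ≫ F) h
  simp only [MonObj.mul_comp, cellPt_comp_shear D n ℓ hℓ F hT hU] at h'
  have hc : (lam D n ℓ t₁ ≫ D.i) * cellPt D eneg epos y₂ t₂ x₂ =
      cellPt D eneg epos y₂ t₂ x₂ * (lam D n ℓ t₁ ≫ D.i) := by
    refine mul_inv_eq_iff_eq_mul.1 ((cellPt_conj D eneg epos (lam D n ℓ t₁) y₂ t₂ x₂).trans ?_)
    simp only [rt_lam D n ℓ hℓ, _root_.one_mul]
  have h2 : (lam D n ℓ t₃ ≫ D.i) = (lam D n ℓ t₁ ≫ D.i) * (lam D n ℓ t₂ ≫ D.i) := by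
    have h3 := h'.trans (show cellPt D eneg epos y₁ t₁ x₁ * (lam D n ℓ t₁ ≫ D.i) *
        (cellPt D eneg epos y₂ t₂ x₂ * (lam D n ℓ t₂ ≫ D.i)) =
        cellPt D eneg epos y₃ t₃ x₃ * ((lam D n ℓ t₁ ≫ D.i) * (lam D n ℓ t₂ ≫ D.i)) by
      rw [h, _root_.mul_assoc (cellPt D eneg epos y₁ t₁ x₁) (lam D n ℓ t₁ ≫ D.i), ← _root_.mul_assoc (lam D n ℓ t₁ ≫ D.i),
        hc]
      simp only [_root_.mul_assoc])
    exact mul_left_cancel h3
  rw [← MonObj.mul_comp, ← cellPt_torus D eneg epos, ← cellPt_torus D eneg epos] at h2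
  have h4 := congrArg (fun t => (chars D).ch t (Multiplicative.ofAdd m₀)) (cellPt_inj D eneg epos hneg hpos h2).2.1
  simpa [(chars D).mul, ch_lam, hm₀] using h4

include hneg hpos in
/-- **Conjugation by a realiser of a simple reflection preserves the characters killing the coroots.** -/
theorem char_conj_cell {n : D.M} (hco : ∀ c, D.P.coroot c n = 0) {nr : D.idx → (𝟙_ (Over S) ⟶ G)}
    (hnr : RedSub.RealisesReflections D nr) {a : D.idx} (ha : a ∈ b.support) {X : Over S}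
    {y y' : Fin nn → Γ(X.left, ⊤)} {t t' : X ⟶ D.T} {x x' : Fin mm → Γ(X.left, ⊤)}
    (hg : (chars D).ch t (Multiplicative.ofAdd n) = 1)
    (h : (toUnit X ≫ nr a) * cellPt D eneg epos y t x * (toUnit X ≫ nr a)⁻¹ = cellPt D eneg epos y' t' x') :
    (chars D).ch t' (Multiplicative.ofAdd n) = 1 := by
  haveI := D.maximalTorus.1
  rcases isEmpty_or_nonempty X.left with hX | ⟨⟨p⟩⟩
  · haveI := subsingleton_of_isEmpty X
    exact Subsingleton.elim _ _
  haveI := isReduced D (X.hom p)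
  haveI := D.fintypeIdx
  by_cases hn : n = 0
  · subst hn; simp
  obtain ⟨ℓ, hℓ, m₀, hm₀⟩ := exists_primitive D hn hco
  obtain ⟨F, hF, hT, hU⟩ := exists_shear_hom D n ℓ hℓ b hco
  haveI := hF
  obtain ⟨vd, cu, -, hvd, E⟩ := exists_dual D a
  obtain ⟨τ, hτ⟩ := (nrm_W D a E).exists_torus D b (nrm_of_realises D hnr a)
  have hW : (RankOne16.W (D.u a) vd : X ⟶ G) ≫ F = RankOne16.W (D.u a) vd := by
    simp only [RankOne16.W, RankOne.w, hvd, MonObj.mul_comp, hU]
  have hn' : (toUnit X ≫ nr a) ≫ F = (toUnit X ≫ nr a) * (lam D n ℓ (toUnit X ≫ τ) ≫ D.i) := by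
    rw [hτ, MonObj.comp_mul, RankOne16.comp_W, MonObj.mul_comp, hW, ← Category.assoc, Category.assoc _ D.i F, hT,
      ← Category.assoc _ (phi D D (shear D n ℓ)), _root_.mul_assoc, ← MonObj.mul_comp, lam, mul_inv_cancel_left]
  have hlt : lam D n ℓ t = 1 := (chars D).inj fun m => by
    rw [show m = Multiplicative.ofAdd m.toAdd from rfl, ch_lam, (chars D).one,
      show ((chars D).ch t).toHomUnits (Multiplicative.ofAdd n) = 1 from Units.ext hg, one_zpow, Units.val_one]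
  have h' := congrArg (· ≫ F) h
  simp only [MonObj.mul_comp, GrpObj.inv_comp, cellPt_comp_shear D n ℓ hℓ F hT hU, hn', hlt, MonObj.one_comp,
    _root_.mul_one] at h'
  have hc : (lam D n ℓ (toUnit X ≫ τ) ≫ D.i) * cellPt D eneg epos y t x *
      (lam D n ℓ (toUnit X ≫ τ) ≫ D.i)⁻¹ = cellPt D eneg epos y t x := by
    refine (cellPt_conj D eneg epos _ y t x).trans ?_
    simp only [rt_lam D n ℓ hℓ, _root_.one_mul]
  have h2 : (lam D n ℓ t' ≫ D.i) = 1 := by
    refine mul_left_cancel (a := cellPt D eneg epos y' t' x') ?_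
    rw [_root_.mul_one, ← h', ← h]
    conv_rhs => rw [← hc]
    group
  rw [← MonObj.one_comp (X := X) D.i, ← cellPt_torus D eneg epos, ← cellPt_torus D eneg epos] at h2
  have h4 := congrArg (fun t => (chars D).ch t (Multiplicative.ofAdd m₀)) (cellPt_inj D eneg epos hneg hpos h2).2.1
  simpa [ch_lam, hm₀, (chars D).one] using h4

end Groth.Agent.PMor16
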