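import Groth.Agent.Lib.PMor16.Opp
import Groth.Agent.Lib.RedCell16.BruhatCells
import Groth.Agent.Lib.RedCell16.Descent
import Groth.Agent.Lib.RedCell16.Extend
import Groth.Agent.Lib.RankOne16.UnitVal

/-!
# The graph over the big cell
-/

set_option autoImplicit false
set_option linter.style.haveILetI false
set_option linter.unusedSimpArgs false
set_option linter.unusedSectionVars false
set_option backward.isDefEq.respectTransparency false
set_option backward.isDefEq.respectTransparency.types false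

universe u

open CategoryTheory CategoryTheory.Limits MonoidalCategory CartesianMonoidalCategory MonObj AlgebraicGeometry

noncomputable section

namespace Groth.Agent.PMor16

open DiagGL RootDLib RedCell16
open RankOne (P A)

variable {S : Scheme.{u}} {G G' : Over S} [GrpObj G] [GrpObj G']
variable {D : Red.SplitRed G} {b₀ : D.P.Base} {D' : Red.SplitRed G'} {b₀' : D'.P.Base}
variable {bn : D.P.Base} {bn' : D'.P.Base}
variable (m : Mor D b₀ D' b₀') [D.P.IsReduced] [D'.P.IsReduced]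
  (hn : RedSub.posRoots D.P bn = RedSub.negRoots D.P b₀)
  (hn' : RedSub.posRoots D'.P bn' = RedSub.negRoots D'.P b₀')

namespace Mor

theorem gw_opp {X : Over S} : ∀ (l : List D.idx) (x : ℕ → Γ(X.left, ⊤)),
    (m.opp hn hn').gw l x = m.gw l x
  | [], _ => rfl
  | a :: l, x => by
    show m.gP a (x 0) * kj (m.gW a X) ((m.opp hn hn').gw l fun k => x (k + 1)) = _
    rw [gw_opp l]
    rfl

/-- The pair lies on the graph over the big cell. -/
def GG {X : Over S} (g : KK m X) : Prop :=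
  ∃ (gm : KK m X) (t : X ⟶ D.T) (gp : KK m X), (m.opp hn hn').InU gm ∧ m.InU gp ∧ g = gm * m.gT t * gp

variable {m hn hn'}

theorem GG.pull {X Y : Over S} (π : Y ⟶ X) {g : KK m X} (hg : m.GG hn hn' g) :
    m.GG hn hn' (m.pull π g) := by
  obtain ⟨gm, t, gp, h1, h2, rfl⟩ := hg
  exact ⟨m.pull π gm, π ≫ t, m.pull π gp, InU.pull _ π h1, h2.pull m π,
    by rw [pull_mul, pull_mul, pull_gT]⟩

variable (m hn hn')

theorem gg_gT {X : Over S} (t : X ⟶ D.T) : m.GG hn hn' (m.gT t) :=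
  ⟨1, t, 1, (m.opp hn hn').inU_one X, m.inU_one X, by simp⟩

theorem gg_gP_pos {X : Over S} {a : D.idx} (ha : a ∈ b₀.support) (r : Γ(X.left, ⊤)) :
    m.GG hn hn' (m.gP a r) :=
  ⟨1, 1, m.gP a r * 1, (m.opp hn hn').inU_one X, InU.mul_left m (m.inU_one X) ha r, by simp [gT_one]⟩

theorem gg_gP_neg {X : Over S} {a : D.idx} (ha : a ∈ bn.support) (r : Γ(X.left, ⊤)) :
    m.GG hn hn' (m.gP a r) :=
  ⟨m.gP a r * 1, 1, 1, InU.mul_left (m.opp hn hn') ((m.opp hn hn').inU_one X) ha r, m.inU_one X,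
    by simp [gT_one]⟩

theorem gg_one (X : Over S) : m.GG hn hn' (1 : KK m X) := by
  have := m.gg_gT hn hn' (1 : X ⟶ D.T)
  rwa [gT_one] at this

variable {n k : ℕ} {eneg : Fin n → D.idx} {epos : Fin k → D.idx}
  (hneg : RedSub.Enumerates (RedSub.negRoots D.P b₀) eneg)
  (hpos : RedSub.Enumerates (RedSub.posRoots D.P b₀) epos)

include hneg hpos

theorem gg_fst {X : Over S} {g : KK m X} (hg : m.GG hn hn' g) :
    ∀ p, g.1.left p ∈ Set.range (RedSub.cellMap D eneg epos).left := by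
  obtain ⟨gm, t, gp, h1, h2, rfl⟩ := hg
  obtain ⟨y, hy⟩ := exists_coords D bn eneg (by rw [hn]; exact hneg.2.ge) (InU.fst_mem _ h1)
  obtain ⟨z, hz⟩ := exists_coords D b₀ epos hpos.2.ge (h2.fst_mem m)
  intro p
  show (gm.1 * (t ≫ D.i) * gp.1).left p ∈ _
  rw [hy, hz, _root_.mul_assoc, ← cellPt_eq]
  exact cellPt_mem D eneg epos y t z p

theorem gg_ext {X : Over S} {g g' : KK m X} (hg : m.GG hn hn' g) (hg' : m.GG hn hn' g') (h : g.1 = g'.1) :
    g = g' := by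
  obtain ⟨gm, t, gp, h1, h2, rfl⟩ := hg
  obtain ⟨gm', t', gp', h1', h2', rfl⟩ := hg'
  obtain ⟨y, hy⟩ := exists_coords D bn eneg (by rw [hn]; exact hneg.2.ge) (InU.fst_mem _ h1)
  obtain ⟨z, hz⟩ := exists_coords D b₀ epos hpos.2.ge (h2.fst_mem m)
  obtain ⟨y', hy'⟩ := exists_coords D bn eneg (by rw [hn]; exact hneg.2.ge) (InU.fst_mem _ h1')
  obtain ⟨z', hz'⟩ := exists_coords D b₀ epos hpos.2.ge (h2'.fst_mem m)
  have h' : cellPt D eneg epos y t z = cellPt D eneg epos y' t' z' := by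
    rw [cellPt_eq, cellPt_eq, ← hy, ← hz, ← hy', ← hz', ← _root_.mul_assoc, ← _root_.mul_assoc]
    exact h
  obtain ⟨e1, e2, e3⟩ := cellPt_inj D eneg epos hneg hpos h'
  subst e1 e2 e3
  rw [InU.ext (m.opp hn hn') h1 h1' (hy.trans hy'.symm), InU.ext m h2 h2' (hz.trans hz'.symm)]

theorem exists_gg {X : Over S} (w : X ⟶ G)
    (hw : ∀ p, w.left p ∈ Set.range (RedSub.cellMap D eneg epos).left) :
    ∃ g : KK m X, m.GG hn hn' g ∧ g.1 = w := by
  obtain ⟨y, t, z, rfl⟩ := exists_cellPt D eneg epos hneg hpos w hw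
  obtain ⟨gm, h1, e1⟩ := (m.opp hn hn').exists_InU (X := X) (w := rp D eneg y)
    (rp_mem_gens D _ _ fun i => by rw [hn, ← hneg.2]; exact Set.mem_range_self i)
  obtain ⟨gp, h2, e2⟩ := m.exists_InU (X := X) (w := rp D epos z)
    (rp_mem_gens D _ _ fun i => by rw [← hpos.2]; exact Set.mem_range_self i)
  refine ⟨gm * m.gT t * gp, ⟨gm, t, gp, h1, h2, rfl⟩, ?_⟩
  show gm.1 * (t ≫ D.i) * gp.1 = _
  rw [e1, e2, cellPt_eq, _root_.mul_assoc]

omit hneg hpos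

theorem gg_mul_gT {X : Over S} (s : X ⟶ D.T) {g : KK m X} (hg : m.GG hn hn' g) :
    m.GG hn hn' (m.gT s * g) := by
  obtain ⟨gm, t, gp, h1, h2, rfl⟩ := hg
  refine ⟨kj (m.gT s) gm, s * t, gp, InU.conj_gT (m.opp hn hn') h1 s, h2, ?_⟩
  rw [gT_mul, kj]
  group

theorem gg_mul_neg {X : Over S} {a : D.idx} (ha : a ∈ bn.support) (r : Γ(X.left, ⊤)) {g : KK m X}
    (hg : m.GG hn hn' g) : m.GG hn hn' (m.gP a r * g) := by
  obtain ⟨gm, t, gp, h1, h2, rfl⟩ := hg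
  exact ⟨m.gP a r * gm, t, gp, InU.mul_left (m.opp hn hn') h1 ha r, h2, by simp only [_root_.mul_assoc]⟩

theorem dual_move {X : Over S} {a : D.idx} (ha : a ∈ b₀.support) (r s : Γ(X.left, ⊤))
    (u : (Γ(X.left, ⊤))ˣ) (hu : (u : Γ(X.left, ⊤)) = 1 + r * s) :
    m.gP a r * m.gP (ng D.P a) s = m.gP (ng D.P a) (s * ((u⁻¹ : (Γ(X.left, ⊤))ˣ) : Γ(X.left, ⊤))) *
      m.gT (GmPts.ptOfUnit u ≫ coChar D a) * m.gP a (r * ((u⁻¹ : (Γ(X.left, ⊤))ˣ) : Γ(X.left, ⊤))) := by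
  have hu' : ((u ^ m.q a : (Γ(X.left, ⊤))ˣ) : Γ(X.left, ⊤)) = 1 + r ^ m.q a * s ^ m.q a := by
    rw [Units.val_pow_eq_pow_val, hu, m.add_pow, one_pow, mul_pow]
  refine Prod.ext ?_ ?_
  · show P (D.u a) r * P (D.u (ng D.P a)) s =
      P (D.u (ng D.P a)) _ * ((GmPts.ptOfUnit u ≫ coChar D a) ≫ D.i) * P (D.u a) _
    rw [RankOne.P_mul_M (m.dual a ha) r s u hu, A, Category.assoc (GmPts.ptOfUnit u)]
  · show P (D'.u (m.d a)) (r ^ m.q a) * P (D'.u (m.d (ng D.P a))) (s ^ m.q (ng D.P a)) =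
      P (D'.u (m.d (ng D.P a))) (_ ^ m.q (ng D.P a)) *
        (((GmPts.ptOfUnit u ≫ coChar D a) ≫ m.φ) ≫ D'.i) * P (D'.u (m.d a)) (_ ^ m.q a)
    rw [m.d_ng, m.q_ng, RankOne.P_mul_M (m.dual' _ (m.base a ha)) _ _ (u ^ m.q a) hu', A,
      Category.assoc (GmPts.ptOfUnit u) (coChar D a) m.φ, m.φ_co, mul_pow, mul_pow, ← inv_pow,
      Units.val_pow_eq_pow_val]
    simp only [Category.assoc]

theorem inU_tail {a : D.idx} {l₁ : List D.idx} (hl : Long b₀ (a :: l₁)) {X : Over S}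
    (x : ℕ → Γ(X.left, ⊤)) : m.InU (m.gw l₁ x) := by
  haveI := D.fintypeIdx
  obtain ⟨L, hL, -, hlong, -⟩ := hl.exists_end
  exact ⟨_, hlong, fun k => if k < l₁.length then x k else 0, by
    rw [gw_append]
    simp only [gw, zero_add, kj_one, _root_.mul_one, lt_irrefl, if_false, gP_zero]
    exact m.gw_congr _ _ _ fun k hk => by simp [hk]⟩

/-- A simple root element passes the part of the negative graph away from it. -/
theorem exists_through {X : Over S} {a : D.idx} {l₁ : List D.idx} (hl : Long bn (ng D.P a :: l₁))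
    (v : ℕ → Γ(X.left, ⊤)) (r : Γ(X.left, ⊤)) : ∃ (y : ℕ → Γ(X.left, ⊤)) (r' : Γ(X.left, ⊤)),
      m.gP a r * kj (m.gW (ng D.P a) X) ((m.opp hn hn').gw l₁ v) =
        kj (m.gW (ng D.P a) X) ((m.opp hn hn').gw l₁ y) * m.gP a r' := by
  haveI := D.fintypeIdx
  have ha : ng D.P a ∈ bn.support := hl.1.1 _ List.mem_cons_self
  have key : ∀ x : Γ(X.left, ⊤), kj (m.gW (ng D.P a) X) (m.gP (ng D.P a) x) = m.gP a (-x) := fun x => by
    have := ((m.opp hn hn').gW_conj_self (X := X) ha x).1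
    rw [ng_ng] at this
    exact this
  obtain ⟨y, r3, he⟩ := (m.opp hn hn').exists_commute_simple hl v (-r)
  refine ⟨y, -r3, ?_⟩
  have he' : m.gP (ng D.P a) (-r) * (m.opp hn hn').gw l₁ v = (m.opp hn hn').gw l₁ y * m.gP (ng D.P a) r3 := he
  rw [← key r3, show m.gP a r = kj (m.gW (ng D.P a) X) (m.gP (ng D.P a) (-r)) by rw [key, neg_neg],
    ← kj_mul, he', kj_mul]

theorem Wy_ng_inv {X : Over S} {a : D.idx} (ha : a ∈ b₀.support) :
    (m.gW (ng D.P a) X).1 = (Wy D a X)⁻¹ := by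
  have E := m.dual a ha
  haveI := E.hom_pp
  haveI := E.hom_pm
  show RankOne16.W (D.u (ng D.P a)) (D.u (ng D.P (ng D.P a))) = _
  rw [ng_ng]
  show RankOne.w (D.u (ng D.P a)) (D.u a) (1 : Γ(X.left, ⊤)) (-1) = (RankOne.w (D.u a) (D.u (ng D.P a)) 1 (-1))⁻¹
  rw [← RankOne.braid E (-1) 1 (by simp)]
  simp only [RankOne.w, RankOne.P_neg, _root_.mul_inv_rev, _root_.mul_assoc, _root_.inv_inv]

include hneg hpos in
/-- The factor occurring when passing a negative root element is invertible on the big cell. -/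
theorem isUnit_step {X : Over S} {a : D.idx} {l₁ : List D.idx} (ha : a ∈ b₀.support)
    (hl : Long bn (ng D.P a :: l₁)) (r s : Γ(X.left, ⊤)) (v : ℕ → Γ(X.left, ⊤)) (t : X ⟶ D.T) (gp : KK m X)
    (hgp : m.InU gp)
    (h : ∀ p, (m.gP a r * (m.gP (ng D.P a) s * kj (m.gW (ng D.P a) X) ((m.opp hn hn').gw l₁ v) *
      m.gT t * gp)).1.left p ∈ Set.range (RedSub.cellMap D eneg epos).left) :
    IsUnit (1 + r * s) := by
  haveI := D.maximalTorus.1
  haveI := D.fintypeIdx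
  suffices main : ∀ {K : Type u} [Field K] [IsAlgClosed K] (x : Spec (CommRingCat.of K) ⟶ S)
      (π : RankOne16.kPt x ⟶ X), π.left.appTop (1 + r * s) ≠ 0 from
    RankOne16.isUnit_of_geom _ fun p => main _ (RankOne16.geomHom p)
  intro K _ _ x
  set X₀ := RankOne16.kPt x with hX₀
  intro π hp
  obtain ⟨nr, hnr⟩ := exists_realises D
  obtain ⟨r₀, hr₀⟩ : ∃ r₀, π.left.appTop r = r₀ := ⟨_, rfl⟩
  obtain ⟨s₀, hs₀⟩ : ∃ s₀, π.left.appTop s = s₀ := ⟨_, rfl⟩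
  rw [map_add, map_one, map_mul, hr₀, hs₀] at hp
  have hsr : s₀ * r₀ = -1 := by linear_combination hp
  obtain ⟨ρ, hρ⟩ : IsUnit r₀ := IsUnit.of_mul_eq_one (-s₀) (by linear_combination -hp)
  have E := m.dual a ha
  haveI := E.hom_pp
  have hw : P (D.u a) r₀ * P (D.u (ng D.P a)) s₀ =
      A D.i (coChar D a) ρ * Wy D a X₀ * P (D.u a) (-r₀) := by
    rw [show (Wy D a X₀) = RankOne.w (D.u a) (D.u (ng D.P a)) 1 (-1) from rfl,
      ← RankOne.w_smul_left E ρ (1 : Γ(X₀.left, ⊤)) (-1) r₀ s₀ (by simp) (by rw [hρ, _root_.mul_one]) hsr,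
      RankOne.w, RankOne.P_neg, mul_inv_cancel_right]
  obtain ⟨y, r', hy⟩ := m.exists_through hn hn' hl (fun k => π.left.appTop (v k)) (-r₀)
  have hy1 := congrArg Prod.fst hy
  set vm := ((m.opp hn hn').gw l₁ y).1 with hvm
  have hvm' : vm ∈ Um D b₀ X₀ := by
    show vm ∈ gens D (RedSub.negRoots D.P b₀) X₀
    rw [← hn]
    exact InU.fst_mem _ ((m.opp hn hn').inU_tail hl y)
  simp only [kj, Prod.fst_mul, Prod.fst_inv, m.Wy_ng_inv ha, _root_.inv_inv] at hy1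
  -- the pulled back point
  have hcell : InC D b₀ nr X₀ [] (π ≫ (m.gP a r * (m.gP (ng D.P a) s *
      kj (m.gW (ng D.P a) X) ((m.opp hn hn').gw l₁ v) * m.gT t * gp)).1) := by
    obtain ⟨y', t', z', e⟩ := exists_cellPt D eneg epos hneg hpos
      (π ≫ (m.gP a r * (m.gP (ng D.P a) s *
        kj (m.gW (ng D.P a) X) ((m.opp hn hn').gw l₁ v) * m.gT t * gp)).1) fun q => by
      rw [GrpNeutral20.hap]; exact h _
    refine ⟨_, rp_mem_gens D eneg y' fun i => hneg.2 ▸ Set.mem_range_self i, t', _,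
      rp_mem_gens D epos z' fun i => hpos.2 ▸ Set.mem_range_self i, ?_⟩
    rw [e, cellPt_eq]
    simp [Nw, MonObj.comp_one]
  have hpull : π ≫ (m.gP a r * (m.gP (ng D.P a) s *
      kj (m.gW (ng D.P a) X) ((m.opp hn hn').gw l₁ v) * m.gT t * gp)).1 =
      A D.i (coChar D a) ρ * vm * Wy D a X₀ * P (D.u a) r' * ((π ≫ t) ≫ D.i) * (π ≫ gp.1) := by
    show (m.pull π (m.gP a r * (m.gP (ng D.P a) s *
      kj (m.gW (ng D.P a) X) ((m.opp hn hn').gw l₁ v) * m.gT t * gp))).1 = _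
    rw [pull_mul, pull_mul, pull_mul, pull_mul, kj, pull_mul, pull_mul, pull_inv, pull_gP, pull_gP,
      pull_gW, pull_gT, hr₀, hs₀, show m.pull π ((m.opp hn hn').gw l₁ v) = _ from
        (m.opp hn hn').pull_gw π l₁ v]
    simp only [Prod.fst_mul, Prod.fst_inv, m.Wy_ng_inv ha, _root_.inv_inv]
    show P (D.u a) r₀ * (P (D.u (ng D.P a)) s₀ * _ * ((π ≫ t) ≫ D.i) * (π ≫ gp.1)) = _
    rw [← _root_.mul_assoc, ← _root_.mul_assoc, ← _root_.mul_assoc, hw]
    rw [_root_.mul_assoc (A D.i (coChar D a) ρ * Wy D a X₀)]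
    erw [hy1]
    simp only [_root_.mul_assoc, mul_inv_cancel_left]
    rfl
  obtain ⟨τ, hτ⟩ := (nrm_of_realises D hnr a).exists_torus D b₀ (nrm_W D a E)
  have hWy : Wy D a X₀ = (toUnit X₀ ≫ nr a) * ((toUnit X₀ ≫ τ) ≫ D.i) := by
    rw [Category.assoc, ← MonObj.comp_mul, ← hτ]
    exact (RankOne16.comp_W _).symm
  have hcell' : InC D b₀ nr X₀ [a] (π ≫ (m.gP a r * (m.gP (ng D.P a) s *
      kj (m.gW (ng D.P a) X) ((m.opp hn hn').gw l₁ v) * m.gT t * gp)).1) := by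
    rw [hpull]
    have h0 : InC D b₀ nr X₀ [a] (vm * (toUnit X₀ ≫ Nw D nr [a]) *
        ((((toUnit X₀ ≫ τ) * (π ≫ t)) ≫ D.i) *
          ((((π ≫ t)⁻¹ ≫ D.i) * P (D.u a) r' * ((π ≫ t)⁻¹ ≫ D.i)⁻¹) * (π ≫ gp.1)))) :=
      ⟨vm, hvm', _, _, Subgroup.mul_mem _
        (torus_conj_gens D (π ≫ t)⁻¹ (P_mem_gens D (simple_pos b₀ ha) r'))
        (InU.fst_mem m (hgp.pull m π)), rfl⟩
    have h1 := inC_torus D hnr (GmPts.ptOfUnit ρ ≫ coChar D a) h0
    convert h1 using 1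
    rw [hWy, A, MonObj.mul_comp, GrpObj.inv_comp, _root_.inv_inv,
      show (toUnit X₀ ≫ Nw D nr [a]) = toUnit X₀ ≫ nr a by simp [Nw]]
    simp only [Category.assoc, _root_.mul_assoc, mul_inv_cancel_left]
  have := inC_unique D hnr _ hcell hcell'
  have h2 := congrArg (fun e : Equiv.Perm D.idx => e a) this
  simp only [RootComb21.wordPerm_apply, wprod_cons, wprod_nil, one_smul, _root_.mul_one, refl_smul] at h2
  exact ng_not_pos b₀ (simple_pos b₀ ha) (by rw [show ng D.P a = a from h2.symm]; exact simple_pos b₀ ha)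

include hneg hpos in
theorem gg_mul_pos {X : Over S} {a : D.idx} (ha : a ∈ b₀.support) (r : Γ(X.left, ⊤)) {g : KK m X}
    (hg : m.GG hn hn' g)
    (h : ∀ p, (m.gP a r * g).1.left p ∈ Set.range (RedSub.cellMap D eneg epos).left) :
    m.GG hn hn' (m.gP a r * g) := by
  haveI := D.fintypeIdx
  obtain ⟨gm, t, gp, h1, h2, rfl⟩ := hg
  have hna : ng D.P a ∈ bn.support := (exists_negBase_support hn _).2 (by rwa [ng_ng])
  obtain ⟨l, hl⟩ := exists_long bn
  obtain ⟨l₁, hl₁, -⟩ := hl.exists_start hna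
  obtain ⟨x, rfl⟩ := InU.repr (m.opp hn hn') h1 hl₁
  have hx : (m.opp hn hn').gw (ng D.P a :: l₁) x = m.gP (ng D.P a) (x 0) *
      kj (m.gW (ng D.P a) X) ((m.opp hn hn').gw l₁ fun k => x (k + 1)) := rfl
  rw [hx] at h ⊢
  have hu := m.isUnit_step hn hn' hneg hpos ha hl₁ r (x 0) (fun k => x (k + 1)) t gp h2 h
  set u := hu.unit with hu'
  set α := GmPts.ptOfUnit u ≫ coChar D a with hα
  obtain ⟨y, r2, hy⟩ := m.exists_through hn hn' hl₁ (fun k => x (k + 1))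
    (r * ((u⁻¹ : (Γ(X.left, ⊤))ˣ) : Γ(X.left, ⊤)))
  obtain ⟨y', hy', hy0⟩ := (m.opp hn hn').gT_conj_gw (ng D.P a :: l₁) hl₁.1.1 α (consN 0 y)
  have hy'' : kj (m.gT α) (kj (m.gW (ng D.P a) X) ((m.opp hn hn').gw l₁ y)) =
      (m.opp hn hn').gw (ng D.P a :: l₁) y' := by
    rw [← hy']
    show _ = kj (m.gT α) (m.gP (ng D.P a) 0 * kj (m.gW (ng D.P a) X) ((m.opp hn hn').gw l₁ y))
    rw [gP_zero, _root_.one_mul]
  refine ⟨m.gP (ng D.P a) (x 0 * ((u⁻¹ : (Γ(X.left, ⊤))ˣ) : Γ(X.left, ⊤))) *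
      (m.opp hn hn').gw (ng D.P a :: l₁) y',
    α * t, m.gP a (rt D t⁻¹ a * r2) * gp,
    InU.mul_left (m.opp hn hn') ⟨_, hl₁, y', rfl⟩ hna _, InU.mul_left m h2 ha _, ?_⟩
  rw [← hy'', ← gT_conj_gP, gT_inv, gT_mul, kj, kj]
  have hm := m.dual_move ha r (x 0) u (IsUnit.unit_spec hu)
  have hs : ∀ (A B C Dd E F Z : KK m X), A * B = Z * C * Dd → Dd * E = F → A * (B * E * m.gT t * gp) = Z * C * F * m.gT t * gp := by
    intro A B C Dd E F Z e1 e2
    rw [← e2, ← _root_.mul_assoc, ← _root_.mul_assoc, ← _root_.mul_assoc, e1]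
    simp only [_root_.mul_assoc]
  rw [hs _ _ _ _ _ _ _ hm hy]
  simp only [kj, hα]
  group

end Mor

end Groth.Agent.PMor16
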