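import Groth.Agent.Lib.PMor16.Graph
import Groth.Agent.Lib.RedCell16.Generate

/-!
# The homomorphism of a `p`-morphism
-/

set_option autoImplicit false
set_option linter.style.haveILetI false
set_option linter.unusedSimpArgs false
set_option linter.unusedSectionVars false
set_option backward.isDefEq.respectTransparency false
set_option backward.isDefEq.respectTransparency.types false

universe u

open CategoryTheory CategoryTheory.Limits MonoidalCategory CartesianMonoidalCategory MonObj AlgebraicGeometry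

noncomputable section

namespace Groth.Agent.PMor16

open DiagGL RootDLib RedCell16
open RankOne (P A)
open RedCell16.Extend (InO)

variable {S : Scheme.{u}} {G G' : Over S} [GrpObj G] [GrpObj G']
variable {D : Red.SplitRed G} {b₀ : D.P.Base} {D' : Red.SplitRed G'} {b₀' : D'.P.Base}
variable {bn : D.P.Base} {bn' : D'.P.Base}

instance isIso_grpInv : IsIso ((𝟙 G)⁻¹ : G ⟶ G) :=
  ⟨(𝟙 G)⁻¹, by simp [GrpObj.comp_inv], by simp [GrpObj.comp_inv]⟩

/-- Finitely many points have, after a cover, a common translate into the open from the right. -/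
theorem exists_translate_right (hG : RankOne16.Rig G) {Ω : Over S} {j : Ω ⟶ G} [IsOpenImmersion j.left]
    (hη : ∀ s : S, η[G].left s ∈ Set.range j.left) {X : Over S} {ι' : Type} [Finite ι'] (a : ι' → (X ⟶ G)) :
    ∃ (X' : Over S) (e : X' ⟶ X) (w : X' ⟶ G), Epi e ∧ ∀ i, InO j ((e ≫ a i) * w) := by
  let inv' : G ⟶ G := (𝟙 G)⁻¹
  have hinv : inv' ≫ inv' = 𝟙 G := by simp [inv', GrpObj.comp_inv]
  haveI : IsIso inv'.left := ((Over.forget _).mapIso (asIso inv')).isIso_hom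
  haveI : IsOpenImmersion (j ≫ inv').left := by rw [Over.comp_left]; infer_instance
  have hη' : ∀ s : S, η[G].left s ∈ Set.range (j ≫ inv').left := fun s => by
    obtain ⟨q, hq⟩ := hη s
    have h1 : (η[G] : 𝟙_ (Over S) ⟶ G) ≫ inv' = η[G] := by
      rw [show (η[G] : 𝟙_ (Over S) ⟶ G) = 1 by
        rw [Hom.one_def, show toUnit (𝟙_ (Over S)) = 𝟙 _ from toUnit_unique _ _, Category.id_comp],
        GrpObj.comp_inv, Category.comp_id, inv_one]
    refine ⟨q, ?_⟩
    rw [GrpNeutral20.hap, hq, ← GrpNeutral20.hap, h1]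
  obtain ⟨X', e, w, he, -, -, -, hw⟩ := Extend.exists_translate hG hη' fun i => (a i)⁻¹
  refine ⟨X', e, w⁻¹, he, fun i p => ?_⟩
  obtain ⟨q, hq⟩ := hw i p
  refine ⟨q, ?_⟩
  have e1 : (e ≫ a i) * w⁻¹ = (w * (e ≫ (a i)⁻¹)) ≫ inv' := by
    rw [GrpObj.comp_inv _ (𝟙 G), Category.comp_id, GrpObj.comp_inv, _root_.mul_inv_rev, _root_.inv_inv]
  rw [e1, GrpNeutral20.hap, ← hq, GrpNeutral20.hap, ← GrpNeutral20.hap inv', hinv]
  rfl

namespace Mor

variable (m : Mor D b₀ D' b₀') [D.P.IsReduced] [D'.P.IsReduced]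
  (hn : RedSub.posRoots D.P bn = RedSub.negRoots D.P b₀)
  (hn' : RedSub.posRoots D'.P bn' = RedSub.negRoots D'.P b₀')
  {n k : ℕ} {eneg : Fin n → D.idx} {epos : Fin k → D.idx}
  (hneg : RedSub.Enumerates (RedSub.negRoots D.P b₀) eneg)
  (hpos : RedSub.Enumerates (RedSub.posRoots D.P b₀) epos)

/-- The generators. -/
def Gen (bn : D.P.Base) (X : Over S) : Set (KK m X) :=
  {g | (∃ t, g = m.gT t) ∨ ∃ a r, (a ∈ b₀.support ∨ a ∈ bn.support) ∧ g = m.gP a r}

/-- The group generated by the graph. -/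
def 𝒢 (bn : D.P.Base) (X : Over S) : Subgroup (KK m X) := Subgroup.closure (m.Gen bn X)

variable {m}

theorem Gen.inv_mem {X : Over S} {g : KK m X} (h : g ∈ m.Gen bn X) : g⁻¹ ∈ m.Gen bn X := by
  rcases h with ⟨t, rfl⟩ | ⟨a, r, ha, rfl⟩
  · exact Or.inl ⟨t⁻¹, (m.gT_inv t).symm⟩
  · exact Or.inr ⟨a, -r, ha, (m.gP_neg a r).symm⟩

theorem Gen.pull {X Y : Over S} (π : Y ⟶ X) {g : KK m X} (h : g ∈ m.Gen bn X) : m.pull π g ∈ m.Gen bn Y := by
  rcases h with ⟨t, rfl⟩ | ⟨a, r, ha, rfl⟩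
  · exact Or.inl ⟨_, m.pull_gT π t⟩
  · exact Or.inr ⟨a, _, ha, m.pull_gP π a r⟩

variable (m)

include hn in
theorem gw_mem {X : Over S} : ∀ (l : List D.idx), (∀ a ∈ l, a ∈ b₀.support ∨ a ∈ bn.support) →
    ∀ x : ℕ → Γ(X.left, ⊤), m.gw l x ∈ m.𝒢 bn X
  | [], _, _ => Subgroup.one_mem _
  | a :: l, h, x => by
    haveI := D.fintypeIdx
    have hng : ng D.P a ∈ b₀.support ∨ ng D.P a ∈ bn.support := by
      rcases h a List.mem_cons_self with ha | ha
      · exact Or.inr ((exists_negBase_support hn _).2 (by rwa [ng_ng]))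
      · exact Or.inl ((exists_negBase_support hn _).1 ha)
    have hW : m.gW a X ∈ m.𝒢 bn X := by
      rw [gW_eq]
      exact Subgroup.mul_mem _ (Subgroup.mul_mem _
        (Subgroup.subset_closure (Or.inr ⟨_, _, h a List.mem_cons_self, rfl⟩))
        (Subgroup.subset_closure (Or.inr ⟨_, _, hng, rfl⟩)))
        (Subgroup.subset_closure (Or.inr ⟨_, _, h a List.mem_cons_self, rfl⟩))
    exact Subgroup.mul_mem _ (Subgroup.subset_closure (Or.inr ⟨_, _, h a List.mem_cons_self, rfl⟩))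
      (Subgroup.mul_mem _ (Subgroup.mul_mem _ hW
        (gw_mem l (fun c hc => h c (List.mem_cons_of_mem a hc)) _)) (Subgroup.inv_mem _ hW))

theorem gg_mem {X : Over S} {g : KK m X} (hg : m.GG hn hn' g) : g ∈ m.𝒢 bn X := by
  obtain ⟨gm, t, gp, ⟨l, hl, x, rfl⟩, ⟨l', hl', x', rfl⟩, rfl⟩ := hg
  rw [gw_opp]
  exact Subgroup.mul_mem _ (Subgroup.mul_mem _
    (m.gw_mem hn l (fun a ha => Or.inr (hl.1.1 a ha)) x) (Subgroup.subset_closure (Or.inl ⟨t, rfl⟩)))
    (m.gw_mem hn l' (fun a ha => Or.inl (hl'.1.1 a ha)) x')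

include hneg hpos in
theorem gg_gen_mul {X : Over S} {s w : KK m X} (hs : s ∈ m.Gen bn X) (hw : m.GG hn hn' w)
    (h : InO (RedSub.cellMap D eneg epos) (s * w).1) : m.GG hn hn' (s * w) := by
  rcases hs with ⟨t, rfl⟩ | ⟨a, r, ha | ha, rfl⟩
  · exact m.gg_mul_gT hn hn' t hw
  · exact m.gg_mul_pos hn hn' hneg hpos ha r hw h
  · exact m.gg_mul_neg hn hn' ha r hw

include hneg hpos in
/-- An element of the group carries the graph to itself where this makes sense. -/
theorem exists_control {X : Over S} {g : KK m X} (hg : g ∈ m.𝒢 bn X) :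
    ∃ (N : ℕ) (pts : Fin N → (X ⟶ G)), ∀ (Y : Over S) (π : Y ⟶ X) (w : KK m Y), m.GG hn hn' w →
      (∀ i, InO (RedSub.cellMap D eneg epos) ((π ≫ pts i) * w.1)) → m.GG hn hn' (m.pull π g * w) := by
  have step : ∀ s ∈ m.Gen bn X, ∀ g : KK m X,
      (∃ (N : ℕ) (pts : Fin N → (X ⟶ G)), ∀ (Y : Over S) (π : Y ⟶ X) (w : KK m Y), m.GG hn hn' w →
        (∀ i, InO (RedSub.cellMap D eneg epos) ((π ≫ pts i) * w.1)) → m.GG hn hn' (m.pull π g * w)) →
      ∃ (N : ℕ) (pts : Fin N → (X ⟶ G)), ∀ (Y : Over S) (π : Y ⟶ X) (w : KK m Y), m.GG hn hn' w →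
        (∀ i, InO (RedSub.cellMap D eneg epos) ((π ≫ pts i) * w.1)) → m.GG hn hn' (m.pull π (s * g) * w) := by
    rintro s hs g ⟨N, pts, h⟩
    refine ⟨N + 1, Fin.cons (s * g).1 pts, fun Y π w hw hO => ?_⟩
    have h1 := h Y π w hw fun i => by simpa using hO i.succ
    rw [pull_mul, _root_.mul_assoc]
    refine m.gg_gen_mul hn hn' hneg hpos (Gen.pull π hs) h1 ?_
    have h2 := hO 0
    rw [Fin.cons_zero] at h2
    convert h2 using 1
    show (π ≫ s.1) * ((π ≫ g.1) * w.1) = (π ≫ (s.1 * g.1)) * w.1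
    rw [MonObj.comp_mul, _root_.mul_assoc]
  induction hg using Subgroup.closure_induction_left with
  | one => exact ⟨0, Fin.elim0, fun Y π w hw _ => by rwa [pull_one, _root_.one_mul]⟩
  | mul_left x hx y _ ih => exact step x hx y ih
  | inv_mul_cancel x hx y _ ih => exact step _ (Gen.inv_mem hx) y ih

include hn hn' hneg hpos in
/-- **The group generated by the graph is functional.** -/
theorem snd_eq_one {X : Over S} {g : KK m X} (hg : g ∈ m.𝒢 bn X) (h1 : g.1 = 1) : g.2 = 1 := by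
  haveI := isOpenImmersion_cellMap D b₀ eneg epos hneg hpos
  obtain ⟨N, pts, h⟩ := m.exists_control hn hn' hneg hpos hg
  obtain ⟨X', e, w, he, hw⟩ := exists_translate_right (RankOne16.Rig.of_isReductive D.reductive)
    (j := RedSub.cellMap D eneg epos) (fun s => unit_mem D eneg epos s)
    (Fin.cons (1 : X ⟶ G) pts : Fin (N + 1) → (X ⟶ G))
  haveI := he
  have hw0 : InO (RedSub.cellMap D eneg epos) w := by
    have := hw 0
    rwa [Fin.cons_zero, MonObj.comp_one, _root_.one_mul] at this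
  obtain ⟨gw, hgw, rfl⟩ := m.exists_gg hn hn' hneg hpos w hw0
  have h2 := h X' e gw hgw fun i => by simpa using hw i.succ
  have h3 := m.gg_ext hn hn' hneg hpos h2 hgw (by
    show (e ≫ g.1) * gw.1 = gw.1
    rw [h1, MonObj.comp_one, _root_.one_mul])
  rw [← cancel_epi e, MonObj.comp_one]
  exact congrArg Prod.snd (mul_eq_right.1 h3)

end Mor

variable (m : Mor D b₀ D' b₀') [D.P.IsReduced] [D'.P.IsReduced]

/-- **The homomorphism of the data.** -/
theorem Mor.exists_hom : ∃ F : G ⟶ G', IsMonHom F ∧ D.i ≫ F = m.φ ≫ D'.i ∧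
    ∀ a ∈ b₀.support, ∀ (X : Over S) (r : Γ(X.left, ⊤)),
      P (D.u a) r ≫ F = P (D'.u (m.d a)) (r ^ m.q a) ∧
      P (D.u (ng D.P a)) r ≫ F = P (D'.u (ng D'.P (m.d a))) (r ^ m.q a) := by
  haveI := D.fintypeIdx
  haveI := D'.fintypeIdx
  obtain ⟨bn, hn, -⟩ := exists_negBase D b₀
  obtain ⟨bn', hn', -⟩ := exists_negBase D' b₀'
  obtain ⟨n, k, eneg, epos, hneg, hpos⟩ := exists_enum D b₀
  haveI := isOpenImmersion_cellMap D b₀ eneg epos hneg hpos
  set j := RedSub.cellMap D eneg epos with hj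
  obtain ⟨gu, hgu, hgu1⟩ := m.exists_gg hn hn' hneg hpos j fun p => ⟨p, rfl⟩
  have hval : ∀ {X : Over S} (z : X ⟶ _), m.GG hn hn' (m.pull z gu) ∧ (m.pull z gu).1 = z ≫ j :=
    fun z => ⟨hgu.pull z, congrArg (z ≫ ·) hgu1⟩
  obtain ⟨F, hF, hjF⟩ := Extend.exists_hom (RankOne16.Rig.of_isReductive D.reductive) (j := j)
    (fun s => unit_mem D eneg epos s) gu.2 fun X x y z hz => by
      have hmem : (m.pull z gu)⁻¹ * (m.pull x gu * m.pull y gu) ∈ m.𝒢 bn X :=
        Subgroup.mul_mem _ (Subgroup.inv_mem _ (m.gg_mem hn hn' (hval z).1))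
          (Subgroup.mul_mem _ (m.gg_mem hn hn' (hval x).1) (m.gg_mem hn hn' (hval y).1))
      have h := m.snd_eq_one hn hn' hneg hpos hmem (by
        simp only [Prod.fst_mul, Prod.fst_inv, (hval _).2, hz, inv_mul_cancel])
      simp only [Prod.snd_mul, Prod.snd_inv] at h
      exact inv_mul_eq_one.1 h
  have hgg : ∀ {X : Over S} {g : KK m X}, m.GG hn hn' g → g.1 ≫ F = g.2 := by
    intro X g hg
    obtain ⟨y, t, z, e⟩ := exists_cellPt D eneg epos hneg hpos g.1 (m.gg_fst hn hn' hneg hpos hg)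
    have := m.gg_ext hn hn' hneg hpos hg (hval (mkDom D y t z)).1 (e.trans (hval _).2.symm)
    rw [this, (hval _).2, Category.assoc, hjF]
    rfl
  refine ⟨F, hF, ?_, fun a ha X r => ⟨hgg (m.gg_gP_pos hn hn' ha r), ?_⟩⟩
  · have := hgg (m.gg_gT hn hn' (𝟙 D.T))
    simpa [Mor.gT] using this
  · have := hgg (m.gg_gP_neg hn hn' ((exists_negBase_support hn _).2 (by rwa [ng_ng])) r (a := ng D.P a))
    simpa [Mor.gP, m.d_ng, m.q_ng] using this

end Groth.Agent.PMor16
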