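import Groth.Agent.Lib.PMor16.Build
import Groth.Agent.Lib.RedCell16.ChevPair

/-!
# The isomorphism theorem for pinned split groups
-/

set_option autoImplicit false
set_option linter.style.haveILetI false
set_option linter.unusedSimpArgs false
set_option linter.unusedSectionVars false
set_option backward.isDefEq.respectTransparency false
set_option backward.isDefEq.respectTransparency.types false

universe u

open CategoryTheory CategoryTheory.Limits MonoidalCategory CartesianMonoidalCategory MonObj AlgebraicGeometry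

noncomputable section

namespace Groth.Agent.PMor16

open DiagGL RootDLib RedCell16
open RankOne (P A)

variable {S : Scheme.{u}}

/-- Normalised root homomorphisms: those of the negative simple roots are dual to the positive ones. -/
theorem exists_normalised {G : Over S} [GrpObj G] (D : Red.SplitRed G) [D.P.IsReduced] (b : D.P.Base) :
    ∃ (w : D.idx → (Red.Ga S ⟶ G))
      (hw : ∀ c, Red.IsRootHom D.i (D.split.hom.hom.hom ≫ Red.chi S (D.P.root c)) (w c)),
      (∀ a ∈ b.support, w a = D.u a) ∧ ∀ a ∈ b.support, DualPair (withU D w hw) a := by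
  classical
  haveI := D.fintypeIdx
  choose vd cu _ _ hE using fun c => exists_dual D c
  have hdual := chev_dual D (fun a => coChar D a) (fun _ => rfl) D.u vd D.rootHom
    (fun c => ⟨(hE c).hom_pm, (hE c).hF⟩)
  have hneg : ∀ a ∈ b.support, ng D.P a ∉ b.support := fun a ha h =>
    ng_not_pos b (simple_pos b ha) (simple_pos b h)
  let w : D.idx → (Red.Ga S ⟶ G) := fun c => if ng D.P c ∈ b.support then vd (ng D.P c) else D.u c
  have hw : ∀ c, Red.IsRootHom D.i (D.split.hom.hom.hom ≫ Red.chi S (D.P.root c)) (w c) := fun c => by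
    simp only [w]
    split_ifs with h
    · have := (hdual (ng D.P c)).1
      rwa [ng_ng] at this
    · exact D.rootHom c
  refine ⟨w, hw, fun a ha => if_neg (hneg a ha), fun a ha => ?_⟩
  have e1 : (withU D w hw).u a = D.u a := if_neg (hneg a ha)
  have e2 : (withU D w hw).u (ng D.P a) = vd a := by
    show (if _ then _ else _) = _
    rw [if_pos (by rwa [ng_ng]), ng_ng]
  show RankOne.Datum D.i (rootChar D a) ((withU D w hw).u a) ((withU D w hw).u (ng D.P a)) (coChar D a)
  rw [e1, e2]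
  exact hE a

variable {G G' : Over S} [GrpObj G] [GrpObj G'] {D : Red.SplitRed G} {D' : Red.SplitRed G'}

theorem phi_comp (L : D'.M ≃ₗ[ℤ] D.M) : phi D D' L.toLinearMap ≫ phi D' D L.symm.toLinearMap = 𝟙 _ :=
  (chars D).inj fun w => by
    rw [show w = Multiplicative.ofAdd w.toAdd from rfl, ← Category.assoc]
    have h1 := ch_phi D' D L.symm.toLinearMap (phi D D' L.toLinearMap) w.toAdd
    have h2 := ch_phi D D' L.toLinearMap (𝟙 D.T) (L.symm w.toAdd)
    rw [Category.id_comp] at h2
    rw [LinearEquiv.coe_coe, LinearEquiv.apply_symm_apply] at h2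
    simp only [LinearEquiv.coe_coe] at h1
    rw [h2] at h1
    simpa using h1

/-- An isomorphism of root data carrying a base to a base. -/
structure DatumIso (D : Red.SplitRed G) (b : D.P.Base) (D' : Red.SplitRed G') (b' : D'.P.Base) where
  L : D'.M ≃ₗ[ℤ] D.M
  e : D.idx ≃ D'.idx
  root : ∀ a, L (D'.P.root (e a)) = D.P.root a
  coroot : ∀ a, L.toLinearMap.dualMap (D.P.coroot a) = D'.P.coroot (e a)
  base : ∀ a, a ∈ b.support ↔ e a ∈ b'.support

variable {b : D.P.Base} {b' : D'.P.Base}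

/-- The inverse. -/
def DatumIso.symm (I : DatumIso D b D' b') : DatumIso D' b' D b where
  L := I.L.symm
  e := I.e.symm
  root a := I.L.symm_apply_eq.2 (by have := I.root (I.e.symm a); rwa [Equiv.apply_symm_apply, eq_comm] at this)
  coroot a := by
    have h := I.coroot (I.e.symm a)
    rw [Equiv.apply_symm_apply] at h
    rw [← h]
    ext m
    simp
  base a := by rw [I.base, Equiv.apply_symm_apply]

variable [D.P.IsReduced] [D'.P.IsReduced]

/-- The homomorphism of an isomorphism of root data. -/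
theorem DatumIso.exists_hom (I : DatumIso D b D' b') (hE : ∀ a ∈ b.support, DualPair D a)
    (hE' : ∀ a ∈ b'.support, DualPair D' a) :
    ∃ F : G ⟶ G', IsMonHom F ∧ D.i ≫ F = phi D D' I.L.toLinearMap ≫ D'.i ∧
      ∀ a ∈ b.support, D.u a ≫ F = D'.u (I.e a) ∧ D.u (ng D.P a) ≫ F = D'.u (ng D'.P (I.e a)) := by
  obtain ⟨m, h1, h2, h3⟩ := exists_mor (hM := I.L.toLinearMap) (d := I.e) (q := fun _ => 1) (p := 1) hE hE'
    one_pos (fun X a b => by simp) (fun _ => ⟨0, rfl⟩) (fun a => by simp [I.root a])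
    (fun a => by rw [I.coroot a]; simp) (fun a ha => (I.base a).1 ha)
  obtain ⟨F, hF, hT, hU⟩ := m.exists_hom
  rw [h1] at hT
  rw [h2, h3] at hU
  refine ⟨F, hF, hT, fun a ha => ?_⟩
  obtain ⟨u1, u2⟩ := hU a ha (Red.Ga S) (Red.gaFn (𝟙 (Red.Ga S)))
  simp only [pow_one, ← RankOne.comp_eq_P, Category.id_comp] at u1 u2
  exact ⟨u1, u2⟩

omit [D'.P.IsReduced] in
/-- A homomorphism carries the dual pair to the dual pair. -/
theorem map_dual (I : DatumIso D b D' b') (hE : ∀ a ∈ b.support, DualPair D a)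
    (hE' : ∀ a ∈ b'.support, DualPair D' a) (f : G ⟶ G') [IsMonHom f]
    (hT : D.i ≫ f = phi D D' I.L.toLinearMap ≫ D'.i) {a : D.idx} (ha : a ∈ b.support)
    (hu : D.u a ≫ f = D'.u (I.e a)) : D.u (ng D.P a) ≫ f = D'.u (ng D'.P (I.e a)) := by
  haveI := (D'.rootHom (I.e a)).1
  haveI := (D'.rootHom (ng D'.P (I.e a))).1
  haveI := (D.rootHom (ng D.P a)).1
  have E := hE a ha
  have E' := hE' _ ((I.base a).1 ha)
  refine dual_unique D'.reductive.1 D'.i (coChar D' (I.e a)) (D'.u (I.e a)) _ _ (fun X x y hxy => ?_) E'.hF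
  obtain ⟨x', y', z, h1, h2, h3, h4⟩ := E.hF X x y hxy
  refine ⟨x', y', z, h1, h2, h3, ?_⟩
  have h5 := congrArg (· ≫ f) h4
  simp only [MonObj.mul_comp, Category.assoc, hu, hT] at h5
  rw [h5]
  congr 2
  have hc : coChar D a ≫ phi D D' I.L.toLinearMap = coChar D' (I.e a) := (chars D').inj fun w => by
    have h6 := ch_coChar D a (𝟙 (Red.Gm S)) (I.L w.toAdd)
    have h7 := ch_coChar D' (I.e a) (𝟙 (Red.Gm S)) w.toAdd
    have h8 := ch_phi D D' I.L.toLinearMap (coChar D a) w.toAdd
    rw [Category.id_comp] at h6 h7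
    have e : co D a (I.L w.toAdd) = co D' (I.e a) w.toAdd :=
      congrArg (fun f : Module.Dual ℤ D'.M => f w.toAdd) (I.coroot a)
    rw [e] at h6
    exact (h8.trans h6).trans h7.symm
  simp only [← hc, phi, Category.assoc]

/-- The isomorphism, for normalised root homomorphisms. -/
theorem DatumIso.existsUnique_iso (I : DatumIso D b D' b') (hE : ∀ a ∈ b.support, DualPair D a)
    (hE' : ∀ a ∈ b'.support, DualPair D' a) :
    ∃! f : G ≅ G', IsMonHom f.hom ∧
      D.i ≫ f.hom = D.split.hom.hom.hom ≫ Red.DSmap S I.L.toLinearMap.toAddMonoidHom ≫ D'.split.inv.hom.hom ≫ D'.i ∧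
      ∀ a ∈ b.support, D.u a ≫ f.hom = D'.u (I.e a) := by
  obtain ⟨F, hF, hT, hU⟩ := I.exists_hom hE hE'
  obtain ⟨F', hF', hT', hU'⟩ := I.symm.exists_hom hE' hE
  haveI := hF
  haveI := hF'
  have e1 : F ≫ F' = 𝟙 G := hom_ext_simple D b _ _ (by
      rw [← Category.assoc, hT, Category.assoc, hT', ← Category.assoc]
      show (phi D D' I.L.toLinearMap ≫ phi D' D I.L.symm.toLinearMap) ≫ D.i = _
      rw [phi_comp, Category.id_comp, Category.comp_id]) fun a ha => by
    obtain ⟨u1, u2⟩ := hU a ha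
    obtain ⟨v1, v2⟩ := hU' _ ((I.base a).1 ha)
    simp only [DatumIso.symm, Equiv.symm_apply_apply] at v1 v2
    exact ⟨by rw [← Category.assoc, u1, v1, Category.comp_id],
      by rw [Category.comp_id, ← Category.assoc]; exact (congrArg (· ≫ F') u2).trans v2⟩
  have e2 : F' ≫ F = 𝟙 G' := hom_ext_simple D' b' _ _ (by
      rw [← Category.assoc, hT', Category.assoc, hT, ← Category.assoc]
      show (phi D' D I.L.symm.toLinearMap ≫ phi D D' I.L.symm.symm.toLinearMap) ≫ D'.i = _
      rw [phi_comp, Category.id_comp, Category.comp_id]) fun a ha => by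
    obtain ⟨v1, v2⟩ := hU' a ha
    obtain ⟨u1, u2⟩ := hU _ ((I.symm.base a).1 ha)
    simp only [DatumIso.symm, Equiv.apply_symm_apply] at u1 u2 v1 v2
    exact ⟨by rw [← Category.assoc, v1, u1, Category.comp_id],
      by rw [Category.comp_id, ← Category.assoc]; exact (congrArg (· ≫ F) v2).trans u2⟩
  refine ⟨⟨F, F', e1, e2⟩, ⟨hF, hT.trans (by simp only [phi, Category.assoc]), fun a ha => (hU a ha).1⟩, ?_⟩
  rintro f ⟨hf, hfT, hfU⟩
  haveI := hf
  have hfT' : D.i ≫ f.hom = phi D D' I.L.toLinearMap ≫ D'.i := hfT.trans (by simp only [phi, Category.assoc])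
  ext1
  exact hom_ext_simple D b _ _ (hfT'.trans hT.symm) fun a ha =>
    ⟨(hfU a ha).trans (hU a ha).1.symm, (map_dual I hE hE' f.hom hfT' ha (hfU a ha)).trans (hU a ha).2.symm⟩

/-- **The isomorphism theorem.** -/
theorem existsUnique_iso (I : DatumIso D b D' b') :
    ∃! f : G ≅ G', IsMonHom f.hom ∧
      D.i ≫ f.hom = D.split.hom.hom.hom ≫ Red.DSmap S I.L.toLinearMap.toAddMonoidHom ≫ D'.split.inv.hom.hom ≫ D'.i ∧
      ∀ a ∈ b.support, D.u a ≫ f.hom = D'.u (I.e a) := by
  obtain ⟨w, hw, hw1, hw2⟩ := exists_normalised D b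
  obtain ⟨w', hw', hw1', hw2'⟩ := exists_normalised D' b'
  haveI : (withU D w hw).P.IsReduced := ‹D.P.IsReduced›
  haveI : (withU D' w' hw').P.IsReduced := ‹D'.P.IsReduced›
  obtain ⟨f, ⟨h1, h2, h3⟩, hu⟩ := DatumIso.existsUnique_iso (D := withU D w hw) (D' := withU D' w' hw')
    (b := b) (b' := b') ⟨I.L, I.e, I.root, I.coroot, I.base⟩ hw2 hw2'
  refine ⟨f, ⟨h1, h2, fun a ha => ?_⟩, fun f' ⟨k1, k2, k3⟩ => hu f' ⟨k1, k2, fun a ha => ?_⟩⟩
  · rw [← hw1 a ha, ← hw1' _ ((I.base a).1 ha)]
    exact h3 a ha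
  · show w a ≫ f'.hom = w' (I.e a)
    rw [hw1 a ha, hw1' _ ((I.base a).1 ha)]
    exact k3 a ha

/-- An equivalence of root pairings as an isomorphism of data. -/
def datumIsoOfEquiv {D : Red.SplitRed G} {D' : Red.SplitRed G'} {b : D.P.Base} {b' : D'.P.Base}
    (h : RootPairing.Equiv D'.P D.P) (hΔ : ∀ a', a' ∈ b'.support ↔ h.indexEquiv a' ∈ b.support) :
    DatumIso D b D' b' where
  L := RootPairing.Equiv.weightEquiv _ _ h
  e := h.indexEquiv.symm
  root a := by
    show h.toHom.weightMap _ = _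
    rw [RootPairing.Hom.root_weightMap_apply, Equiv.apply_symm_apply]
  coroot a := by
    ext m
    have h1 := congrArg (fun f : Module.Dual ℤ D'.M => f m)
      (RootPairing.Hom.weight_coweight_transpose_apply _ _ (D.P.coroot a) h.toHom)
    rw [RootPairing.Hom.coroot_coweightMap_apply] at h1
    simpa [D.pairing_eq, D'.pairing_eq] using h1
  base a := by rw [hΔ, Equiv.apply_symm_apply]

end Groth.Agent.PMor16
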