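import Groth.Agent.Lib.PMor16.Rank2
import Groth.Agent.Lib.PMor16.Braid

/-!
# `p`-morphisms of split groups: the graph on root elements
-/

set_option autoImplicit false
set_option linter.style.haveILetI false
set_option linter.unusedSimpArgs false
set_option linter.unusedSectionVars false
set_option backward.isDefEq.respectTransparency false
set_option backward.isDefEq.respectTransparency.types false

universe u

open CategoryTheory CategoryTheory.Limits MonoidalCategory CartesianMonoidalCategory MonObj AlgebraicGeometry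

noncomputable section

namespace Groth.Agent.PMor16

open DiagGL RootDLib RedCell16
open RankOne (P A)

variable {S : Scheme.{u}} {G G' : Over S} [GrpObj G] [GrpObj G']

/-- The combinatorial data of a `p`-morphism between two groups with dual simple root groups. -/
structure Mor (D : Red.SplitRed G) (b : D.P.Base) (D' : Red.SplitRed G') (b' : D'.P.Base) where
  φ : D.T ⟶ D'.T
  d : D.idx ≃ D'.idx
  q : D.idx → ℕ
  q_pos : ∀ a, 0 < q a
  add_pow : ∀ (a : D.idx) (X : Over S) (x y : Γ(X.left, ⊤)), (x + y) ^ q a = x ^ q a + y ^ q a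
  d_refl : ∀ c e, d (D.P.reflectionPerm c e) = D'.P.reflectionPerm (d c) (d e)
  q_refl : ∀ c e, q (D.P.reflectionPerm c e) = q e
  pairing_q : ∀ i j, (q j : ℤ) * D.P.pairing j i = q i * D'.P.pairing (d j) (d i)
  base : ∀ a ∈ b.support, d a ∈ b'.support
  dual : ∀ a ∈ b.support, DualPair D a
  dual' : ∀ a ∈ b'.support, DualPair D' a
  φ_hom : IsMonHom φ
  rt_φ : ∀ (X : Over S) (t : X ⟶ D.T) (c : D.idx), rt D' (t ≫ φ) (d c) = rt D t c ^ q c
  φ_co : ∀ (c : D.idx) (X : Over S) (v : (Γ(X.left, ⊤))ˣ),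
    GmPts.ptOfUnit v ≫ coChar D c ≫ φ = GmPts.ptOfUnit (v ^ q c) ≫ coChar D' (d c)
  char_ratio : ∀ (a c : D.idx) (k : ℕ), (k = 2 ∨ k = 3) → q a = k * q c →
    ∀ X : Over S, (k : Γ(X.left, ⊤)) = 0

/-- Conjugation. -/
abbrev kj {H : Type*} [Group H] (g w : H) : H := g * w * g⁻¹

theorem kj_mul {H : Type*} [Group H] (g w w' : H) : kj g (w * w') = kj g w * kj g w' := by simp only [kj]; group

theorem kj_kj {H : Type*} [Group H] (g g' w : H) : kj g (kj g' w) = kj (g * g') w := by simp only [kj]; group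

theorem kj_one {H : Type*} [Group H] (g : H) : kj g 1 = 1 := by simp [kj]

variable {D : Red.SplitRed G} {b : D.P.Base} {D' : Red.SplitRed G'} {b' : D'.P.Base} (m : Mor D b D' b')

/-- Pairs of points. -/
abbrev KK (_m : Mor D b D' b') (X : Over S) : Type _ := (X ⟶ G) × (X ⟶ G')

namespace Mor

theorem zero_pow' (a : D.idx) {X : Over S} : (0 : Γ(X.left, ⊤)) ^ m.q a = 0 :=
  zero_pow (m.q_pos a).ne'

theorem neg_pow' (a : D.idx) {X : Over S} (x : Γ(X.left, ⊤)) : (-x) ^ m.q a = -x ^ m.q a := by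
  have := m.add_pow a X x (-x)
  rw [add_neg_cancel, m.zero_pow'] at this
  exact eq_neg_of_add_eq_zero_right this.symm

/-- Raising to the power as a ring map. -/
def frob (a : D.idx) (X : Over S) : Γ(X.left, ⊤) →+* Γ(X.left, ⊤) where
  toFun x := x ^ m.q a
  map_one' := one_pow _
  map_mul' x y := mul_pow x y _
  map_zero' := m.zero_pow' a
  map_add' := m.add_pow a X

theorem frob_apply (a : D.idx) {X : Over S} (x : Γ(X.left, ⊤)) : m.frob a X x = x ^ m.q a := rfl

theorem d_ng (a : D.idx) : m.d (ng D.P a) = ng D'.P (m.d a) := m.d_refl a a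

theorem q_ng (a : D.idx) : m.q (ng D.P a) = m.q a := m.q_refl a a

/-- A root element. -/
def gP {X : Over S} (c : D.idx) (x : Γ(X.left, ⊤)) : KK m X := (P (D.u c) x, P (D'.u (m.d c)) (x ^ m.q c))

/-- A torus element. -/
def gT {X : Over S} (t : X ⟶ D.T) : KK m X := (t ≫ D.i, (t ≫ m.φ) ≫ D'.i)

/-- A Weyl element. -/
def gW (c : D.idx) (X : Over S) : KK m X := (Wy D c X, Wy D' (m.d c) X)

/-- Pull back of pairs. -/
def pull {X Y : Over S} (π : Y ⟶ X) (g : KK m X) : KK m Y := (π ≫ g.1, π ≫ g.2)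

theorem pull_mul {X Y : Over S} (π : Y ⟶ X) (g h : KK m X) : m.pull π (g * h) = m.pull π g * m.pull π h :=
  Prod.ext (MonObj.comp_mul _ _ _) (MonObj.comp_mul _ _ _)

theorem pull_one {X Y : Over S} (π : Y ⟶ X) : m.pull π (1 : KK m X) = 1 :=
  Prod.ext (MonObj.comp_one _) (MonObj.comp_one _)

theorem pull_inv {X Y : Over S} (π : Y ⟶ X) (g : KK m X) : m.pull π g⁻¹ = (m.pull π g)⁻¹ :=
  Prod.ext (GrpObj.comp_inv _ _) (GrpObj.comp_inv _ _)

theorem pull_gP {X Y : Over S} (π : Y ⟶ X) (c : D.idx) (x : Γ(X.left, ⊤)) :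
    m.pull π (m.gP c x) = m.gP c (π.left.appTop x) :=
  Prod.ext (RankOne.comp_P _ _ _) (by
    show π ≫ P _ _ = P _ _
    rw [RankOne.comp_P, map_pow])

theorem pull_gT {X Y : Over S} (π : Y ⟶ X) (t : X ⟶ D.T) : m.pull π (m.gT t) = m.gT (π ≫ t) :=
  Prod.ext (Category.assoc _ _ _).symm (by simp [pull, gT])

theorem pull_gW {X Y : Over S} (π : Y ⟶ X) (c : D.idx) : m.pull π (m.gW c X) = m.gW c Y :=
  Prod.ext (comp_Wy _ _ _) (comp_Wy _ _ _)

theorem gP_add {X : Over S} (c : D.idx) (x y : Γ(X.left, ⊤)) : m.gP c (x + y) = m.gP c x * m.gP c y := by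
  haveI := (D.rootHom c).1
  haveI := (D'.rootHom (m.d c)).1
  refine Prod.ext (RankOne.P_add _ _) ?_
  show P _ _ = P _ _ * P _ _
  rw [m.add_pow, RankOne.P_add]

theorem gP_zero {X : Over S} (c : D.idx) : m.gP c (0 : Γ(X.left, ⊤)) = 1 := by
  haveI := (D.rootHom c).1
  haveI := (D'.rootHom (m.d c)).1
  refine Prod.ext RankOne.P_zero ?_
  show P _ _ = 1
  rw [m.zero_pow', RankOne.P_zero]

theorem gP_neg {X : Over S} (c : D.idx) (x : Γ(X.left, ⊤)) : m.gP c (-x) = (m.gP c x)⁻¹ :=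
  eq_inv_of_mul_eq_one_left (by rw [← gP_add, neg_add_cancel, gP_zero])

theorem gT_mul {X : Over S} (s t : X ⟶ D.T) : m.gT (s * t) = m.gT s * m.gT t := by
  haveI := D.maximalTorus.1
  haveI := D'.maximalTorus.1
  haveI := m.φ_hom
  exact Prod.ext (MonObj.mul_comp _ _ _) (by simp [gT, MonObj.mul_comp])

theorem gT_one {X : Over S} : m.gT (1 : X ⟶ D.T) = 1 := by
  haveI := D.maximalTorus.1
  haveI := D'.maximalTorus.1
  haveI := m.φ_hom
  exact Prod.ext (MonObj.one_comp _) (by simp [gT, MonObj.one_comp])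

theorem gT_inv {X : Over S} (t : X ⟶ D.T) : m.gT t⁻¹ = (m.gT t)⁻¹ :=
  eq_inv_of_mul_eq_one_left (by rw [← gT_mul, inv_mul_cancel, gT_one])

theorem gW_eq (c : D.idx) (X : Over S) :
    m.gW c X = m.gP c 1 * m.gP (ng D.P c) (-1) * m.gP c 1 := by
  refine Prod.ext rfl ?_
  show Wy D' (m.d c) X = P _ _ * P _ _ * P _ _
  rw [one_pow, m.neg_pow', one_pow, m.d_ng]
  rfl

theorem gT_conj_gP {X : Over S} (t : X ⟶ D.T) (c : D.idx) (x : Γ(X.left, ⊤)) :
    kj (m.gT t) (m.gP c x) = m.gP c (rt D t c * x) := by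
  refine Prod.ext (conj_P D t c x) ?_
  show ((t ≫ m.φ) ≫ D'.i) * P _ _ * ((t ≫ m.φ) ≫ D'.i)⁻¹ = P _ _
  rw [conj_P, m.rt_φ, mul_pow]

/-- The reflection of a torus point. -/
def tRefl {X : Over S} (a : D.idx) (t : X ⟶ D.T) : X ⟶ D.T :=
  (GmPts.ptOfUnit (GmPts.unitOfPt (t ≫ rootChar D a)) ≫ coChar D a)⁻¹ * t

theorem gW_conj_gT {X : Over S} {a : D.idx} (ha : a ∈ b.support) (t : X ⟶ D.T) :
    kj (m.gW a X) (m.gT t) = m.gT (tRefl a t) := by
  haveI := D.maximalTorus.1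
  haveI := D'.maximalTorus.1
  haveI := m.φ_hom
  have E := m.dual a ha
  have E' := m.dual' _ (m.base a ha)
  have hu : GmPts.unitOfPt ((t ≫ m.φ) ≫ rootChar D' (m.d a)) = GmPts.unitOfPt (t ≫ rootChar D a) ^ m.q a := by
    apply Units.ext
    rw [Units.val_pow_eq_pow_val, GmPts.val_unitOfPt, GmPts.val_unitOfPt]
    exact m.rt_φ X t a
  refine Prod.ext ?_ ?_
  · show Wy D a X * (t ≫ D.i) * (Wy D a X)⁻¹ = _ ≫ D.i
    rw [RankOne16.W_conj_T E, tRefl, MonObj.mul_comp, GrpObj.inv_comp, A]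
    simp only [coChar, Category.assoc]
  · show Wy D' (m.d a) X * ((t ≫ m.φ) ≫ D'.i) * (Wy D' (m.d a) X)⁻¹ = (_ ≫ m.φ) ≫ D'.i
    rw [RankOne16.W_conj_T E', hu, tRefl, MonObj.mul_comp, GrpObj.inv_comp,
      Category.assoc (GmPts.ptOfUnit (GmPts.unitOfPt (t ≫ rootChar D a))) (coChar D a) m.φ, m.φ_co,
      MonObj.mul_comp, GrpObj.inv_comp, A]
    simp only [coChar, Category.assoc]

theorem gW_mul_gW {X : Over S} {a : D.idx} (ha : a ∈ b.support) :
    m.gW a X * m.gW a X = m.gT (GmPts.ptOfUnit (-1) ≫ coChar D a) := by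
  haveI := D.maximalTorus.1
  haveI := D'.maximalTorus.1
  refine Prod.ext ?_ ?_
  · show Wy D a X * Wy D a X = _ ≫ D.i
    rw [RankOne16.W_mul_W (m.dual a ha), A]
    simp only [coChar, Category.assoc]
  · show Wy D' (m.d a) X * Wy D' (m.d a) X = (_ ≫ m.φ) ≫ D'.i
    have e : ((-1 : (Γ(X.left, ⊤))ˣ)) ^ m.q a = -1 := by
      apply Units.ext
      rw [Units.val_pow_eq_pow_val, Units.val_neg, Units.val_one, m.neg_pow', one_pow]
    rw [RankOne16.W_mul_W (m.dual' _ (m.base a ha)), A, Category.assoc _ (coChar D a) m.φ, m.φ_co, e]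
    simp only [coChar, Category.assoc]

theorem gW_conj_self {X : Over S} {a : D.idx} (ha : a ∈ b.support) (x : Γ(X.left, ⊤)) :
    kj (m.gW a X) (m.gP a x) = m.gP (ng D.P a) (-x) ∧ kj (m.gW a X) (m.gP (ng D.P a) x) = m.gP a (-x) := by
  refine ⟨Prod.ext (cj_self D (m.dual a ha) X x).1 ?_, Prod.ext (cj_self D (m.dual a ha) X x).2 ?_⟩
  · show cj (Wy D' (m.d a) X) (P (D'.u (m.d a)) (x ^ m.q a)) = P _ _
    rw [(cj_self D' (m.dual' _ (m.base a ha)) X _).1, m.d_ng, m.q_ng, m.neg_pow']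
  · show cj (Wy D' (m.d a) X) (P (D'.u (m.d (ng D.P a))) (x ^ m.q (ng D.P a))) = P _ _
    rw [m.d_ng, m.q_ng, (cj_self D' (m.dual' _ (m.base a ha)) X _).2, m.neg_pow']

/-- The product of root elements along a word. -/
def gw {X : Over S} : List D.idx → (ℕ → Γ(X.left, ⊤)) → KK m X
  | [], _ => 1
  | a :: l, x => m.gP a (x 0) * kj (m.gW a X) (gw l fun k => x (k + 1))

/-- The product of the Weyl elements of a word. -/
def gWd (l : List D.idx) (X : Over S) : KK m X := (l.map fun a => m.gW a X).prod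

theorem gWd_cons (a : D.idx) (l : List D.idx) (X : Over S) : m.gWd (a :: l) X = m.gW a X * m.gWd l X := by
  simp [gWd]

theorem gWd_append (l n : List D.idx) (X : Over S) : m.gWd (l ++ n) X = m.gWd l X * m.gWd n X := by
  simp [gWd]

theorem gWd_fst (l : List D.idx) (X : Over S) : (m.gWd l X).1 = toUnit X ≫ Wd D l := by
  induction l with
  | nil => simp [gWd, Wd, MonObj.comp_one]
  | cons a l ih =>
    rw [gWd_cons, Wd, List.map_cons, List.prod_cons, MonObj.comp_mul, comp_W₁]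
    show _ * (m.gWd l X).1 = _
    rw [ih]; rfl

theorem gWd_snd (l : List D.idx) (X : Over S) : (m.gWd l X).2 = toUnit X ≫ Wd D' (l.map m.d) := by
  induction l with
  | nil => simp [gWd, Wd, MonObj.comp_one]
  | cons a l ih =>
    rw [gWd_cons, Wd, List.map_cons, List.map_cons, List.prod_cons, MonObj.comp_mul, comp_W₁]
    show _ * (m.gWd l X).2 = _
    rw [ih]; rfl

theorem gw_append {X : Over S} : ∀ (l n : List D.idx) (x : ℕ → Γ(X.left, ⊤)),
    m.gw (l ++ n) x = m.gw l x * kj (m.gWd l X) (m.gw n fun k => x (k + l.length))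
  | [], n, x => by simp [gw, gWd, kj]
  | a :: l, n, x => by
    rw [List.cons_append, gw, gw, gw_append l n, gWd_cons, kj_mul, kj_kj, ← _root_.mul_assoc]
    simp only [List.length_cons, ← Nat.add_assoc, Nat.add_right_comm _ l.length 1]

/-- The coordinates on the side of the target. -/
def pw {X : Over S} : List D.idx → (ℕ → Γ(X.left, ⊤)) → ℕ → Γ(X.left, ⊤)
  | [], _, _ => 0
  | a :: _, x, 0 => x 0 ^ m.q a
  | _ :: l, x, k + 1 => pw l (fun j => x (j + 1)) k

theorem gw_fst {X : Over S} : ∀ (l : List D.idx) (x : ℕ → Γ(X.left, ⊤)), (m.gw l x).1 = sw D l x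
  | [], _ => rfl
  | a :: l, x => by
    show P _ _ * cj _ (m.gw l _).1 = _
    rw [gw_fst l]; rfl

theorem gw_snd {X : Over S} : ∀ (l : List D.idx) (x : ℕ → Γ(X.left, ⊤)),
    (m.gw l x).2 = sw D' (l.map m.d) (m.pw l x)
  | [], _ => rfl
  | a :: l, x => by
    show P _ _ * cj _ (m.gw l _).2 = _
    rw [gw_snd l]; rfl

theorem gw_congr {X : Over S} : ∀ (l : List D.idx) (x y : ℕ → Γ(X.left, ⊤)),
    (∀ k < l.length, x k = y k) → m.gw l x = m.gw l y
  | [], _, _, _ => rfl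
  | a :: l, x, y, h => by
    rw [gw, gw, h 0 (by simp), gw_congr l _ (fun k => y (k + 1)) fun k hk => h (k + 1) (by simpa using hk)]

theorem gw_zero {X : Over S} : ∀ l : List D.idx, m.gw l (0 : ℕ → Γ(X.left, ⊤)) = 1
  | [] => rfl
  | a :: l => by
    rw [gw, Pi.zero_apply, gP_zero, show (fun k => (0 : ℕ → Γ(X.left, ⊤)) (k + 1)) = 0 from rfl, gw_zero l,
      kj_one, _root_.one_mul]

end Mor

end Groth.Agent.PMor16
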