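import Groth.Agent.Lib.PMor16.Mor
import Groth.Agent.Lib.RedCell16.ChevExists
import Groth.Agent.Lib.RedCell16.Realise

/-!
# The braid relations for the graph
-/

set_option autoImplicit false
set_option linter.style.haveILetI false
set_option linter.unusedSimpArgs false
set_option linter.unusedSectionVars false
set_option backward.isDefEq.respectTransparency false
set_option backward.isDefEq.respectTransparency.types false

universe u

open CategoryTheory CategoryTheory.Limits MonoidalCategory CartesianMonoidalCategory MonObj AlgebraicGeometry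

noncomputable section

namespace Groth.Agent.PMor16

open DiagGL RootDLib RedCell16
open RankOne (P A)

variable {S : Scheme.{u}} {G G' : Over S} [GrpObj G] [GrpObj G']

theorem exists_pow_root (Y : Over S) {n : ℕ} (hn : 0 < n) (x : Γ(Y.left, ⊤)) :
    ∃ (Y' : Over S) (e : Y' ⟶ Y) (z : Γ(Y'.left, ⊤)), Epi e ∧ z ^ n = e.left.appTop x := by
  rcases subsingleton_or_nontrivial Γ(Y.left, ⊤) with hs | hs
  · exact ⟨Y, 𝟙 Y, x, inferInstance, Subsingleton.elim _ _⟩
  · obtain ⟨Y', e, z, he, hz⟩ := RankOne16.exists_root_cover Y (Polynomial.X ^ n - Polynomial.C x)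
      (Polynomial.monic_X_pow_sub_C x hn.ne') (by rw [Polynomial.natDegree_X_pow_sub_C]; exact hn.ne')
    rw [Polynomial.eval₂_sub, Polynomial.eval₂_X_pow, Polynomial.eval₂_C] at hz
    exact ⟨Y', e, z, he, sub_eq_zero.1 hz⟩

theorem exists_pairs' {D : Red.SplitRed G} [D.P.IsReduced] (b₀ : D.P.Base) {a b : D.idx} (ha : a ∈ b₀.support)
    (hb : b ∈ b₀.support) (hne : a ≠ b) :
    ∃ p q : ℤ, D.P.pairing b a = -p ∧ D.P.pairing a b = -q ∧ Pairs p q := by
  haveI := D.fintypeIdx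
  have h1 : D.P.root b ≠ D.P.root a := fun e => hne (D.P.root.injective e).symm
  have h2 : D.P.root b ≠ -D.P.root a := fun e => by
    obtain ⟨e1, -⟩ := Prod.ext_iff.1 (coords_eq (D := D) b₀ ha hb hne (i := 1) (j := 1) (i' := 0) (j' := 0)
      (by rw [e]; simp))
    omega
  obtain ⟨b1, b2, b3⟩ := abs_pairing_le h1 h2
  obtain ⟨a1, -, -⟩ := abs_pairing_le (P := D.P) (c := a) (d := b) h1.symm (fun e => h2 (by rw [e, neg_neg]))
  have hle : ∀ {i j : D.idx}, i ≠ j → i ∈ b₀.support → j ∈ b₀.support → D.P.pairing i j ≤ 0 := fun h hi hj => by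
    have := b₀.pairingIn_le_zero_of_ne h hi hj
    rwa [pairingIn_eq] at this
  have n1 := hle hne.symm hb ha
  have n2 := hle hne ha hb
  have hiff := pairing_neg_comm (P := D.P) b a
  refine ⟨-D.P.pairing b a, -D.P.pairing a b, (neg_neg _).symm, (neg_neg _).symm, ?_⟩
  obtain ⟨x, hx⟩ : ∃ x, D.P.pairing b a = x := ⟨_, rfl⟩
  obtain ⟨y, hy⟩ : ∃ y, D.P.pairing a b = y := ⟨_, rfl⟩
  simp only [hx, hy, abs_le] at a1 b1 b2 b3 n1 n2 hiff ⊢
  unfold Pairs
  obtain ⟨x1, x2⟩ : -3 ≤ x ∧ x ≤ 0 := ⟨b1.1, n1⟩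
  obtain ⟨y1, y2⟩ : -3 ≤ y ∧ y ≤ 0 := ⟨a1.1, n2⟩
  interval_cases x <;> interval_cases y <;> omega

theorem orth_facts {D : Red.SplitRed G} [D.P.IsReduced] (b₀ : D.P.Base) {a b : D.idx} (ha : a ∈ b₀.support)
    (hb : b ∈ b₀.support) (hne : a ≠ b) (hq : D.P.pairing a b = 0) (X : Over S) (x y : Γ(X.left, ⊤)) :
    cj (Wy D a X) (P (D.u b) y) = P (D.u b) y ∧ P (D.u b) y * P (D.u a) x = P (D.u a) x * P (D.u b) y := by
  haveI := D.fintypeIdx
  refine A1A1_facts b₀ ?_ (b₀.sub_notMem_range_root hb ha) ?_ (fun e => hne (D.P.root.injective (sub_eq_zero.1 e)).symm) X x y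
  · rintro ⟨c, hc⟩
    refine b₀.sub_notMem_range_root ha hb ⟨D.P.reflectionPerm b c, ?_⟩
    rw [root_refl, show D.P.pairing c b = 2 by
      rw [← RootPairing.root_coroot'_eq_pairing, hc, map_add, RootPairing.root_coroot'_eq_pairing,
        RootPairing.root_coroot'_eq_pairing, RootPairing.pairing_same, hq, zero_add], hc, two_smul]
    abel
  · intro e
    have := congrArg (D.P.coroot' b) e
    simp [hq] at this

variable {D : Red.SplitRed G} {b₀ : D.P.Base} {D' : Red.SplitRed G'} {b₀' : D'.P.Base} (m : Mor D b₀ D' b₀')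

namespace Mor

/-- The end of the shorter longest word carries one simple root to the other, exactly. -/
def Exact (a b : D.idx) (p q : ℤ) : Prop :=
  ∀ (s : Bool) (X : Over S) (y : Γ(X.left, ⊤)),
    kj (m.gWd (nm a b (altB s (braidLen p q - 1))) X)
      (m.gP (if (if (braidLen p q - 1) % 2 = 0 then s else !s) then b else a) y) =
      m.gP (if !s then b else a) y

/-- The two longest words parametrise the same set. -/
def Words (a b : D.idx) (p q : ℤ) : Prop :=
  ∀ X : Over S,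
    (∀ x : ℕ → Γ(X.left, ⊤), ∃ y, m.gw (nm a b (altB false (braidLen p q))) x =
      m.gw (nm a b (altB true (braidLen p q))) y) ∧
    ∀ y : ℕ → Γ(X.left, ⊤), ∃ x, m.gw (nm a b (altB false (braidLen p q))) x =
      m.gw (nm a b (altB true (braidLen p q))) y

theorem nm_swap (a b : D.idx) (l : List Bool) : nm b a l = nm a b (l.map not) := by
  simp only [nm, List.map_map]
  congr 1
  funext x
  cases x <;> rfl

theorem altB_not : ∀ (s : Bool) (n : ℕ), (altB s n).map not = altB (!s) n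
  | _, 0 => rfl
  | s, n + 1 => by simp [altB, altB_not (!s) n]

theorem braidLen_comm (p q : ℤ) : braidLen q p = braidLen p q := by
  unfold braidLen; rw [mul_comm q p]

theorem Exact.swap {a b : D.idx} {p q : ℤ} (h : m.Exact a b p q) : m.Exact b a q p := by
  intro s X y
  rw [nm_swap, altB_not, braidLen_comm]
  have := h (!s) X y
  convert this using 2
  · congr 1
    cases s <;> split_ifs <;> simp_all
  · cases s <;> rfl

theorem Words.swap {a b : D.idx} {p q : ℤ} (h : m.Words a b p q) : m.Words b a q p := by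
  intro X
  rw [nm_swap a b (altB false _), nm_swap a b (altB true _), altB_not, altB_not, braidLen_comm]
  simp only [Bool.not_false, Bool.not_true]
  exact ⟨fun x => by obtain ⟨z, hz⟩ := (h X).2 x; exact ⟨z, hz.symm⟩,
    fun y => by obtain ⟨z, hz⟩ := (h X).1 y; exact ⟨z, hz.symm⟩⟩

variable [D.P.IsReduced] [D'.P.IsReduced]

theorem d_ne {a b : D.idx} (h : a ≠ b) : m.d a ≠ m.d b := fun e => h (m.d.injective e)

theorem rankTwo_zero {a b : D.idx} (ha : a ∈ b₀.support) (hb : b ∈ b₀.support) (hne : a ≠ b)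
    (hp : D.P.pairing b a = 0) (hq : D.P.pairing a b = 0) :
    m.Exact a b 0 0 ∧ m.Words a b 0 0 := by
  have hq' : D'.P.pairing (m.d a) (m.d b) = 0 := by
    have := m.pairing_q b a
    rw [hq, mul_zero] at this
    exact (mul_eq_zero.1 this.symm).resolve_left (by exact_mod_cast (m.q_pos b).ne')
  have hp' : D'.P.pairing (m.d b) (m.d a) = 0 := by
    have := m.pairing_q a b
    rw [hp, mul_zero] at this
    exact (mul_eq_zero.1 this.symm).resolve_left (by exact_mod_cast (m.q_pos a).ne')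
  have cB : ∀ (X : Over S) (y : Γ(X.left, ⊤)), kj (m.gW a X) (m.gP b y) = m.gP b y := fun X y =>
    Prod.ext (orth_facts b₀ ha hb hne hq X 0 y).1
      (orth_facts b₀' (m.base a ha) (m.base b hb) (m.d_ne hne) hq' X 0 _).1
  have cA : ∀ (X : Over S) (y : Γ(X.left, ⊤)), kj (m.gW b X) (m.gP a y) = m.gP a y := fun X y =>
    Prod.ext (orth_facts b₀ hb ha hne.symm hp X 0 y).1
      (orth_facts b₀' (m.base b hb) (m.base a ha) (m.d_ne hne).symm hp' X 0 _).1
  have hc : ∀ (X : Over S) (x y : Γ(X.left, ⊤)), m.gP b y * m.gP a x = m.gP a x * m.gP b y := fun X x y =>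
    Prod.ext (orth_facts b₀ ha hb hne hq X x y).2
      (orth_facts b₀' (m.base a ha) (m.base b hb) (m.d_ne hne) hq' X _ _).2
  refine ⟨fun s X y => ?_, fun X => ?_⟩
  · rw [show braidLen 0 0 = 2 from rfl]
    cases s
    · show kj (m.gWd [a] X) (m.gP b y) = m.gP b y
      rw [gWd, List.map_singleton, List.prod_singleton, cB]
    · show kj (m.gWd [b] X) (m.gP a y) = m.gP a y
      rw [gWd, List.map_singleton, List.prod_singleton, cA]
  · have e : ∀ x y : ℕ → Γ(X.left, ⊤), x 0 = y 1 → x 1 = y 0 →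
        m.gw (nm a b (altB false (braidLen 0 0))) x = m.gw (nm a b (altB true (braidLen 0 0))) y := by
      intro x y h0 h1
      show m.gw [a, b] x = m.gw [b, a] y
      simp only [gw, kj_one, _root_.mul_one, zero_add]
      rw [cB, cA, h0, h1, hc]
    exact ⟨fun x => ⟨fun k => if k = 0 then x 1 else x 0, e x _ rfl rfl⟩,
      fun y => ⟨fun k => if k = 0 then y 1 else y 0, e _ y rfl rfl⟩⟩

theorem pairSys_d {a b : D.idx} {p : ℤ} (ha : a ∈ b₀.support) (hb : b ∈ b₀.support)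
    (hp3 : p = 1 ∨ p = 2 ∨ p = 3) (hba : D'.P.pairing (m.d b) (m.d a) = -p)
    (hab : D'.P.pairing (m.d a) (m.d b) = -1) : PairSys D'.P (m.d a) (m.d b) p :=
  ⟨hp3, hab, hba, haveI := D'.fintypeIdx; b₀'.sub_notMem_range_root (m.base b hb) (m.base a ha)⟩

theorem pairSys_self {a b : D.idx} {p : ℤ} (ha : a ∈ b₀.support) (hb : b ∈ b₀.support)
    (hp3 : p = 1 ∨ p = 2 ∨ p = 3) (hba : D.P.pairing b a = -p) (hab : D.P.pairing a b = -1) : PairSys D.P a b p :=
  ⟨hp3, hab, hba, haveI := D.fintypeIdx; b₀.sub_notMem_range_root hb ha⟩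

theorem rankTwo_A2 {a b : D.idx} (ha : a ∈ b₀.support) (hb : b ∈ b₀.support)
    (hba : D.P.pairing b a = -1) (hab : D.P.pairing a b = -1)
    (hba' : D'.P.pairing (m.d b) (m.d a) = -1) (hab' : D'.P.pairing (m.d a) (m.d b) = -1) (hq : m.q a = m.q b) :
    m.Exact a b 1 1 ∧ m.Words a b 1 1 := by
  have h := pairSys_self (D := D) ha hb (Or.inl rfl) hba hab
  have h' := m.pairSys_d ha hb (Or.inl rfl) hba' hab'
  have Ea := m.dual a ha
  have Eb := m.dual b hb
  have Ea' := m.dual' _ (m.base a ha)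
  have Eb' := m.dual' _ (m.base b hb)
  refine ⟨fun s X y => ?_, fun X => ?_⟩
  · rw [show braidLen 1 1 = 3 from rfl]
    cases s
    · show kj (m.gWd [a, b] X) (m.gP a y) = m.gP b y
      simp only [gWd, List.map_cons, List.map_nil, List.prod_cons, List.prod_nil, _root_.mul_one, ← kj_kj]
      refine Prod.ext (A2_exact b₀ h Ea Eb X y).1 ?_
      show cj (Wy D' (m.d a) X) (cj (Wy D' (m.d b) X) (P (D'.u (m.d a)) (y ^ m.q a))) = P (D'.u (m.d b)) (y ^ m.q b)
      rw [(A2_exact b₀' h' Ea' Eb' X _).1, hq]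
    · show kj (m.gWd [b, a] X) (m.gP b y) = m.gP a y
      simp only [gWd, List.map_cons, List.map_nil, List.prod_cons, List.prod_nil, _root_.mul_one, ← kj_kj]
      refine Prod.ext (A2_exact b₀ h Ea Eb X y).2 ?_
      show cj (Wy D' (m.d b) X) (cj (Wy D' (m.d a) X) (P (D'.u (m.d b)) (y ^ m.q b))) = P (D'.u (m.d a)) (y ^ m.q a)
      rw [(A2_exact b₀' h' Ea' Eb' X _).2, hq]
  · have e : ∀ x y : ℕ → Γ(X.left, ⊤), RelA2 x y →
        m.gw (nm a b (altB false (braidLen 1 1))) x = m.gw (nm a b (altB true (braidLen 1 1))) y := by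
      intro x y hr
      show m.gw [a, b, a] x = m.gw [b, a, b] y
      refine Prod.ext ?_ ?_
      · rw [gw_fst, gw_fst]; exact A2_words b₀ h Ea Eb X x y hr
      · rw [gw_snd, gw_snd]
        obtain ⟨h2, h0, h1⟩ := hr
        refine A2_words b₀' h' Ea' Eb' X _ _ ⟨?_, ?_, ?_⟩
        · show y 2 ^ m.q b = x 0 ^ m.q a
          rw [h2, hq]
        · show y 0 ^ m.q b = x 2 ^ m.q a
          rw [h0, hq]
        · show y 1 ^ m.q a = -(x 1 ^ m.q b) - x 0 ^ m.q a * x 2 ^ m.q a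
          simp only [← hq, ← m.frob_apply a, h1, map_sub, map_neg, map_mul]
    exact ⟨fun x => ⟨fun k => if k = 0 then x 2 else if k = 1 then -(x 1) - x 0 * x 2 else x 0,
        e x _ ⟨rfl, rfl, rfl⟩⟩,
      fun y => ⟨fun k => if k = 0 then y 2 else if k = 1 then -(y 1) - y 2 * y 0 else y 0,
        e _ y ⟨rfl, rfl, by simp⟩⟩⟩

theorem rankTwo_B2 {a b : D.idx} (ha : a ∈ b₀.support) (hb : b ∈ b₀.support)
    (hba : D.P.pairing b a = -2) (hab : D.P.pairing a b = -1)
    (h' : (D'.P.pairing (m.d b) (m.d a) = -2 ∧ D'.P.pairing (m.d a) (m.d b) = -1 ∧ m.q a = m.q b) ∨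
      (D'.P.pairing (m.d b) (m.d a) = -1 ∧ D'.P.pairing (m.d a) (m.d b) = -2 ∧ m.q a = 2 * m.q b)) :
    m.Exact a b 2 1 ∧ m.Words a b 2 1 := by
  have h := pairSys_self (D := D) ha hb (Or.inr (Or.inl rfl)) hba hab
  have Ea := m.dual a ha
  have Eb := m.dual b hb
  have Ea' := m.dual' _ (m.base a ha)
  have Eb' := m.dual' _ (m.base b hb)
  refine ⟨fun s X y => ?_, fun X => ?_⟩
  · rw [show braidLen 2 1 = 4 from rfl]
    cases s
    · show kj (m.gWd [a, b, a] X) (m.gP b y) = m.gP b y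
      simp only [gWd, List.map_cons, List.map_nil, List.prod_cons, List.prod_nil, _root_.mul_one, ← kj_kj]
      refine Prod.ext (B2_exact b₀ h Ea Eb X y).1 ?_
      show cj (Wy D' (m.d a) X) (cj (Wy D' (m.d b) X) (cj (Wy D' (m.d a) X) (P (D'.u (m.d b)) (y ^ m.q b)))) =
        P (D'.u (m.d b)) (y ^ m.q b)
      rcases h' with ⟨u1, u2, -⟩ | ⟨u1, u2, -⟩
      · exact (B2_exact b₀' (m.pairSys_d ha hb (Or.inr (Or.inl rfl)) u1 u2) Ea' Eb' X _).1
      · exact (B2_exact b₀' (m.pairSys_d hb ha (Or.inr (Or.inl rfl)) u2 u1) Eb' Ea' X _).2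
    · show kj (m.gWd [b, a, b] X) (m.gP a y) = m.gP a y
      simp only [gWd, List.map_cons, List.map_nil, List.prod_cons, List.prod_nil, _root_.mul_one, ← kj_kj]
      refine Prod.ext (B2_exact b₀ h Ea Eb X y).2 ?_
      show cj (Wy D' (m.d b) X) (cj (Wy D' (m.d a) X) (cj (Wy D' (m.d b) X) (P (D'.u (m.d a)) (y ^ m.q a)))) =
        P (D'.u (m.d a)) (y ^ m.q a)
      rcases h' with ⟨u1, u2, -⟩ | ⟨u1, u2, -⟩
      · exact (B2_exact b₀' (m.pairSys_d ha hb (Or.inr (Or.inl rfl)) u1 u2) Ea' Eb' X _).2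
      · exact (B2_exact b₀' (m.pairSys_d hb ha (Or.inr (Or.inl rfl)) u2 u1) Eb' Ea' X _).1
  · have e : ∀ x y : ℕ → Γ(X.left, ⊤), RelB2 x y →
        m.gw (nm a b (altB false (braidLen 2 1))) x = m.gw (nm a b (altB true (braidLen 2 1))) y := by
      intro x y hr
      show m.gw [a, b, a, b] x = m.gw [b, a, b, a] y
      refine Prod.ext ?_ ?_
      · rw [gw_fst, gw_fst]; exact B2_words b₀ h Ea Eb X x y hr
      · rw [gw_snd, gw_snd]
        obtain ⟨h3, h0, h2, h1⟩ := hr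
        rcases h' with ⟨u1, u2, hq⟩ | ⟨u1, u2, hq⟩
        · refine B2_words b₀' (m.pairSys_d ha hb (Or.inr (Or.inl rfl)) u1 u2) Ea' Eb' X _ _ ⟨?_, ?_, ?_, ?_⟩
          · show y 3 ^ m.q a = x 0 ^ m.q a
            rw [h3]
          · show y 0 ^ m.q b = x 3 ^ m.q b
            rw [h0]
          · show -(x 2 ^ m.q a) = y 0 ^ m.q b * y 3 ^ m.q a + y 1 ^ m.q a
            simp only [← hq, ← m.frob_apply a]
            rw [← map_neg, h2, map_add, map_mul]
          · show x 1 ^ m.q b = (y 3 ^ m.q a) ^ 2 * y 0 ^ m.q b + 2 * y 3 ^ m.q a * y 1 ^ m.q a + y 2 ^ m.q b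
            simp only [← hq, ← m.frob_apply a]
            rw [h1]
            simp only [map_add, map_mul, map_pow, map_ofNat]
        · have c2 : (2 : Γ(X.left, ⊤)) = 0 := by exact_mod_cast m.char_ratio a b 2 (Or.inl rfl) hq X
          refine (B2_words b₀' (m.pairSys_d hb ha (Or.inr (Or.inl rfl)) u2 u1) Eb' Ea' X _ _ ⟨?_, ?_, ?_, ?_⟩).symm
          · show x 3 ^ m.q b = y 0 ^ m.q b
            rw [h0]
          · show x 0 ^ m.q a = y 3 ^ m.q a
            rw [h3]
          · show -(y 2 ^ m.q b) = x 0 ^ m.q a * x 3 ^ m.q b + x 1 ^ m.q b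
            simp only [hq, pow_mul', ← m.frob_apply b]
            rw [← h0, ← h3, h1]
            simp only [map_add, map_mul, map_pow, map_ofNat]
            linear_combination (-(m.frob b X (y 3) ^ 2 * m.frob b X (y 0)) - m.frob b X (y 2) -
              m.frob b X (y 3) * m.frob b X (y 1)) * c2
          · show y 1 ^ m.q a = (x 3 ^ m.q b) ^ 2 * x 0 ^ m.q a + 2 * x 3 ^ m.q b * x 1 ^ m.q b + x 2 ^ m.q a
            have hx2 : x 2 = -(y 0 * y 3 + y 1) := by rw [← h2, neg_neg]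
            simp only [hq, pow_mul', ← m.frob_apply b]
            rw [← h0, ← h3, hx2]
            simp only [map_add, map_mul, map_neg]
            linear_combination (-(m.frob b X (y 0) ^ 2 * m.frob b X (y 3) ^ 2) - m.frob b X (y 0) * m.frob b X (x 1) -
              m.frob b X (y 0) * m.frob b X (y 3) * m.frob b X (y 1)) * c2
    exact ⟨fun x => ⟨fun k => if k = 0 then x 3 else if k = 1 then -x 2 - x 3 * x 0 else
        if k = 2 then x 1 - x 0 ^ 2 * x 3 - 2 * x 0 * (-x 2 - x 3 * x 0) else x 0,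
        e x _ ⟨rfl, rfl, by simp, by simp⟩⟩,
      fun y => ⟨fun k => if k = 0 then y 3 else if k = 1 then y 3 ^ 2 * y 0 + 2 * y 3 * y 1 + y 2 else
        if k = 2 then -(y 0 * y 3 + y 1) else y 0, e _ y ⟨rfl, rfl, by simp, by simp⟩⟩⟩

theorem rankTwo_G2 {a b : D.idx} (ha : a ∈ b₀.support) (hb : b ∈ b₀.support)
    (hba : D.P.pairing b a = -3) (hab : D.P.pairing a b = -1)
    (h' : (D'.P.pairing (m.d b) (m.d a) = -3 ∧ D'.P.pairing (m.d a) (m.d b) = -1 ∧ m.q a = m.q b) ∨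
      (D'.P.pairing (m.d b) (m.d a) = -1 ∧ D'.P.pairing (m.d a) (m.d b) = -3 ∧ m.q a = 3 * m.q b)) :
    m.Exact a b 3 1 ∧ m.Words a b 3 1 := by
  have h := pairSys_self (D := D) ha hb (Or.inr (Or.inr rfl)) hba hab
  have Ea := m.dual a ha
  have Eb := m.dual b hb
  have Ea' := m.dual' _ (m.base a ha)
  have Eb' := m.dual' _ (m.base b hb)
  refine ⟨fun s X y => ?_, fun X => ?_⟩
  · rw [show braidLen 3 1 = 6 from rfl]
    cases s
    · show kj (m.gWd [a, b, a, b, a] X) (m.gP b y) = m.gP b y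
      simp only [gWd, List.map_cons, List.map_nil, List.prod_cons, List.prod_nil, _root_.mul_one, ← kj_kj]
      refine Prod.ext (G2_exact b₀ h Ea Eb X y).1 ?_
      show cj (Wy D' (m.d a) X) (cj (Wy D' (m.d b) X) (cj (Wy D' (m.d a) X) (cj (Wy D' (m.d b) X) (cj (Wy D' (m.d a) X)
        (P (D'.u (m.d b)) (y ^ m.q b)))))) = P (D'.u (m.d b)) (y ^ m.q b)
      rcases h' with ⟨u1, u2, -⟩ | ⟨u1, u2, -⟩
      · exact (G2_exact b₀' (m.pairSys_d ha hb (Or.inr (Or.inr rfl)) u1 u2) Ea' Eb' X _).1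
      · exact (G2_exact b₀' (m.pairSys_d hb ha (Or.inr (Or.inr rfl)) u2 u1) Eb' Ea' X _).2
    · show kj (m.gWd [b, a, b, a, b] X) (m.gP a y) = m.gP a y
      simp only [gWd, List.map_cons, List.map_nil, List.prod_cons, List.prod_nil, _root_.mul_one, ← kj_kj]
      refine Prod.ext (G2_exact b₀ h Ea Eb X y).2 ?_
      show cj (Wy D' (m.d b) X) (cj (Wy D' (m.d a) X) (cj (Wy D' (m.d b) X) (cj (Wy D' (m.d a) X) (cj (Wy D' (m.d b) X)
        (P (D'.u (m.d a)) (y ^ m.q a)))))) = P (D'.u (m.d a)) (y ^ m.q a)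
      rcases h' with ⟨u1, u2, -⟩ | ⟨u1, u2, -⟩
      · exact (G2_exact b₀' (m.pairSys_d ha hb (Or.inr (Or.inr rfl)) u1 u2) Ea' Eb' X _).2
      · exact (G2_exact b₀' (m.pairSys_d hb ha (Or.inr (Or.inr rfl)) u2 u1) Eb' Ea' X _).1
  · have e : ∀ x y : ℕ → Γ(X.left, ⊤), RelG2 x y →
        m.gw (nm a b (altB false (braidLen 3 1))) x = m.gw (nm a b (altB true (braidLen 3 1))) y := by
      intro x y hr
      show m.gw [a, b, a, b, a, b] x = m.gw [b, a, b, a, b, a] y
      refine Prod.ext ?_ ?_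
      · rw [gw_fst, gw_fst]; exact G2_words b₀ h Ea Eb X x y hr
      · rw [gw_snd, gw_snd]
        obtain ⟨h5, h0, h4, h2, h1, h3⟩ := hr
        rcases h' with ⟨u1, u2, hq⟩ | ⟨u1, u2, hq⟩
        · refine G2_words b₀' (m.pairSys_d ha hb (Or.inr (Or.inr rfl)) u1 u2) Ea' Eb' X _ _ ⟨?_, ?_, ?_, ?_, ?_, ?_⟩
          · show y 5 ^ m.q a = x 0 ^ m.q a
            rw [h5]
          · show y 0 ^ m.q b = x 5 ^ m.q b
            rw [h0]
          · show -(x 4 ^ m.q a) = y 5 ^ m.q a * y 0 ^ m.q b + y 1 ^ m.q a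
            simp only [← hq, ← m.frob_apply a]
            rw [← map_neg, h4, map_add, map_mul]
          · show x 2 ^ m.q a = (y 5 ^ m.q a) ^ 2 * y 0 ^ m.q b + y 3 ^ m.q a + 2 * y 5 ^ m.q a * y 1 ^ m.q a
            simp only [← hq, ← m.frob_apply a]
            rw [h2]
            simp only [map_add, map_mul, map_pow, map_ofNat]
          · show -(x 1 ^ m.q b) = (y 5 ^ m.q a) ^ 3 * y 0 ^ m.q b + y 4 ^ m.q b + 3 * y 5 ^ m.q a * y 3 ^ m.q a +
              3 * (y 5 ^ m.q a) ^ 2 * y 1 ^ m.q a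
            simp only [← hq, ← m.frob_apply a]
            rw [← map_neg, h1]
            simp only [map_add, map_mul, map_pow, map_ofNat]
          · show -(x 3 ^ m.q b) - 3 * x 2 ^ m.q a * x 4 ^ m.q a + x 1 ^ m.q b * x 5 ^ m.q b =
              (y 5 ^ m.q a) ^ 3 * (y 0 ^ m.q b) ^ 2 - y 2 ^ m.q b + 3 * y 5 ^ m.q a * (y 1 ^ m.q a) ^ 2 +
                3 * (y 5 ^ m.q a) ^ 2 * y 0 ^ m.q b * y 1 ^ m.q a
            simp only [← hq, ← m.frob_apply a]
            have := congrArg (m.frob a X) h3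
            simpa only [map_add, map_mul, map_pow, map_ofNat, map_sub, map_neg] using this
        · have c3 : (3 : Γ(X.left, ⊤)) = 0 := by exact_mod_cast m.char_ratio a b 3 (Or.inr rfl) hq X
          have hq3 : ∀ z : Γ(X.left, ⊤), z ^ m.q a = m.frob b X z ^ 3 := fun z => by
            rw [hq, pow_mul', m.frob_apply]
          have hx4 : x 4 = -(y 5 * y 0 + y 1) := by rw [← h4, neg_neg]
          have hx1 : x 1 = -(y 5 ^ 3 * y 0 + y 4) := by
            linear_combination -h1 + (-(y 5 * y 3) - y 5 ^ 2 * y 1) * c3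
          have hy2 : y 2 = y 5 ^ 3 * y 0 ^ 2 + x 3 - x 1 * y 0 := by
            rw [← h0] at h3
            linear_combination h3 + (x 2 * x 4 + y 5 * y 1 ^ 2 + y 5 ^ 2 * y 0 * y 1) * c3
          refine (G2_words b₀' (m.pairSys_d hb ha (Or.inr (Or.inr rfl)) u2 u1) Eb' Ea' X _ _
            ⟨?_, ?_, ?_, ?_, ?_, ?_⟩).symm
          · show x 5 ^ m.q b = y 0 ^ m.q b
            rw [h0]
          · show x 0 ^ m.q a = y 5 ^ m.q a
            rw [h5]
          · show -(y 4 ^ m.q b) = x 5 ^ m.q b * x 0 ^ m.q a + x 1 ^ m.q b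
            simp only [hq3, ← m.frob_apply b]
            rw [← h0, ← h5, hx1]
            simp only [map_add, map_mul, map_pow, map_neg]
            ring
          · show y 2 ^ m.q b = (x 5 ^ m.q b) ^ 2 * x 0 ^ m.q a + x 3 ^ m.q b + 2 * x 5 ^ m.q b * x 1 ^ m.q b
            simp only [hq3, ← m.frob_apply b]
            rw [← h0, ← h5, hy2]
            simp only [map_add, map_mul, map_pow, map_neg, map_sub]
            linear_combination (-(m.frob b X (y 0) * m.frob b X (x 1))) * c3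
          · show -(y 1 ^ m.q a) = (x 5 ^ m.q b) ^ 3 * x 0 ^ m.q a + x 4 ^ m.q a + 3 * x 5 ^ m.q b * x 3 ^ m.q b +
              3 * (x 5 ^ m.q b) ^ 2 * x 1 ^ m.q b
            simp only [hq3, ← m.frob_apply b]
            rw [← h0, ← h5, hx4]
            simp only [map_add, map_mul, map_pow, map_neg]
            linear_combination (-(m.frob b X (y 0) * m.frob b X (x 3)) - m.frob b X (y 0) ^ 2 * m.frob b X (x 1) +
              m.frob b X (y 5) ^ 2 * m.frob b X (y 0) ^ 2 * m.frob b X (y 1) +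
              m.frob b X (y 5) * m.frob b X (y 0) * m.frob b X (y 1) ^ 2) * c3
          · show -(y 3 ^ m.q a) - 3 * y 2 ^ m.q b * y 4 ^ m.q b + y 1 ^ m.q a * y 5 ^ m.q a =
              (x 5 ^ m.q b) ^ 3 * (x 0 ^ m.q a) ^ 2 - x 2 ^ m.q a + 3 * x 5 ^ m.q b * (x 1 ^ m.q b) ^ 2 +
                3 * (x 5 ^ m.q b) ^ 2 * x 0 ^ m.q a * x 1 ^ m.q b
            simp only [hq3, ← m.frob_apply b]
            rw [← h0, ← h5, h2]
            simp only [map_add, map_mul, map_pow, map_ofNat, map_neg]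
            rw [c3]
            simp only [zero_mul, add_zero, sub_zero]
            generalize m.frob b X (y 5) = A₅
            generalize m.frob b X (y 0) = A₀
            generalize m.frob b X (y 1) = A₁
            generalize m.frob b X (y 3) = A₃
            linear_combination (A₁ ^ 3 * A₅ ^ 3 * 3 + (A₅ ^ 2 * A₀) ^ 2 * (A₃ + 2 * A₅ * A₁) +
              (A₅ ^ 2 * A₀) * (A₃ + 2 * A₅ * A₁) ^ 2 + A₃ ^ 2 * (2 * A₅ * A₁) + A₃ * (2 * A₅ * A₁) ^ 2) * c3
    exact ⟨fun x => ⟨fun k => if k = 0 then x 5 else if k = 1 then -x 4 - x 0 * x 5 else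
        if k = 3 then x 2 - x 0 ^ 2 * x 5 - 2 * x 0 * (-x 4 - x 0 * x 5) else
        if k = 4 then -x 1 - x 0 ^ 3 * x 5 - 3 * x 0 * (x 2 - x 0 ^ 2 * x 5 - 2 * x 0 * (-x 4 - x 0 * x 5)) -
          3 * x 0 ^ 2 * (-x 4 - x 0 * x 5) else
        if k = 2 then x 0 ^ 3 * x 5 ^ 2 + 3 * x 0 * (-x 4 - x 0 * x 5) ^ 2 + 3 * x 0 ^ 2 * x 5 * (-x 4 - x 0 * x 5) -
          (-x 3 - 3 * x 2 * x 4 + x 1 * x 5) else x 0,
        e x _ ⟨rfl, rfl, by simp, by simp; ring, by simp; ring, by simp; ring⟩⟩,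
      fun y => by
        let x4 := -(y 5 * y 0 + y 1)
        let x2 := y 5 ^ 2 * y 0 + y 3 + 2 * y 5 * y 1
        let x1 := -(y 5 ^ 3 * y 0 + y 4 + 3 * y 5 * y 3 + 3 * y 5 ^ 2 * y 1)
        exact ⟨fun k => if k = 0 then y 5 else if k = 4 then x4 else if k = 2 then x2 else if k = 1 then x1 else
          if k = 3 then -3 * x2 * x4 + x1 * y 0 -
            (y 5 ^ 3 * y 0 ^ 2 - y 2 + 3 * y 5 * y 1 ^ 2 + 3 * y 5 ^ 2 * y 0 * y 1) else y 0,
          e _ y ⟨rfl, rfl, by simp [x4], by simp [x2], by simp [x1], by simp; ring⟩⟩⟩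

/-- **The rank two statements for a pair of simple roots.** -/
theorem rankTwo {a b : D.idx} (ha : a ∈ b₀.support) (hb : b ∈ b₀.support) (hne : a ≠ b) {p q : ℤ}
    (hp : D.P.pairing b a = -p) (hq : D.P.pairing a b = -q) (h : Pairs p q) :
    m.Exact a b p q ∧ m.Words a b p q := by
  obtain ⟨p', q', hp', hq', h'⟩ := exists_pairs' b₀' (m.base a ha) (m.base b hb) (m.d_ne hne)
  have e1 := m.pairing_q a b
  have e2 := m.pairing_q b a
  rw [hp, hp'] at e1
  rw [hq, hq'] at e2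
  have hmul : p * q = p' * q' := by
    have := congrArg₂ (· * ·) e1 e2
    have hn : ((m.q a : ℤ) * m.q b) ≠ 0 :=
      mul_ne_zero (by exact_mod_cast (m.q_pos a).ne') (by exact_mod_cast (m.q_pos b).ne')
    refine mul_left_cancel₀ hn ?_
    linear_combination this
  rcases h with ⟨rfl, rfl⟩ | ⟨rfl, rfl⟩ | ⟨rfl, rfl⟩ | ⟨rfl, rfl⟩ | ⟨rfl, rfl⟩ | ⟨rfl, rfl⟩
  · exact m.rankTwo_zero ha hb hne (by simpa using hp) (by simpa using hq)
  · rcases h' with ⟨rfl, rfl⟩ | ⟨rfl, rfl⟩ | ⟨rfl, rfl⟩ | ⟨rfl, rfl⟩ | ⟨rfl, rfl⟩ | ⟨rfl, rfl⟩ <;>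
      norm_num at hmul
    exact m.rankTwo_A2 ha hb hp hq hp' hq' (by omega)
  · refine m.rankTwo_B2 ha hb hp hq ?_
    rcases h' with ⟨rfl, rfl⟩ | ⟨rfl, rfl⟩ | ⟨rfl, rfl⟩ | ⟨rfl, rfl⟩ | ⟨rfl, rfl⟩ | ⟨rfl, rfl⟩ <;>
      norm_num at hmul
    exacts [Or.inl ⟨hp', hq', by omega⟩, Or.inr ⟨hp', hq', by omega⟩]
  · obtain ⟨h1, h2⟩ := m.rankTwo_B2 hb ha hq hp (by
      rcases h' with ⟨rfl, rfl⟩ | ⟨rfl, rfl⟩ | ⟨rfl, rfl⟩ | ⟨rfl, rfl⟩ | ⟨rfl, rfl⟩ | ⟨rfl, rfl⟩ <;>
        norm_num at hmul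
      exacts [Or.inr ⟨hq', hp', by omega⟩, Or.inl ⟨hq', hp', by omega⟩])
    exact ⟨h1.swap, h2.swap⟩
  · refine m.rankTwo_G2 ha hb hp hq ?_
    rcases h' with ⟨rfl, rfl⟩ | ⟨rfl, rfl⟩ | ⟨rfl, rfl⟩ | ⟨rfl, rfl⟩ | ⟨rfl, rfl⟩ | ⟨rfl, rfl⟩ <;>
      norm_num at hmul
    exacts [Or.inl ⟨hp', hq', by omega⟩, Or.inr ⟨hp', hq', by omega⟩]
  · obtain ⟨h1, h2⟩ := m.rankTwo_G2 hb ha hq hp (by
      rcases h' with ⟨rfl, rfl⟩ | ⟨rfl, rfl⟩ | ⟨rfl, rfl⟩ | ⟨rfl, rfl⟩ | ⟨rfl, rfl⟩ | ⟨rfl, rfl⟩ <;>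
        norm_num at hmul
      exacts [Or.inr ⟨hq', hp', by omega⟩, Or.inl ⟨hq', hp', by omega⟩])
    exact ⟨h1.swap, h2.swap⟩

theorem q_wprod (c : D.idx) : ∀ l : List D.idx, m.q (wprod D.P l • c) = m.q c
  | [] => by simp
  | x :: l => by rw [wprod_cons, mul_smul, refl_smul, m.q_refl, q_wprod c l]

/-- **The braid relation for the graph.** -/
theorem braid {a b : D.idx} (ha : a ∈ b₀.support) (hb : b ∈ b₀.support) (hne : a ≠ b) {p q : ℤ}
    (hp : D.P.pairing b a = -p) (hq : D.P.pairing a b = -q) (h : Pairs p q) (X : Over S) :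
    m.gWd (nm a b (altB false (braidLen p q))) X = m.gWd (nm a b (altB true (braidLen p q))) X := by
  haveI := D.fintypeIdx
  haveI := D'.fintypeIdx
  obtain ⟨hE, -⟩ := m.rankTwo ha hb hne hp hq h
  set k := braidLen p q - 1 with hk
  set l := nm a b (altB false k) with hl
  set L : D.idx := if (if k % 2 = 0 then false else !false) then b else a with hL
  have hmem : ∀ x ∈ l, x ∈ b₀.support := fun x hx => by
    obtain ⟨z, -, rfl⟩ := List.mem_map.1 hx
    split_ifs <;> assumption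
  have hLs : L ∈ b₀.support := by rw [hL]; split_ifs <;> assumption
  have hsm : wprod D.P l • L = b := smul_end hp hq h false
  have hd : ∀ w : List D.idx, ∀ c, m.d (wprod D.P w • c) = wprod D'.P (w.map m.d) • m.d c := by
    intro w
    induction w with
    | nil => intro c; simp
    | cons x w ih =>
      intro c
      rw [wprod_cons, mul_smul, refl_smul, m.d_refl, ih, List.map_cons, wprod_cons, mul_smul, refl_smul]
  have key : kj (m.gWd l X) (m.gW L X) = m.gW b X := by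
    have c1 := cj_Wy_of D (m.dual L hLs) (m.dual b hb) (Wd D l) 1 (Or.inl rfl)
      (fun Y x => by
        have := congrArg Prod.fst (hE false Y x)
        rw [Int.cast_one, _root_.one_mul, ← m.gWd_fst]
        exact this)
      (fun Y v => by rw [cj_Wd_Ac D l (fun c hc => m.dual c (hmem c hc)), hsm]) X
    have hmem' : ∀ x ∈ l.map m.d, DualPair D' x := fun x hx => by
      obtain ⟨z, hz, rfl⟩ := List.mem_map.1 hx
      exact m.dual' _ (m.base z (hmem z hz))
    have c2 := cj_Wy_of D' (m.dual' _ (m.base L hLs)) (m.dual' _ (m.base b hb)) (Wd D' (l.map m.d)) 1 (Or.inl rfl)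
      (fun Y x => by
        rw [Int.cast_one, _root_.one_mul, ← m.gWd_snd]
        obtain ⟨Y', e, z, he, hz⟩ := exists_pow_root Y (m.q_pos L) x
        haveI := he
        have hqq : m.q b = m.q L := by rw [← hsm, q_wprod]
        have h2 := congrArg Prod.snd (hE false Y' z)
        show cj _ _ = _
        rw [← cancel_epi e]
        simp only [cj, MonObj.comp_mul, GrpObj.comp_inv, RankOne.comp_P, gWd_snd, RedCell16.toUnit_comp]
        rw [← hz]
        change cj (m.gWd l Y').2 (P (D'.u (m.d L)) (z ^ m.q L)) = P (D'.u (m.d b)) (z ^ m.q b) at h2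
        rw [hqq] at h2
        rw [← m.gWd_snd l Y']
        exact h2)
      (fun Y v => by rw [cj_Wd_Ac D' (l.map m.d) hmem', ← hd, hsm]) X
    rw [if_pos rfl] at c1 c2
    refine Prod.ext ?_ ?_
    · show cj (m.gWd l X).1 (Wy D L X) = Wy D b X
      rw [gWd_fst]; exact c1
    · show cj (m.gWd l X).2 (Wy D' (m.d L) X) = Wy D' (m.d b) X
      rw [gWd_snd]; exact c2
  obtain ⟨j, hj⟩ : ∃ j, braidLen p q = j + 1 := ⟨k, by have := braidLen_pos p q; omega⟩
  have hjk : k = j := by omega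
  rw [nm_altB_snoc a b false (by omega : 0 < braidLen p q), ← hk, ← hl, gWd_append, hj]
  show m.gWd l X * m.gWd [L] X = m.gWd (b :: nm a b (altB false j)) X
  rw [gWd_cons m b, ← hjk, ← hl, ← key]
  simp [gWd, kj]

end Mor

end Groth.Agent.PMor16
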