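import Groth.Agent.Lib.PMor16.Uni

/-!
# The same data on the opposite bases
-/

set_option autoImplicit false
set_option linter.style.haveILetI false
set_option linter.unusedSimpArgs false
set_option linter.unusedSectionVars false
set_option backward.isDefEq.respectTransparency false
set_option backward.isDefEq.respectTransparency.types false

universe u

open CategoryTheory CategoryTheory.Limits MonoidalCategory CartesianMonoidalCategory MonObj AlgebraicGeometry

noncomputable section

namespace Groth.Agent.PMor16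

open DiagGL RootDLib RedCell16
open RankOne (P A)

variable {S : Scheme.{u}} {G G' : Over S} [GrpObj G] [GrpObj G']

theorem co_ng (D : Red.SplitRed G) (a : D.idx) (x : D.M) : co D (ng D.P a) x = -co D a x := by
  show D.P.coroot (ng D.P a) x = -D.P.coroot a x
  rw [show D.P.coroot (ng D.P a) = -D.P.coroot a by
    rw [show ng D.P a = D.P.reflectionPerm a a from rfl, D.P.coroot_reflectionPerm,
      RootPairing.coreflection_apply_self]]
  rfl

theorem coChar_ng (D : Red.SplitRed G) (a : D.idx) :
    coChar D (ng D.P a) = (𝟙 (Red.Gm S))⁻¹ ≫ coChar D a := by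
  refine (chars D).inj fun w => ?_
  have h1 := ch_coChar D (ng D.P a) (𝟙 (Red.Gm S)) w.toAdd
  have h2 := ch_coChar D a ((𝟙 (Red.Gm S))⁻¹) w.toAdd
  rw [Category.id_comp, co_ng, zpow_neg, ← inv_zpow, ← GmPts.unitOfPt_inv] at h1
  exact h1.trans h2.symm

theorem rootChar_ng (D : Red.SplitRed G) (a : D.idx) : rootChar D (ng D.P a) = (rootChar D a)⁻¹ := by
  haveI := D.maximalTorus.1
  have key : D.P.root (ng D.P a) = -D.P.root a := root_ng _ _
  apply GmPts.gmFn_injective
  have h1 := rt_eq_ch D (𝟙 D.T) (ng D.P a)
  have h2 := rt_eq_ch D (𝟙 D.T) a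
  simp only [rt, Category.id_comp] at h1 h2
  have e : (chars D).ch (𝟙 D.T) (Multiplicative.ofAdd (D.P.root (ng D.P a))) *
      (chars D).ch (𝟙 D.T) (Multiplicative.ofAdd (D.P.root a)) = 1 := by
    rw [← map_mul, ← ofAdd_add, key, neg_add_cancel, ofAdd_zero, map_one]
  rw [← h1, ← h2] at e
  calc Red.gmFn (rootChar D (ng D.P a))
      = Red.gmFn (rootChar D (ng D.P a)) * (Red.gmFn (rootChar D a) * Red.gmFn (rootChar D a)⁻¹) := by
        rw [_root_.mul_comm (Red.gmFn (rootChar D a)), GmPts.gmFn_inv, _root_.mul_one]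
    _ = _ := by rw [← _root_.mul_assoc]; exact (congrArg (· * _) e).trans (_root_.one_mul _)

theorem dualPair_ng {D : Red.SplitRed G} {a : D.idx} (E : DualPair D a) : DualPair D (ng D.P a) := by
  have h := E.symm
  rw [DualPair, rootChar_ng, coChar_ng, ng_ng]
  exact h

variable {D : Red.SplitRed G} {b₀ : D.P.Base} {D' : Red.SplitRed G'} {b₀' : D'.P.Base}
variable {bn : D.P.Base} {bn' : D'.P.Base}

/-- The data on the opposite bases. -/
@[simps φ d q]
def Mor.opp (m : Mor D b₀ D' b₀') [D.P.IsReduced] [D'.P.IsReduced]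
    (hn : RedSub.posRoots D.P bn = RedSub.negRoots D.P b₀)
    (hn' : RedSub.posRoots D'.P bn' = RedSub.negRoots D'.P b₀') : Mor D bn D' bn' :=
  haveI := D.fintypeIdx
  haveI := D'.fintypeIdx
  { φ := m.φ
    d := m.d
    q := m.q
    q_pos := m.q_pos
    add_pow := m.add_pow
    d_refl := m.d_refl
    q_refl := m.q_refl
    pairing_q := m.pairing_q
    base := fun a ha => (exists_negBase_support hn' _).2
      (m.d_ng a ▸ m.base _ ((exists_negBase_support hn a).1 ha))
    dual := fun a ha => by
      have := dualPair_ng (m.dual _ ((exists_negBase_support hn a).1 ha))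
      rwa [ng_ng] at this
    dual' := fun a ha => by
      have := dualPair_ng (m.dual' _ ((exists_negBase_support hn' a).1 ha))
      rwa [ng_ng] at this
    φ_hom := m.φ_hom
    rt_φ := m.rt_φ
    φ_co := m.φ_co
    char_ratio := m.char_ratio }

end Groth.Agent.PMor16
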