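import Groth.Agent.Lib.PMor16.CentralTorus
import Groth.Agent.Lib.PMor16.CoradHom
import Groth.Agent.Lib.MTDesc21.MaxMT
import Groth.Agent.S2962

/-!
# The lattice of the radical and the isogeny from the radical and the coroot torus
-/

set_option autoImplicit false
set_option linter.style.haveILetI false
set_option linter.unusedSimpArgs false
set_option linter.unusedSectionVars false
set_option backward.isDefEq.respectTransparency false
set_option backward.isDefEq.respectTransparency.types false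

universe u

open CategoryTheory CategoryTheory.Limits MonoidalCategory CartesianMonoidalCategory MonObj AlgebraicGeometry

noncomputable section

namespace Groth.Agent.PMor16

open DiagGL RedCell16

variable {S : Scheme.{u}} {G : Over S} [GrpObj G] (D : Red.SplitRed G)

section Lattice

/-- The saturation of the root lattice is the kernel of a projection to a free group. -/
theorem exists_radical_proj : ∃ (r : ℕ) (π : D.M →+ (Fin r → ℤ)), Function.Surjective π ∧
    (∀ a, π (D.P.root a) = 0) ∧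
    ∀ m, π m = 0 → ∃ k : ℕ, 0 < k ∧ k • m ∈ Submodule.span ℤ (Set.range D.P.root) := by
  haveI := D.finiteM
  haveI := D.freeM
  let L := Submodule.span ℤ (Set.range D.P.root)
  let τ := Submodule.torsion ℤ (D.M ⧸ L)
  haveI : Module.Free ℤ ((D.M ⧸ L) ⧸ τ) := Module.free_of_finite_type_torsion_free'
  let bs := Module.finBasis ℤ ((D.M ⧸ L) ⧸ τ)
  let f : D.M →ₗ[ℤ] (D.M ⧸ L) ⧸ τ := τ.mkQ ∘ₗ L.mkQ
  refine ⟨_, (bs.equivFun.toLinearMap ∘ₗ f).toAddMonoidHom, ?_, fun a => ?_, fun m hm => ?_⟩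
  · exact bs.equivFun.surjective.comp ((Submodule.mkQ_surjective τ).comp (Submodule.mkQ_surjective L))
  · show bs.equivFun (τ.mkQ (L.mkQ (D.P.root a))) = 0
    rw [show L.mkQ (D.P.root a) = 0 from (Submodule.Quotient.mk_eq_zero L).2 (Submodule.subset_span ⟨a, rfl⟩),
      map_zero, map_zero]
  · have h1 : τ.mkQ (L.mkQ m) = 0 := bs.equivFun.injective (hm.trans (map_zero _).symm)
    obtain ⟨k, hk⟩ := (Submodule.mem_torsion_iff _).1 ((Submodule.Quotient.mk_eq_zero τ).1 h1)
    have hk0 : (k : ℤ) ≠ 0 := nonZeroDivisors.coe_ne_zero k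
    have h2 : (k : ℤ) • m ∈ L := (Submodule.Quotient.mk_eq_zero L).1 (by
      rw [Submodule.Quotient.mk_smul]; exact hk)
    refine ⟨(k : ℤ).natAbs, Int.natAbs_pos.2 hk0, ?_⟩
    rw [← natCast_zsmul]
    rcases Int.natAbs_eq (k : ℤ) with h | h
    · rwa [← h]
    · have h3 := L.neg_mem h2
      rw [← neg_smul] at h3
      rwa [show ((k : ℤ).natAbs : ℤ) = -(k : ℤ) by omega]

variable (N : AddSubgroup D.M) (hN : ∀ m : D.M, m ∈ N ↔ ∀ a : D.idx, D.P.coroot a m = 0)
  {r : ℕ} (π : D.M →+ (Fin r → ℤ)) (hπs : Function.Surjective π)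
  (hπr : ∀ a, π (D.P.root a) = 0)
  (hπk : ∀ m, π m = 0 → ∃ k : ℕ, 0 < k ∧ k • m ∈ Submodule.span ℤ (Set.range D.P.root))

include hN hπk in
theorem injective_isogeny : Function.Injective (π.prod (QuotientAddGroup.mk' N)) := by
  haveI := D.fintypeIdx
  haveI := D.finiteM
  haveI := D.freeM
  refine (injective_iff_map_eq_zero _).2 fun m hm => ?_
  obtain ⟨k, hk, hmem⟩ := hπk m (congrArg Prod.fst hm)
  have hmN : m ∈ N := (QuotientAddGroup.eq_zero_iff m).1 (congrArg Prod.snd hm)
  haveI : D.P.IsCrystallographic := inferInstance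
  have hker : k • m ∈ LinearMap.ker D.P.RootForm := by
    refine LinearMap.mem_ker.2 (LinearMap.ext fun y => ?_)
    rw [RootPairing.rootForm_apply_apply]
    refine Finset.sum_eq_zero fun i _ => ?_
    have h0 : D.P.coroot' i (k • m) = 0 := by
      rw [map_nsmul, show D.P.coroot' i m = D.P.coroot i m from ?_, (hN m).1 hmN i, smul_zero]
      show D.P.toLinearMap.flip (D.P.coroot i) m = _
      rw [LinearMap.flip_apply, D.pairing_eq]
      rfl
    rw [h0, zero_mul]
  have h1 : k • m = 0 := Submodule.disjoint_def.1 D.P.disjoint_rootSpan_ker_rootForm _ hmem hker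
  rw [← natCast_zsmul] at h1
  exact (smul_eq_zero.1 h1).resolve_left (Nat.cast_ne_zero.2 hk.ne')

include hN hπs hπr hπk in
theorem torsion_isogeny (y : (Fin r → ℤ) × (D.M ⧸ N)) :
    ∃ k : ℕ, 0 < k ∧ k • y ∈ Set.range (π.prod (QuotientAddGroup.mk' N)) := by
  haveI := D.fintypeIdx
  haveI := D.finiteM
  haveI := D.freeM
  let ψ : D.M →ₗ[ℤ] (Fin r → ℤ) × (D.M ⧸ N) := (π.prod (QuotientAddGroup.mk' N)).toIntLinearMap
  haveI : Module.Finite ℤ (D.M ⧸ N) :=
    Module.Finite.of_surjective (QuotientAddGroup.mk' N).toIntLinearMap (QuotientAddGroup.mk'_surjective N)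
  haveI : Module.IsTorsionFree ℤ (D.M ⧸ N) := by
    obtain ⟨φ, hφ, -⟩ := exists_coord_quot D N hN
    exact hφ.moduleIsTorsionFree (φ.toIntLinearMap) fun c x => map_zsmul φ c x
  haveI : Module.Free ℤ (D.M ⧸ N) := Module.free_of_finite_type_torsion_free'
  let L := Submodule.span ℤ (Set.range D.P.root)
  let K := LinearMap.ker π.toIntLinearMap
  have h1 : Module.finrank ℤ (D.M ⧸ K) + Module.finrank ℤ K = Module.finrank ℤ D.M :=
    Submodule.finrank_quotient_add_finrank K
  have h2 : Module.finrank ℤ (D.M ⧸ K) = r := by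
    rw [(LinearMap.quotKerEquivOfSurjective π.toIntLinearMap hπs).finrank_eq, Module.finrank_fin_fun]
  have h3 : Module.finrank ℤ L ≤ Module.finrank ℤ K := Submodule.finrank_mono (Submodule.span_le.2 (by
    rintro _ ⟨a, rfl⟩; exact LinearMap.mem_ker.2 (hπr a)))
  -- the quotient by `N` embeds in the dual of the coroot lattice
  let C := D.P.corootSpan ℤ
  let e : D.M →ₗ[ℤ] Module.Dual ℤ C := (C.subtype.dualMap) ∘ₗ Module.Dual.eval ℤ D.M
  have he : LinearMap.ker e = N.toIntSubmodule := by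
    ext m
    show e m = 0 ↔ m ∈ N
    rw [hN]
    constructor
    · intro h a
      exact LinearMap.congr_fun h ⟨D.P.coroot a, Submodule.subset_span ⟨a, rfl⟩⟩
    · intro h
      refine LinearMap.ext fun c => ?_
      show (c : Module.Dual ℤ D.M) m = 0
      have hle : C ≤ LinearMap.ker (LinearMap.applyₗ m) := Submodule.span_le.2 (by
        rintro _ ⟨a, rfl⟩; exact LinearMap.mem_ker.2 (h a))
      exact LinearMap.mem_ker.1 (hle c.2)
  have h4 : Module.finrank ℤ (D.M ⧸ N) ≤ Module.finrank ℤ C := by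
    have h5 : Module.finrank ℤ (D.M ⧸ N.toIntSubmodule) ≤ Module.finrank ℤ (Module.Dual ℤ C) := by
      rw [← he, e.quotKerEquivRange.finrank_eq]
      exact Submodule.finrank_le _
    exact h5.trans_eq (Module.Free.chooseBasis ℤ C).toDualEquiv.finrank_eq.symm
  have h6 : Module.finrank ℤ C = Module.finrank ℤ L := D.P.finrank_corootSpan_eq'
  have hinj : Function.Injective ψ := injective_isogeny D N hN π hπk
  have h7 : Module.finrank ℤ (LinearMap.range ψ) = Module.finrank ℤ D.M :=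
    (LinearEquiv.ofInjective ψ hinj).finrank_eq.symm
  have h8 := Submodule.finrank_quotient_add_finrank (LinearMap.range ψ)
  rw [Module.finrank_prod, Module.finrank_fin_fun] at h8
  have h9 : Module.finrank ℤ (((Fin r → ℤ) × (D.M ⧸ N)) ⧸ LinearMap.range ψ) = 0 := by omega
  obtain ⟨k, hk⟩ := Module.finrank_eq_zero_iff.1 h9 (Submodule.Quotient.mk y)
  obtain ⟨hk0, hk⟩ := hk
  rw [← Submodule.Quotient.mk_smul, Submodule.Quotient.mk_eq_zero] at hk
  refine ⟨k.natAbs, Int.natAbs_pos.2 hk0, ?_⟩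
  show k.natAbs • y ∈ LinearMap.range ψ
  rw [← natCast_zsmul]
  rcases Int.natAbs_eq k with h | h
  · rwa [← h]
  · rw [show (k.natAbs : ℤ) = -k by omega, neg_smul]; exact (LinearMap.range ψ).neg_mem hk

end Lattice

section Isogeny

/-- A character map which is injective with torsion cokernel gives an isogeny. -/
theorem DSmap_isogeny {M₁ M₂ : Type} [AddCommGroup M₁] [AddCommGroup M₂] [Module.Finite ℤ M₁] {φ : M₂ →+ M₁}
    (hφ : Function.Injective φ) (htor : ∀ y : M₁, ∃ k : ℕ, 0 < k ∧ k • y ∈ Set.range φ) :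
    Surjective (Red.DSmap S φ).left ∧ Flat (Red.DSmap S φ).left ∧ IsFinite (Red.DSmap S φ).left := by
  let R := ULift.{u} ℤ
  let g := (MonoidAlgebra.mapDomainAlgHom R R φ.toMultiplicative).toRingHom
  let f := Spec.map (CommRingCat.ofHom g)
  have hff := MTRigid29.faithfullyFlat_mapDomain (R := R) hφ
  haveI : Flat f := HasRingHomProperty.Spec_iff.2 hff.flat
  haveI : Surjective f := ⟨by
    letI := g.toAlgebra
    haveI : Module.FaithfullyFlat (MonoidAlgebra R (Multiplicative M₂)) (MonoidAlgebra R (Multiplicative M₁)) := hff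
    exact PrimeSpectrum.comap_surjective_of_faithfullyFlat⟩
  haveI : IsFinite f := by
    refine (IsFinite.SpecMap_iff _).2 ?_
    letI := g.toAlgebra
    haveI : AddGroup.FG M₁ := Module.Finite.iff_addGroup_fg.1 inferInstance
    haveI : AddMonoid.FG M₁ := AddGroup.fg_iff_addMonoid_fg.1 inferInstance
    haveI : Monoid.FG (Multiplicative M₁) := Monoid.fg_iff_add_fg.2 inferInstance
    haveI : IsScalarTower R (MonoidAlgebra R (Multiplicative M₂)) (MonoidAlgebra R (Multiplicative M₁)) :=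
      IsScalarTower.of_algebraMap_eq fun x =>
        ((MonoidAlgebra.mapDomainAlgHom R R φ.toMultiplicative).commutes x).symm
    haveI : Algebra.FiniteType (MonoidAlgebra R (Multiplicative M₂)) (MonoidAlgebra R (Multiplicative M₁)) :=
      Algebra.FiniteType.of_restrictScalars_finiteType R _ _
    haveI : Algebra.IsIntegral (MonoidAlgebra R (Multiplicative M₂)) (MonoidAlgebra R (Multiplicative M₁)) :=
      ⟨fun x => by
        induction x using MonoidAlgebra.induction_on with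
        | of y =>
          obtain ⟨k, hk, z, hz⟩ := htor y.toAdd
          refine IsIntegral.of_pow hk ?_
          have h1 : (MonoidAlgebra.of R _ y) ^ k = algebraMap (MonoidAlgebra R (Multiplicative M₂)) _
              (MonoidAlgebra.of R _ (Multiplicative.ofAdd z)) := by
            rw [← map_pow, show y ^ k = φ.toMultiplicative (Multiplicative.ofAdd z) from
              congrArg Multiplicative.ofAdd hz.symm]
            exact (MonoidAlgebra.mapDomain_single).symm
          rw [h1]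
          exact isIntegral_algebraMap
        | add a b ha hb => exact ha.add hb
        | smul c a ha => exact ha.smul c⟩
    exact RingHom.finite_algebraMap.2 (Algebra.IsIntegral.finite)
  let toZ := Limits.IsTerminal.from specULiftZIsTerminal S
  have hpb : IsPullback (Limits.pullback.fst (Red.diag R M₁).hom toZ) (Red.DSmap S φ).left f
      (Limits.pullback.fst (Red.diag R M₂).hom toZ) := by
    have hw : f ≫ (Red.diag R M₂).hom = (Red.diag R M₁).hom := Over.w (Red.diagMap R φ)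
    have hsnd : (Red.DSmap S φ).left ≫ Limits.pullback.snd (Red.diag R M₂).hom toZ =
        Limits.pullback.snd (Red.diag R M₁).hom toZ := Over.w (Red.DSmap S φ)
    refine IsPullback.of_bot (h₁₁ := Limits.pullback.fst _ _) (v₁₁ := (Red.DSmap S φ).left) (v₁₂ := f) ?_ ?_
      (IsPullback.of_hasPullback (Red.diag R M₂).hom toZ)
    · erw [hw, hsnd]
      exact IsPullback.of_hasPullback _ _
    · exact (Limits.pullback.lift_fst _ _ _).symm
  exact ⟨MorphismProperty.of_isPullback hpb ‹Surjective f›, MorphismProperty.of_isPullback hpb ‹Flat f›,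
    MorphismProperty.of_isPullback hpb ‹IsFinite f›⟩

set_option maxHeartbeats 1600000 in
/-- The radical times the coroot torus maps to the torus by an isogeny. -/
theorem radical_isogeny {Z R : Over S} [GrpObj Z] [GrpObj R] (j : Z ⟶ G) (hZ : Red.IsCentre j) (r : R ⟶ Z)
    (hR : Red.IsMaximalTorus r) (r' : R ⟶ D.T) (hr' : r' ≫ D.i = r ≫ j)
    (N : AddSubgroup D.M) (hN : ∀ m : D.M, m ∈ N ↔ ∀ a : D.idx, D.P.coroot a m = 0) :
    Surjective ((r' ⊗ₘ (Red.DSmap S (QuotientAddGroup.mk' N) ≫ D.split.inv.hom.hom)) ≫ μ[D.T]).left ∧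
      Flat ((r' ⊗ₘ (Red.DSmap S (QuotientAddGroup.mk' N) ≫ D.split.inv.hom.hom)) ≫ μ[D.T]).left ∧
      IsFinite ((r' ⊗ₘ (Red.DSmap S (QuotientAddGroup.mk' N) ≫ D.split.inv.hom.hom)) ≫ μ[D.T]).left := by
  obtain ⟨q, π, hπs, hπr, hπk⟩ := exists_radical_proj D
  haveI := D.finiteM
  haveI := D.freeM
  haveI := D.maximalTorus.1
  haveI := D.maximalTorus.2.1
  obtain ⟨hjm, hjmono, hjiff⟩ := hZ
  obtain ⟨hrm, hrmono, hRt, hmax⟩ := hR
  haveI := hjm; haveI := hjmono; haveI := hrm; haveI := hrmono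
  let C := charsDS S (Fin q → ℤ)
  let R' : Over S := Red.DS S (Fin q → ℤ)
  have hR't : Red.IsTorus R' := TorPts21.isTorus_of_chars C
  haveI := isMonHom_DSmap (S := S) π
  let u : R' ⟶ D.T := Red.DSmap S π ≫ D.split.inv.hom.hom
  haveI : IsMonHom u := inferInstanceAs (IsMonHom (Red.DSmap S π ≫ D.split.inv.hom.hom))
  have hch : ∀ {M' : Type} [AddCommGroup M'] (φ : D.M →+ M') (Y : Over S) (x : Y ⟶ Red.DS S M') (a : Multiplicative D.M),
      (chars D).ch (x ≫ Red.DSmap S φ ≫ D.split.inv.hom.hom) a =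
        (charsDS S M').ch x (AddMonoidHom.toMultiplicative φ a) := fun {M'} _ φ Y x a => by
    show (DiagGL.charsDS S D.M).ch (_ ≫ D.split.hom.hom.hom) a = _
    rw [Category.assoc, Category.assoc, show D.split.inv.hom.hom ≫ D.split.hom.hom.hom = 𝟙 _ by
      simp [← Grp.comp', ← Mon.comp_hom'], Category.comp_id, RedCell16.DSmap_ch]
  have hroot : ∀ (Y : Over S) (t : Y ⟶ D.T) (a : D.idx), t ≫ D.split.hom.hom.hom ≫ Red.chi S (D.P.root a) = 1 ↔
      (chars D).ch t (Multiplicative.ofAdd (D.P.root a)) = 1 := fun Y t a => by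
    rw [show (chars D).ch t (Multiplicative.ofAdd (D.P.root a)) =
      Red.gmFn (t ≫ D.split.hom.hom.hom ≫ Red.chi S (D.P.root a)) from (chars_chi D t _).symm]
    exact ⟨fun h => by rw [h, GmPts.gmFn_one], fun h => GmPts.gmFn_injective (h.trans GmPts.gmFn_one.symm)⟩
  -- `R'` lies in the centre
  have hcen : ∀ (X' : Over S) (x : X' ⟶ R') (h : X' ⟶ G), (x ≫ u ≫ D.i) * h = h * (x ≫ u ≫ D.i) := by
    intro X' x h
    simpa using (S2962.result D X' (x ≫ u ≫ D.i)).2 ⟨x ≫ u, Category.assoc _ _ _, fun a => (hroot _ _ a).2 (by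
      rw [hch π X' x, show AddMonoidHom.toMultiplicative π (Multiplicative.ofAdd (D.P.root a)) = 1 from
        congrArg Multiplicative.ofAdd (hπr a), map_one])⟩ X' (𝟙 X') h
  obtain ⟨u₀, hu₀⟩ := (hjiff R' (u ≫ D.i)).2 fun X' x h => by
    rw [Category.comp_id]; exact hcen X' x h
  haveI : IsMonHom u₀ := TorsorSch25.isMonHom_of_points u₀ fun X a b => (cancel_mono j).1 (by
    have h : ∀ z : X ⟶ R', (z ≫ u₀) ≫ j = (z ≫ u) ≫ D.i := fun z => by
      rw [Category.assoc, hu₀, ← Category.assoc]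
    rw [h, MonObj.mul_comp a b u, MonObj.mul_comp, MonObj.mul_comp, h, h])
  haveI := D.reductive.1
  haveI := D.reductive.2.1
  obtain ⟨l, hl⟩ := factor_maximalTorus j ⟨hjm, hjmono, hjiff⟩ r ⟨hrm, hrmono, hRt, hmax⟩ hR't u₀
  have hlu : l ≫ r' = u := (cancel_mono D.i).1 (by rw [Category.assoc, hr', ← Category.assoc, hl, hu₀])
  haveI : IsMonHom (r ≫ j) := inferInstance
  haveI : IsMonHom r' := TorsorSch25.isMonHom_of_points r' fun X a b => (cancel_mono D.i).1 (by
    rw [Category.assoc, hr', MonObj.mul_comp, MonObj.mul_comp, Category.assoc, Category.assoc, hr'])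
  haveI : Mono r' := by
    haveI : Mono (r' ≫ D.i) := by rw [hr']; infer_instance
    exact mono_of_mono r' D.i
  -- the radical kills the saturation of the root lattice
  have hR0 : ∀ a : D.idx, (chars D).ch r' (Multiplicative.ofAdd (D.P.root a)) = 1 := fun a => by
    obtain ⟨t, ht, hta⟩ := (S2962.result D R (r ≫ j)).1 (fun X' x h => by
      have h1 := (hjiff R (r ≫ j)).1 ⟨r, rfl⟩ X' x h
      simpa using h1)
    rw [← hr'] at ht
    obtain rfl := (cancel_mono D.i).1 ht
    exact (hroot _ _ a).1 (hta a)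
  let L := Submodule.span ℤ (Set.range D.P.root)
  let χ : D.M →+ Additive (Γ(R.left, ⊤))ˣ := MonoidHom.toAdditiveRight ((chars D).ch r').toHomUnits
  have hχL : ∀ m ∈ L, χ m = 0 := fun m hm => by
    refine Submodule.span_induction (p := fun x _ => χ x = 0) ?_ (map_zero χ)
      (fun a b _ _ ha hb => by rw [map_add, ha, hb, add_zero]) (fun c a _ ha => by rw [map_zsmul, ha, zsmul_zero]) hm
    rintro _ ⟨a, rfl⟩
    exact congrArg Additive.ofMul (Units.ext (hR0 a))
  let χL : D.M ⧸ L →+ Additive (Γ(R.left, ⊤))ˣ :=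
    QuotientAddGroup.lift L.toAddSubgroup χ fun a ha => AddMonoidHom.mem_ker.2 (hχL a ha)
  obtain ⟨v, hv⟩ := (charsDS S (D.M ⧸ L)).surj ((Units.coeHom _).comp (MonoidHom.toAdditiveRight.symm χL))
  haveI : IsMonHom v := TorsorSch25.isMonHom_of_points v fun X a b => (charsDS S (D.M ⧸ L)).inj fun m => by
    obtain ⟨m₀, hm₀⟩ := Submodule.Quotient.mk_surjective L m.toAdd
    obtain rfl : Multiplicative.ofAdd (Submodule.Quotient.mk m₀) = m := congrArg Multiplicative.ofAdd hm₀
    have hpt : ∀ z : X ⟶ R, (charsDS S (D.M ⧸ L)).ch (z ≫ v) (Multiplicative.ofAdd (Submodule.Quotient.mk m₀ : D.M ⧸ L)) =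
        (chars D).ch (z ≫ r') (Multiplicative.ofAdd m₀) := fun z => by
      rw [(charsDS S (D.M ⧸ L)).nat, (chars D).nat, hv]
      rfl
    rw [(charsDS S (D.M ⧸ L)).mul, hpt, hpt, hpt, MonObj.mul_comp, (chars D).mul]
  have hkill : ∀ m, π m = 0 → (chars D).ch r' (Multiplicative.ofAdd m) = 1 := fun m hm => by
    obtain ⟨k, hk, hkm⟩ := hπk m hm
    have h := MTDesc21.ch_eq_one_of_torus hRt v (charsDS S (D.M ⧸ L)) (Submodule.Quotient.mk m) hk
      (by rw [← Submodule.Quotient.mk_smul]; exact (Submodule.Quotient.mk_eq_zero L).2 hkm) (𝟙 R)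
    rw [Category.id_comp, hv] at h
    exact h
  let σ := Function.surjInv hπs
  have hσ : ∀ x, π (σ x) = x := Function.surjInv_eq hπs
  let χπ : (Fin q → ℤ) →+ Additive (Γ(R.left, ⊤))ˣ := AddMonoidHom.mk' (fun x => χ (σ x)) fun a b => by
    show χ (σ (a + b)) = χ (σ a) + χ (σ b)
    rw [← map_add, ← sub_eq_zero, ← map_sub]
    exact congrArg Additive.ofMul (Units.ext (hkill _ (by rw [map_sub, map_add, hσ, hσ, hσ, sub_self])))
  obtain ⟨l', hl'⟩ := C.surj ((Units.coeHom _).comp (MonoidHom.toAdditiveRight.symm χπ))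
  have hl'u : l' ≫ u = r' := (chars D).inj fun a => by
    rw [hch π R l', hl']
    show ((χ (σ (π a.toAdd))).toMul : Γ(R.left, ⊤)) = ((χ a.toAdd).toMul : Γ(R.left, ⊤))
    have h0 : χ (σ (π a.toAdd) - a.toAdd) = 0 :=
      congrArg Additive.ofMul (Units.ext (hkill _ (by rw [map_sub, hσ, sub_self])))
    rw [map_sub, sub_eq_zero] at h0
    rw [h0]
  have hll : l' ≫ l = 𝟙 R := (cancel_mono r').1 (by rw [Category.assoc, hlu, hl'u, Category.id_comp])
  have hll' : l ≫ l' = 𝟙 R' := C.inj fun m => by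
    obtain ⟨m₀, hm₀⟩ := hπs m.toAdd
    obtain rfl : AddMonoidHom.toMultiplicative π (Multiplicative.ofAdd m₀) = m := congrArg Multiplicative.ofAdd hm₀
    rw [← hch π R' (l ≫ l'), ← hch π R' (𝟙 R'), Category.assoc, hl'u, hlu, Category.id_comp]
  haveI : IsIso l' := ⟨l, hll, hll'⟩
  -- the comparison with the diagonalisable groups
  haveI : Module.Finite ℤ (D.M ⧸ N) :=
    Module.Finite.of_surjective (QuotientAddGroup.mk' N).toIntLinearMap (QuotientAddGroup.mk'_surjective N)
  let K := (Fin q → ℤ) × (D.M ⧸ N)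
  let CK := charsDS S K
  let e₁ : Red.DS S K ⟶ R' := Red.DSmap S (AddMonoidHom.inl (Fin q → ℤ) (D.M ⧸ N))
  let e₂ : Red.DS S K ⟶ Red.DS S (D.M ⧸ N) := Red.DSmap S (AddMonoidHom.inr (Fin q → ℤ) (D.M ⧸ N))
  let CN := charsDS S (D.M ⧸ N)
  let φK : K →+ Additive (Γ((R' ⊗ Red.DS S (D.M ⧸ N)).left, ⊤))ˣ :=
    (MonoidHom.toAdditiveRight (C.ch (fst R' (Red.DS S (D.M ⧸ N)))).toHomUnits).coprod
      (MonoidHom.toAdditiveRight (CN.ch (snd R' (Red.DS S (D.M ⧸ N)))).toHomUnits)
  obtain ⟨e, he⟩ := CK.surj ((Units.coeHom _).comp (MonoidHom.toAdditiveRight.symm φK))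
  have hee : ∀ a : Fin q → ℤ, ∀ b : D.M ⧸ N, CK.ch e (Multiplicative.ofAdd (a, b)) =
      C.ch (fst R' _) (Multiplicative.ofAdd a) * CN.ch (snd R' _) (Multiplicative.ofAdd b) := fun a b => by
    rw [he]; rfl
  have he₁ : e ≫ e₁ = fst R' (Red.DS S (D.M ⧸ N)) := C.inj fun a => by
    rw [RedCell16.DSmap_ch, show AddMonoidHom.toMultiplicative (AddMonoidHom.inl (Fin q → ℤ) (D.M ⧸ N)) a =
      Multiplicative.ofAdd (a.toAdd, (0 : D.M ⧸ N)) from rfl, hee, ofAdd_zero, map_one, _root_.mul_one]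
    rfl
  have he₂ : e ≫ e₂ = snd R' (Red.DS S (D.M ⧸ N)) := CN.inj fun a => by
    rw [RedCell16.DSmap_ch, show AddMonoidHom.toMultiplicative (AddMonoidHom.inr (Fin q → ℤ) (D.M ⧸ N)) a =
      Multiplicative.ofAdd ((0 : Fin q → ℤ), a.toAdd) from rfl, hee, ofAdd_zero, map_one, _root_.one_mul]
    rfl
  haveI : IsIso e := by
    refine ⟨lift e₁ e₂, CartesianMonoidalCategory.hom_ext _ _ ?_ ?_, CK.inj fun a => ?_⟩
    · rw [Category.assoc, lift_fst, he₁, Category.id_comp]
    · rw [Category.assoc, lift_snd, he₂, Category.id_comp]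
    · obtain ⟨a, b, rfl⟩ : ∃ x y, Multiplicative.ofAdd (x, y) = a := ⟨a.toAdd.1, a.toAdd.2, rfl⟩
      have hc₁ : C.ch e₁ (Multiplicative.ofAdd a) = CK.ch (𝟙 _) (Multiplicative.ofAdd (a, (0 : D.M ⧸ N))) := by
        have h := RedCell16.DSmap_ch (𝟙 _) (AddMonoidHom.inl (Fin q → ℤ) (D.M ⧸ N)) (Multiplicative.ofAdd a) (S := S)
        rwa [Category.id_comp] at h
      have hc₂ : CN.ch e₂ (Multiplicative.ofAdd b) = CK.ch (𝟙 _) (Multiplicative.ofAdd ((0 : Fin q → ℤ), b)) := by
        have h := RedCell16.DSmap_ch (𝟙 _) (AddMonoidHom.inr (Fin q → ℤ) (D.M ⧸ N)) (Multiplicative.ofAdd b) (S := S)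
        rwa [Category.id_comp] at h
      rw [CK.nat, hee, map_mul, ← C.nat, ← CN.nat, lift_fst, lift_snd, hc₁, hc₂, ← map_mul]
      congr 1
      exact congrArg Multiplicative.ofAdd (Prod.ext (add_zero a) (zero_add b))
  let ψ : D.M →+ K := π.prod (QuotientAddGroup.mk' N)
  have key : (r' ⊗ₘ (Red.DSmap S (QuotientAddGroup.mk' N) ≫ D.split.inv.hom.hom)) ≫ μ[D.T] =
      (l' ⊗ₘ 𝟙 (Red.DS S (D.M ⧸ N))) ≫ e ≫ Red.DSmap S ψ ≫ D.split.inv.hom.hom := (chars D).inj fun a => by
    rw [show (r' ⊗ₘ (Red.DSmap S (QuotientAddGroup.mk' N) ≫ D.split.inv.hom.hom)) ≫ μ[D.T] =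
      (fst R _ ≫ r') * (snd R _ ≫ Red.DSmap S (QuotientAddGroup.mk' N) ≫ D.split.inv.hom.hom) from by
        rw [Hom.mul_def, ← tensorHom_fst r' (Red.DSmap S (QuotientAddGroup.mk' N) ≫ D.split.inv.hom.hom),
          ← tensorHom_snd r' (Red.DSmap S (QuotientAddGroup.mk' N) ≫ D.split.inv.hom.hom), ← comp_lift,
          lift_fst_snd, Category.comp_id]]
    rw [(chars D).mul, ← hl'u, ← Category.assoc (fst R _) l' u, hch π _ (fst R _ ≫ l'),
      hch (QuotientAddGroup.mk' N) _ (snd R _), ← Category.assoc (l' ⊗ₘ 𝟙 _) e, hch ψ _ ((l' ⊗ₘ 𝟙 _) ≫ e)]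
    rw [show AddMonoidHom.toMultiplicative ψ a = Multiplicative.ofAdd (π a.toAdd, (QuotientAddGroup.mk' N) a.toAdd) from rfl,
      CK.nat, hee, map_mul, ← C.nat, ← CN.nat, tensorHom_fst, tensorHom_snd, Category.comp_id]
    rfl
  obtain ⟨h1, h2, h3⟩ := DSmap_isogeny (S := S) (injective_isogeny D N hN π hπk)
    (torsion_isogeny D N hN π hπs hπr hπk)
  rw [key]
  haveI : IsIso (l' ⊗ₘ 𝟙 (Red.DS S (D.M ⧸ N))).left :=
    inferInstanceAs (IsIso ((Over.forget _).map (l' ⊗ₘ 𝟙 (Red.DS S (D.M ⧸ N)))))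
  haveI : IsIso e.left := inferInstanceAs (IsIso ((Over.forget _).map e))
  haveI : IsIso D.split.inv.hom.hom.left :=
    inferInstanceAs (IsIso ((Grp.forget (Over S) ⋙ Over.forget _).map D.split.inv))
  simp only [Over.comp_left]
  haveI : Surjective (Red.DSmap S ψ).left := h1
  haveI : Flat (Red.DSmap S ψ).left := h2
  haveI : IsFinite (Red.DSmap S ψ).left := h3
  exact ⟨inferInstance, inferInstance, inferInstance⟩

end Isogeny

end Groth.Agent.PMor16
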