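import Groth.Agent.Lib.RedCell16.PairB2
import Groth.Agent.Lib.RedCell16.PairG2
import Groth.Agent.Lib.RedCell16.WordStep

/-!
# Products along the two longest words in rank two
-/

set_option autoImplicit false
set_option linter.style.haveILetI false
set_option linter.unusedSimpArgs false
set_option linter.unusedSectionVars false
set_option backward.isDefEq.respectTransparency false
set_option backward.isDefEq.respectTransparency.types false

universe u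

open CategoryTheory CategoryTheory.Limits MonoidalCategory CartesianMonoidalCategory MonObj AlgebraicGeometry

noncomputable section

namespace Groth.Agent.PMor16

open DiagGL RootDLib RedCell16
open RankOne (P A)

variable {S : Scheme.{u}} {G : Over S} [GrpObj G] (D : Red.SplitRed G)

/-- The product of the root elements along a word. -/
def sw {X : Over S} : List D.idx → (ℕ → Γ(X.left, ⊤)) → (X ⟶ G)
  | [], _ => 1
  | a :: l, x => P (D.u a) (x 0) * cj (Wy D a X) (sw l fun k => x (k + 1))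

theorem cj_one {X : Over S} (g : X ⟶ G) : cj g 1 = 1 := by simp [cj]

theorem one_cj {X : Over S} (w : X ⟶ G) : cj (1 : X ⟶ G) w = w := by simp [cj]

theorem sw_three {X : Over S} (a b c : D.idx) (x : ℕ → Γ(X.left, ⊤)) :
    sw D [a, b, c] x = P (D.u a) (x 0) * (cj (Wy D a X) (P (D.u b) (x 1)) *
      cj (Wy D a X) (cj (Wy D b X) (P (D.u c) (x 2)))) := by
  simp only [sw, cj, zero_add, Nat.reduceAdd, _root_.mul_one, mul_inv_cancel]; group

theorem sw_four {X : Over S} (a b c d : D.idx) (x : ℕ → Γ(X.left, ⊤)) :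
    sw D [a, b, c, d] x = P (D.u a) (x 0) * (cj (Wy D a X) (P (D.u b) (x 1)) *
      (cj (Wy D a X) (cj (Wy D b X) (P (D.u c) (x 2))) *
        cj (Wy D a X) (cj (Wy D b X) (cj (Wy D c X) (P (D.u d) (x 3)))))) := by
  simp only [sw, cj, zero_add, Nat.reduceAdd, _root_.mul_one, mul_inv_cancel]; group

theorem sw_six {X : Over S} (a b c d e f : D.idx) (x : ℕ → Γ(X.left, ⊤)) :
    sw D [a, b, c, d, e, f] x = P (D.u a) (x 0) * (cj (Wy D a X) (P (D.u b) (x 1)) *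
      (cj (Wy D a X) (cj (Wy D b X) (P (D.u c) (x 2))) *
        (cj (Wy D a X) (cj (Wy D b X) (cj (Wy D c X) (P (D.u d) (x 3)))) *
          (cj (Wy D a X) (cj (Wy D b X) (cj (Wy D c X) (cj (Wy D d X) (P (D.u e) (x 4))))) *
            cj (Wy D a X) (cj (Wy D b X) (cj (Wy D c X) (cj (Wy D d X) (cj (Wy D e X) (P (D.u f) (x 5)))))))))) := by
  simp only [sw, cj, zero_add, Nat.reduceAdd, _root_.mul_one, mul_inv_cancel]; group

variable {D} [D.P.IsReduced] {a b : D.idx} (b₀ : D.P.Base)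

/-! ### type `A₁ × A₁` -/

include b₀ in
theorem A1A1_facts (hp0 : D.P.root a + D.P.root b ∉ Set.range D.P.root)
    (hm : D.P.root b - D.P.root a ∉ Set.range D.P.root) (hp00 : D.P.root a + D.P.root b ≠ 0)
    (hm0 : D.P.root b - D.P.root a ≠ 0) (X : Over S) (x y : Γ(X.left, ⊤)) :
    cj (Wy D a X) (P (D.u b) y) = P (D.u b) y ∧ P (D.u b) y * P (D.u a) x = P (D.u a) x * P (D.u b) y :=
  ⟨commute_Wy D b₀ hp0 hm hp00 hm0 X y, (commute_rootGroups D b₀ a b hp00 hp0 X x y).eq.symm⟩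

/-! ### type `A₂` -/

section A2

variable (h : PairSys D.P a b 1) (Ea : DualPair D a) (Eb : DualPair D b) (X : Over S)

include h b₀ Ea Eb

theorem A2_exact (y : Γ(X.left, ⊤)) :
    cj (Wy D a X) (cj (Wy D b X) (P (D.u a) y)) = P (D.u b) y ∧
      cj (Wy D b X) (cj (Wy D a X) (P (D.u b) y)) = P (D.u a) y := by
  refine ⟨?_, ?_⟩
  · have e := A2_cj_a h b₀ Ea Eb X (-y)
    rw [neg_neg] at e
    rw [← e, cj_Wy_Wy D Ea b X _ (-1) h.hba]
    simp
  · rw [A2_cj_a h b₀ Ea Eb X y, cj_Wy_Wy D Eb a X _ (-1) h.hab]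
    simp

/-- The relation between the coordinates. -/
def RelA2 {R : Type*} [CommRing R] (x y : ℕ → R) : Prop :=
  y 2 = x 0 ∧ y 0 = x 2 ∧ y 1 = -(x 1) - x 0 * x 2

theorem A2_words (x y : ℕ → Γ(X.left, ⊤)) (hr : RelA2 x y) : sw D [a, b, a] x = sw D [b, a, b] y := by
  haveI := fun c => (D.rootHom c).1
  haveI := D.fintypeIdx
  obtain ⟨h2, h0, h1⟩ := hr
  rw [sw_three, sw_three, (A2_exact b₀ h Ea Eb X _).1, (A2_exact b₀ h Ea Eb X _).2,
    A2_cj_a h b₀ Ea Eb X (x 1), h0, h1, h2]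
  obtain ⟨ν, -, hν⟩ := exists_cj_coeff D b₀ Eb a _ rfl
  have rc := (h.root_refl_b (root_coords_a a b)).trans
    (show _ = (1 : ℤ) • D.P.root a + (1 : ℤ) • D.P.root b by norm_num)
  obtain ⟨C, hC⟩ : ∃ C : Γ(X.left, ⊤) → (X ⟶ G), ∀ t, cj (Wy D b X) (P (D.u a) t) = C t := ⟨_, fun _ => rfl⟩
  have cb : ∀ s t, Commute (P (D.u b) s : X ⟶ G) (C t) := fun s t => by
    rw [← hC, hν]; exact h.commute_root b₀ (root_coords_b a b) rc (by decide) (by decide) X s _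
  have ca : ∀ s t, Commute (P (D.u a) s : X ⟶ G) (C t) := fun s t => by
    rw [← hC, hν]; exact h.commute_root b₀ (root_coords_a a b) rc (by decide) (by decide) X s _
  have hadd : ∀ s t : Γ(X.left, ⊤), C s * C t = C (s + t) := fun s t => by
    rw [← hC, ← hC, ← hC, ← cj_mul, RankOne.P_add]
  have ex : P (D.u b) (x 2) * P (D.u a) (x 0) = P (D.u a) (x 0) * P (D.u b) (x 2) * C (x 0 * x 2) := by
    have e := A2_comm h b₀ Eb X (-x 0) (-x 2)
    rw [neg_mul_neg, hC] at e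
    exact exchange (RankOne.P_neg _) (RankOne.P_neg _) e
  rw [hC, hC, ← (ca (x 0) _).eq, ← _root_.mul_assoc (P (D.u b) (x 2)), ex, (cb (x 2) _).eq.symm,
    _root_.mul_assoc _ (C (x 0 * x 2)), hadd, ← _root_.mul_assoc]
  congr 2
  ring

end A2

/-! ### type `B₂` -/

section B2

variable (h : PairSys D.P a b 2) (Ea : DualPair D a) (Eb : DualPair D b) (X : Over S)

/-- The relation between the coordinates in type `B₂`, `a` short. -/
def RelB2 {R : Type*} [CommRing R] (x y : ℕ → R) : Prop :=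
  y 3 = x 0 ∧ y 0 = x 3 ∧ -x 2 = y 0 * y 3 + y 1 ∧ x 1 = y 3 ^ 2 * y 0 + 2 * y 3 * y 1 + y 2

include h b₀ Ea Eb

theorem B2_moves :
    (∀ t, cj (Wy D a X) (P (D.u b) t) = cj (Wy D a X) (P (D.u b) t)) ∧
    (∀ t, cj (Wy D b X) (cj (Wy D a X) (P (D.u b) t)) = cj (Wy D a X) (P (D.u b) t)) ∧
    (∀ t, cj (Wy D a X) (cj (Wy D b X) (P (D.u a) t)) = cj (Wy D b X) (P (D.u a) (-t))) := by
  haveI := D.fintypeIdx
  obtain ⟨-, -, h3⟩ := B2_main h b₀ Ea Eb X
  refine ⟨fun t => rfl, fun t => ?_, h3⟩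
  have rd := (h.root_refl_a (root_coords_b a b)).trans
    (show _ = (2 : ℤ) • D.P.root a + (1 : ℤ) • D.P.root b by norm_num)
  obtain ⟨ν, -, hν⟩ := exists_cj_coeff D b₀ Ea b _ rfl
  rw [hν, h.fix b₀ (0, 1) (2, 1) (root_coords_b a b) rd (by decide) (by decide) (by decide) (by decide)]

theorem B2_exact (y : Γ(X.left, ⊤)) :
    cj (Wy D a X) (cj (Wy D b X) (cj (Wy D a X) (P (D.u b) y))) = P (D.u b) y ∧
      cj (Wy D b X) (cj (Wy D a X) (cj (Wy D b X) (P (D.u a) y))) = P (D.u a) y := by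
  obtain ⟨-, m2, m3⟩ := B2_moves b₀ h Ea Eb X
  refine ⟨?_, ?_⟩
  · rw [m2, cj_Wy_Wy D Ea b X _ (-2) h.hba]
    simp
  · rw [m3, cj_Wy_Wy D Eb a X _ (-1) h.hab]
    simp

theorem B2_words (x y : ℕ → Γ(X.left, ⊤)) (hr : RelB2 x y) : sw D [a, b, a, b] x = sw D [b, a, b, a] y := by
  haveI := fun c => (D.rootHom c).1
  haveI := D.fintypeIdx
  obtain ⟨h3, h0, hc, he⟩ := hr
  obtain ⟨-, m2, m3⟩ := B2_moves b₀ h Ea Eb X
  obtain ⟨r1, r2, -⟩ := B2_main h b₀ Ea Eb X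
  rw [sw_four, sw_four, (B2_exact b₀ h Ea Eb X _).1, (B2_exact b₀ h Ea Eb X _).2, m3, m2]
  obtain ⟨νc, -, hνc⟩ := exists_cj_coeff D b₀ Eb a _ rfl
  obtain ⟨νe, -, hνe⟩ := exists_cj_coeff D b₀ Ea b _ rfl
  have rc := (h.root_refl_b (root_coords_a a b)).trans
    (show _ = (1 : ℤ) • D.P.root a + (1 : ℤ) • D.P.root b by norm_num)
  have re := (h.root_refl_a (root_coords_b a b)).trans
    (show _ = (2 : ℤ) • D.P.root a + (1 : ℤ) • D.P.root b by norm_num)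
  obtain ⟨C, hC⟩ : ∃ C : Γ(X.left, ⊤) → (X ⟶ G), ∀ t, cj (Wy D b X) (P (D.u a) t) = C t := ⟨_, fun _ => rfl⟩
  obtain ⟨E, hE⟩ : ∃ E : Γ(X.left, ⊤) → (X ⟶ G), ∀ t, cj (Wy D a X) (P (D.u b) t) = E t := ⟨_, fun _ => rfl⟩
  have Cadd : ∀ s t, C s * C t = C (s + t) := fun s t => by rw [← hC, ← hC, ← hC, ← cj_mul, RankOne.P_add]
  have Eadd : ∀ s t, E s * E t = E (s + t) := fun s t => by rw [← hE, ← hE, ← hE, ← cj_mul, RankOne.P_add]
  have bC : ∀ s t, Commute (P (D.u b) s : X ⟶ G) (C t) := fun s t => by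
    rw [← hC, hνc]; exact h.commute_root b₀ (root_coords_b a b) rc (by decide) (by decide) X s _
  have bE : ∀ s t, Commute (P (D.u b) s : X ⟶ G) (E t) := fun s t => by
    rw [← hE, hνe]; exact h.commute_root b₀ (root_coords_b a b) re (by decide) (by decide) X s _
  have aE : ∀ s t, Commute (P (D.u a) s : X ⟶ G) (E t) := fun s t => by
    rw [← hE, hνe]; exact h.commute_root b₀ (root_coords_a a b) re (by decide) (by decide) X s _
  have CE : ∀ s t, Commute (C s) (E t) := fun s t => by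
    rw [← hC, ← hE, hνc, hνe]; exact h.commute_root b₀ rc re (by decide) (by decide) X _ _
  simp only [hC, hE] at r1 r2 ⊢
  have x1 : P (D.u b) (y 0) * P (D.u a) (y 3) =
      P (D.u a) (y 3) * P (D.u b) (y 0) * (C (y 3 * y 0) * E (y 3 ^ 2 * y 0)) := by
    have e := r1 (-y 3) (-y 0)
    rw [neg_mul_neg, neg_sq, mul_neg, neg_neg] at e
    exact exchange (RankOne.P_neg _) (RankOne.P_neg _) e
  have x2 : C (y 1) * P (D.u a) (y 3) = P (D.u a) (y 3) * C (y 1) * E (2 * y 3 * y 1) := by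
    have e := r2 (-y 3) (-y 1)
    rw [show (2 : Γ(X.left, ⊤)) * -y 3 * -y 1 = 2 * y 3 * y 1 by ring] at e
    refine exchange ?_ (RankOne.P_neg _) e
    rw [← hC, ← hC, cj_inv, RankOne.P_neg]
  rw [← h3, ← h0, hc, he]
  have ga : ∀ g₁ g₂ g₃ : X ⟶ G, g₁ * g₂ * g₃ = g₁ * (g₂ * g₃) := fun _ _ _ => _root_.mul_assoc _ _ _
  conv_rhs =>
    rw [← (aE (y 3) (y 2)).eq, ← ga (C (y 1)), x2, ← ga, ← ga, ← ga, x1]
  rw [← (bC _ _).eq, ← ga (E _), ← (bE _ _).eq, ga (P (D.u b) _), ← (CE _ _).eq, mul_comm (y 0) (y 3),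
    ← Cadd, ← Eadd, ← Eadd]
  simp only [ga]
  congr 3
  rw [← ga (C (y 1)), (CE (y 1) (y 3 ^ 2 * y 0)).eq, ga]

end B2

/-! ### type `G₂` -/

section G2

variable (h : PairSys D.P a b 3) (Ea : DualPair D a) (Eb : DualPair D b) (X : Over S)

/-- The relation between the coordinates in type `G₂`, `a` short. -/
def RelG2 {R : Type*} [CommRing R] (x y : ℕ → R) : Prop :=
  y 5 = x 0 ∧ y 0 = x 5 ∧ -x 4 = y 5 * y 0 + y 1 ∧ x 2 = y 5 ^ 2 * y 0 + y 3 + 2 * y 5 * y 1 ∧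
    -x 1 = y 5 ^ 3 * y 0 + y 4 + 3 * y 5 * y 3 + 3 * y 5 ^ 2 * y 1 ∧
    -x 3 - 3 * x 2 * x 4 + x 1 * x 5 = y 5 ^ 3 * y 0 ^ 2 - y 2 + 3 * y 5 * y 1 ^ 2 + 3 * y 5 ^ 2 * y 0 * y 1

include h b₀ Ea Eb

theorem G2_atoms : ∃ C E K F : Γ(X.left, ⊤) → (X ⟶ G),
    ((∀ t, cj (Wy D b X) (P (D.u a) t) = C t) ∧ (∀ t, cj (Wy D a X) (C t) = E t) ∧
      (∀ t, cj (Wy D a X) (P (D.u b) t) = K (-t)) ∧ (∀ t, cj (Wy D b X) (K t) = F t)) ∧
    ((∀ t, cj (Wy D a X) (E t) = C (-t)) ∧ (∀ t, cj (Wy D b X) (F t) = K (-t)) ∧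
      (∀ t, cj (Wy D b X) (E t) = E t) ∧ (∀ t, cj (Wy D a X) (F t) = F t) ∧
      (∀ t, cj (Wy D b X) (C t) = P (D.u a) (-t)) ∧ (∀ t, cj (Wy D a X) (K t) = P (D.u b) t)) ∧
    ((∀ s t, C s * C t = C (s + t)) ∧ (∀ s t, E s * E t = E (s + t)) ∧ (∀ s t, K s * K t = K (s + t)) ∧
      (∀ s t, F s * F t = F (s + t))) ∧
    ((∀ s t, Commute (P (D.u b) s) (C t)) ∧ (∀ s t, Commute (P (D.u b) s) (E t)) ∧
      (∀ s t, Commute (P (D.u b) s) (F t)) ∧ (∀ s t, Commute (P (D.u a) s) (K t)) ∧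
      (∀ s t, Commute (P (D.u a) s) (F t)) ∧ (∀ s t, Commute (C s) (K t)) ∧ (∀ s t, Commute (C s) (F t)) ∧
      (∀ s t, Commute (E s) (K t)) ∧ (∀ s t, Commute (E s) (F t)) ∧ (∀ s t, Commute (K s) (F t))) ∧
    (∀ x y, P (D.u b) y * P (D.u a) x = P (D.u a) x * P (D.u b) y *
        (C (x * y) * E (x ^ 2 * y) * K (x ^ 3 * y) * F (x ^ 3 * y ^ 2))) ∧
    (∀ x y, C y * P (D.u a) x = P (D.u a) x * C y * (E (2 * x * y) * K (3 * x ^ 2 * y) * F (3 * x * y ^ 2))) ∧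
    (∀ x y, E y * P (D.u a) x = P (D.u a) x * E y * K (3 * x * y)) ∧
    (∀ x y, K y * P (D.u b) x = P (D.u b) x * K y * F (-(x * y))) ∧
    ∀ x y, E y * C x = C x * E y * F (3 * x * y) := by
  haveI := D.fintypeIdx
  haveI := fun c => (D.rootHom c).1
  set c := D.P.reflectionPerm b a with hc
  set e := D.P.reflectionPerm a c with he
  set d := D.P.reflectionPerm a b with hd
  set f := D.P.reflectionPerm b d with hf
  have ra := root_coords_a a b
  have rb := root_coords_b a b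
  have rc : D.P.root c = (1 : ℤ) • D.P.root a + (1 : ℤ) • D.P.root b := (h.root_refl_b ra).trans (by norm_num)
  have re : D.P.root e = (2 : ℤ) • D.P.root a + (1 : ℤ) • D.P.root b := (h.root_refl_a rc).trans (by norm_num)
  have rd : D.P.root d = (3 : ℤ) • D.P.root a + (1 : ℤ) • D.P.root b := (h.root_refl_a rb).trans (by norm_num)
  have rf : D.P.root f = (3 : ℤ) • D.P.root a + (2 : ℤ) • D.P.root b := (h.root_refl_b rd).trans (by norm_num)
  obtain ⟨ν1, -, hν1⟩ := exists_cj_coeff D b₀ Eb a c hc.symm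
  obtain ⟨ν2, -, hν2⟩ := exists_cj_coeff D b₀ Ea c e he.symm
  obtain ⟨ν3, -, hν3⟩ := exists_cj_coeff D b₀ Ea b d hd.symm
  obtain ⟨ν4, -, hν4⟩ := exists_cj_coeff D b₀ Eb d f hf.symm
  have hpa : D.P.pairing c a = -1 := by
    rw [← RootPairing.root_coroot'_eq_pairing, rc, (h.coroot_eval 1 1).1]; norm_num
  have hpd : D.P.pairing d b = -1 := by
    rw [← RootPairing.root_coroot'_eq_pairing, rd, (h.coroot_eval 3 1).2]; norm_num
  have mC : ∀ t, cj (Wy D a X) (g21 a b X t) = g11 (D := D) a b X (-t) := fun t => by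
    rw [g21, g11, g11, hν1, cj_Wy_Wy D Ea c X _ (-1) hpa, hν1]
    congr 1
    simp
  have mK : ∀ t, cj (Wy D b X) (g32 a b X t) = g31 (D := D) a b X (-t) := fun t => by
    rw [g32, g31, g31, hν3, cj_Wy_Wy D Eb d X _ (-1) hpd, hν3]
    congr 1
    simp
  have mE : ∀ t, cj (Wy D b X) (g21 a b X t) = g21 (D := D) a b X t := fun t => by
    rw [g21, g11, hν1, hν2, h.fix b₀ (0, 1) (2, 1) rb re (by decide) (by decide) (by decide) (by decide)]
  have mF : ∀ t, cj (Wy D a X) (g32 a b X t) = g32 (D := D) a b X t := fun t => by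
    rw [g32, g31, hν3, hν4, h.fix b₀ (1, 0) (3, 2) ra rf (by decide) (by decide) (by decide) (by decide)]
  have eA : ∀ t, cj (Wy D b X) (g11 a b X t) = P (D.u a) (-t) := fun t => by
    rw [g11, cj_Wy_Wy D Eb a X _ (-1) h.hab]; simp
  have eB : ∀ t, cj (Wy D a X) (g31 a b X t) = P (D.u b) t := fun t => by
    rw [g31, cj_Wy_Wy D Ea b X _ (-3) h.hba]; simp [zpow_neg, pow_succ]
  have cm : ∀ {p r : D.idx} {p1 p2 r1 r2 : ℤ}, D.P.root p = p1 • D.P.root a + p2 • D.P.root b →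
      D.P.root r = r1 • D.P.root a + r2 • D.P.root b → (p1 + r1, p2 + r2) ≠ (0 : ℤ × ℤ) →
      (p1 + r1, p2 + r2) ∉ pairList 3 → ∀ s t, Commute (P (D.u p) s : X ⟶ G) (P (D.u r) t) :=
    fun hp hr h0 hn s t => h.commute_root b₀ hp hr h0 hn X s t
  have e11 : ∀ z, g11 (D := D) a b X z = P (D.u c) (ν1 X * z) := fun z => hν1 X z
  have e21 : ∀ z, g21 (D := D) a b X z = P (D.u e) (ν2 X * (ν1 X * z)) := fun z => by rw [g21, e11, hν2]
  have e31 : ∀ z, g31 (D := D) a b X z = P (D.u d) (ν3 X * -z) := fun z => hν3 X (-z)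
  have e32 : ∀ z, g32 (D := D) a b X z = P (D.u f) (ν4 X * (ν3 X * -z)) := fun z => by rw [g32, e31, hν4]
  have n11 : ∀ t, g11 (D := D) a b X (-t) = (g11 (D := D) a b X t)⁻¹ := fun t => by
    rw [g11, g11, RankOne.P_neg, cj_inv]
  have n21 : ∀ t, g21 (D := D) a b X (-t) = (g21 (D := D) a b X t)⁻¹ := fun t => by
    simp only [g21, g11, RankOne.P_neg, cj_inv]
  have n31 : ∀ t, g31 (D := D) a b X (-t) = (g31 (D := D) a b X t)⁻¹ := fun t => by
    rw [g31, g31, RankOne.P_neg (-t), cj_inv]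
  have n32 : ∀ t, g32 (D := D) a b X (-t) = (g32 (D := D) a b X t)⁻¹ := fun t => by
    simp only [g32, g31, RankOne.P_neg (-t), cj_inv]
  refine ⟨g11 a b X, g21 a b X, g31 a b X, g32 a b X,
    ⟨fun _ => rfl, fun _ => rfl, fun t => by rw [g31, neg_neg], fun _ => rfl⟩,
    ⟨mC, mK, mE, mF, eA, eB⟩,
    ⟨fun s t => by rw [e11, e11, e11, ← RankOne.P_add, mul_add],
      fun s t => by rw [e21, e21, e21, ← RankOne.P_add]; congr 1; ring,
      fun s t => by rw [e31, e31, e31, ← RankOne.P_add]; congr 1; ring,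
      fun s t => by rw [e32, e32, e32, ← RankOne.P_add]; congr 1; ring⟩,
    ⟨fun s t => by rw [e11]; exact cm rb rc (by decide) (by decide) _ _,
      fun s t => by rw [e21]; exact cm rb re (by decide) (by decide) _ _,
      fun s t => by rw [e32]; exact cm rb rf (by decide) (by decide) _ _,
      fun s t => by rw [e31]; exact cm ra rd (by decide) (by decide) _ _,
      fun s t => by rw [e32]; exact cm ra rf (by decide) (by decide) _ _,
      fun s t => by rw [e11, e31]; exact cm rc rd (by decide) (by decide) _ _,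
      fun s t => by rw [e11, e32]; exact cm rc rf (by decide) (by decide) _ _,
      fun s t => by rw [e21, e31]; exact cm re rd (by decide) (by decide) _ _,
      fun s t => by rw [e21, e32]; exact cm re rf (by decide) (by decide) _ _,
      fun s t => by rw [e31, e32]; exact cm rd rf (by decide) (by decide) _ _⟩,
    fun x y => ?_, fun x y => ?_, fun x y => ?_, fun x y => ?_, fun x y => ?_⟩
  · obtain ⟨e1, -⟩ := G2_main h b₀ Ea Eb X (-x) (-y)
    ring_nf at e1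
    refine Eq.trans (exchange (RankOne.P_neg _) (RankOne.P_neg _) e1) ?_
    ring_nf
  · obtain ⟨-, e2, -⟩ := G2_main h b₀ Ea Eb X (-x) (-y)
    ring_nf at e2
    refine Eq.trans (exchange (n11 _) (RankOne.P_neg _) e2) ?_
    ring_nf
  · obtain ⟨-, -, e3, -⟩ := G2_main h b₀ Ea Eb X (-x) (-y)
    ring_nf at e3
    refine Eq.trans (exchange (n21 _) (RankOne.P_neg _) e3) ?_
    try ring_nf
  · obtain ⟨-, -, -, e4, -⟩ := G2_main h b₀ Ea Eb X (-y) (-x)
    ring_nf at e4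
    refine Eq.trans (exchange' (RankOne.P_neg _) (n31 _) e4) ?_
    rw [← n32]
    try ring_nf
  · obtain ⟨-, -, -, -, e5⟩ := G2_main h b₀ Ea Eb X (-x) (-y)
    ring_nf at e5
    refine Eq.trans (exchange (n21 _) (n11 _) e5) ?_
    ring_nf

theorem G2_exact (y : Γ(X.left, ⊤)) :
    cj (Wy D a X) (cj (Wy D b X) (cj (Wy D a X) (cj (Wy D b X) (cj (Wy D a X) (P (D.u b) y))))) = P (D.u b) y ∧
      cj (Wy D b X) (cj (Wy D a X) (cj (Wy D b X) (cj (Wy D a X) (cj (Wy D b X) (P (D.u a) y))))) = P (D.u a) y := by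
  obtain ⟨C, E, K, F, ⟨hC, hE, hK, hF⟩, ⟨mC, mK, mE, mF, eA, eB⟩, -⟩ := G2_atoms b₀ h Ea Eb X
  refine ⟨?_, ?_⟩
  · rw [hK, hF, mF, mK, eB, neg_neg]
  · rw [hC, hE, mE, mC, eA, neg_neg]

theorem G2_words (x y : ℕ → Γ(X.left, ⊤)) (hr : RelG2 x y) :
    sw D [a, b, a, b, a, b] x = sw D [b, a, b, a, b, a] y := by
  haveI := fun c => (D.rootHom c).1
  obtain ⟨h5, h0, hc, he, hd, hf⟩ := hr
  obtain ⟨C, E, K, F, ⟨hC, hE, hK, hF⟩, ⟨mC, mK, mE, mF, eA, eB⟩, ⟨Ca, Ea', Ka, Fa⟩,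
    ⟨bC, bE, bF, aK, aF, CK, CF, EK, EF, KF⟩, r1, r2, r3, r4, r5⟩ := G2_atoms b₀ h Ea Eb X
  rw [sw_six, sw_six]
  simp only [hC, hE, hK, hF, mC, mK, mE, mF, eA, eB, neg_neg]
  have ga : ∀ g₁ g₂ g₃ : X ⟶ G, g₁ * g₂ * g₃ = g₁ * (g₂ * g₃) := fun _ _ _ => _root_.mul_assoc _ _ _
  obtain ⟨Nm, hN⟩ : ∃ Nm : Γ(X.left, ⊤) → Γ(X.left, ⊤) → Γ(X.left, ⊤) → Γ(X.left, ⊤) → (X ⟶ G),
      ∀ c e d f, Nm c e d f = C c * E e * K d * F f := ⟨_, fun _ _ _ _ => rfl⟩
  have Fc : ∀ c t, F t * C c = C c * F t := fun c t => (CF c t).eq.symm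
  have Fe : ∀ c t, F t * E c = E c * F t := fun c t => (EF c t).eq.symm
  have Fk : ∀ c t, F t * K c = K c * F t := fun c t => (KF c t).eq.symm
  have Kc : ∀ c t, K t * C c = C c * K t := fun c t => (CK c t).eq.symm
  have Ke : ∀ c t, K t * E c = E c * K t := fun c t => (EK c t).eq.symm
  have Ec : ∀ c t, E t * C c = C c * (E t * F (3 * c * t)) := fun c t => by rw [r5, ga]
  have hmul : ∀ c e d f c' e' d' f', Nm c e d f * Nm c' e' d' f' =
      Nm (c + c') (e + e') (d + d') (f + f' + 3 * c' * e) := fun c e d f c' e' d' f' => by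
    simp only [hN, ga, ← Ca, ← Ea', ← Ka, ← Fa]
    congr 1
    rw [← ga (F f), Fc, ga, ← ga (K d), Kc, ga, ← ga (E e), Ec, ga, ga, ← ga (F f) (E e'), Fe, ga,
      ← ga (K d) (E e'), Ke, ga, ← ga (F _) (E e'), Fe, ga, ← ga (F f) (K d'), Fk, ga, ← ga (F _) (K d), Fk, ga,
      ← ga (F _) (K d'), Fk, ga]
    congr 4
    rw [Fa, Fa, Fa, Fa]
    congr 1
    ring
  have hNA : ∀ c e d f t, Nm c e d f * P (D.u a) t = P (D.u a) t *
      (C c * (E (2 * t * c) * (K (3 * t ^ 2 * c) * (F (3 * t * c ^ 2) * (E e * (K (3 * t * e) * (K d * F f))))))) := by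
    intro c e d f t
    simp only [hN, ga]
    rw [← (aF t f).eq, ← ga (K d), ← (aK t d).eq, ga, ← ga (E e), r3]
    simp only [ga]
    rw [← ga (C c), r2]
    simp only [ga]
  have hNA' : ∀ c e d f t, Nm c e d f * P (D.u a) t = P (D.u a) t *
      Nm c (2 * t * c + e) (3 * t ^ 2 * c + 3 * t * e + d) (3 * t * c ^ 2 + f) := fun c e d f t => by
    rw [hNA]
    congr 1
    simp only [hN, ga]
    rw [← ga (F _) (E e), Fe, ga, ← ga (F _) (K _), Fk, ga, ← ga (F _) (K d), Fk, ga, ← ga (K _) (E e), Ke, ga,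
      ← ga (E _) (E e), Ea', ← ga (K _) (K _), Ka, ← ga (K _) (K d), Ka, Fa]
  have hw1 : K (-x 1) * (E (x 2) * (F (-x 3) * (C (-x 4) * P (D.u b) (x 5)))) =
      P (D.u b) (x 5) * Nm (-x 4) (x 2) (-x 1) (-x 3 - 3 * x 2 * x 4 + x 1 * x 5) := by
    rw [← (bC _ _).eq, ← ga (F _), ← (bF _ _).eq, ga, ← ga (E _), ← (bE _ _).eq, ga, ← ga (K _), r4]
    simp only [hN, ga]
    congr 1
    rw [Fc, ← ga (E _), Ec]
    simp only [ga]
    rw [← ga (F _) (C _), Fc, ga, ← ga (K _) (C _), Kc, ga]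
    congr 1
    rw [← ga (F _) (E _), Fe, ga, ← ga (K _) (E _), Ke, ga, Fa, Fa]
    congr 3
    ring
  have hw2 : C (y 1) * (F (-y 2) * (E (y 3) * K (y 4))) = Nm (y 1) (y 3) (y 4) (-y 2) := by
    simp only [hN, ga]
    rw [← ga (F _), Fe, ga, Fk]
  have hr1 : P (D.u b) (y 0) * P (D.u a) (y 5) = P (D.u a) (y 5) * (P (D.u b) (y 0) *
      Nm (y 5 * y 0) (y 5 ^ 2 * y 0) (y 5 ^ 3 * y 0) (y 5 ^ 3 * y 0 ^ 2)) := by
    rw [r1, hN, ga]
  rw [hw1, ← ga (F _) (E _), ← h5, ← h0]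
  rw [show C (y 1) * (F (-y 2) * E (y 3) * (K (y 4) * P (D.u a) (y 5))) =
    C (y 1) * (F (-y 2) * (E (y 3) * K (y 4))) * P (D.u a) (y 5) by simp only [ga], hw2, hNA',
    ← ga (P (D.u b) (y 0)), hr1, ga, ga, hmul]
  rw [← h0] at hf
  rw [hf, hd, hc, he]
  congr 3 <;> ring_nf

end G2

end Groth.Agent.PMor16
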