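import Groth.Agent.Lib.PMor16.Mor2
import Groth.Agent.Lib.RedCell16.Unip

/-!
# The graph over the unipotent group
-/

set_option autoImplicit false
set_option linter.style.haveILetI false
set_option linter.unusedSimpArgs false
set_option linter.unusedSectionVars false
set_option backward.isDefEq.respectTransparency false
set_option backward.isDefEq.respectTransparency.types false

universe u

open CategoryTheory CategoryTheory.Limits MonoidalCategory CartesianMonoidalCategory MonObj AlgebraicGeometry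

noncomputable section

namespace Groth.Agent.PMor16

open DiagGL RootDLib RedCell16
open RankOne (P A)

variable {S : Scheme.{u}} {G G' : Over S} [GrpObj G] [GrpObj G']
variable {D : Red.SplitRed G} {b₀ : D.P.Base} {D' : Red.SplitRed G'} {b₀' : D'.P.Base}

/-- Glue a first value to a sequence. -/
def consN {R : Type*} (x : R) (y : ℕ → R) : ℕ → R
  | 0 => x
  | k + 1 => y k

theorem cj_rp {X : Over S} (g : X ⟶ G) : ∀ {k : ℕ} (e e' : Fin k → D.idx) (v v' : Fin k → Γ(X.left, ⊤)),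
    (∀ i, cj g (P (D.u (e i)) (v i)) = P (D.u (e' i)) (v' i)) → cj g (rp D e v) = rp D e' v'
  | 0, e, e', v, v', _ => by
    rw [rp_eq_prod, rp_eq_prod]
    simp [cj]
  | k + 1, e, e', v, v', h => by
    rw [rp_succ, rp_succ, RedCell16.cj_mul, h 0,
      cj_rp g (fun i => e i.succ) (fun i => e' i.succ) _ (fun i => v' i.succ) fun i => h i.succ]

variable (m : Mor D b₀ D' b₀')

namespace Mor

variable [D.P.IsReduced] [D'.P.IsReduced]

/-- Two words parametrise the same set, with the same product of Weyl elements. -/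
def Good (l l' : List D.idx) : Prop :=
  ∀ X : Over S, (∀ x : ℕ → Γ(X.left, ⊤), ∃ y, m.gw l x = m.gw l' y) ∧
    (∀ y : ℕ → Γ(X.left, ⊤), ∃ x, m.gw l x = m.gw l' y) ∧ m.gWd l X = m.gWd l' X

theorem good_of_red {l l' : List D.idx} (hl : Red b₀ l) (hl' : Red b₀ l') (he : wprod D.P l = wprod D.P l') :
    m.Good l l' := by
  refine matsumoto b₀ m.Good (fun X => ⟨fun x => ⟨x, rfl⟩, fun y => ⟨y, rfl⟩, rfl⟩) ?_ ?_ ?_
    (fun ha hb hne => exists_pairs' b₀ ha hb hne) hl hl' he
  · intro l₁ l₂ l₃ h1 h2 X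
    obtain ⟨f1, g1, e1⟩ := h1 X
    obtain ⟨f2, g2, e2⟩ := h2 X
    refine ⟨fun x => ?_, fun z => ?_, e1.trans e2⟩
    · obtain ⟨y, hy⟩ := f1 x
      obtain ⟨z, hz⟩ := f2 y
      exact ⟨z, hy.trans hz⟩
    · obtain ⟨y, hy⟩ := g2 z
      obtain ⟨x, hx⟩ := g1 y
      exact ⟨x, hx.trans hy⟩
  · intro a l₁ l₂ ha h X
    obtain ⟨f, g, e⟩ := h X
    refine ⟨fun x => ?_, fun y => ?_, by rw [gWd_cons, gWd_cons, e]⟩
    · obtain ⟨y, hy⟩ := f fun k => x (k + 1)
      exact ⟨consN (x 0) y, by rw [gw, gw, hy]; rfl⟩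
    · obtain ⟨x, hx⟩ := g fun k => y (k + 1)
      exact ⟨consN (y 0) x, by rw [gw, gw, ← hx]; rfl⟩
  · intro a c p q ha hc hne hp hq h v hv X
    obtain ⟨f, g⟩ := (m.rankTwo ha hc hne hp hq h).2 X
    have e := m.braid ha hc hne hp hq h X
    set n := braidLen p q with hn
    have hlen : ∀ s : Bool, (nm a c (altB s n)).length = n := fun s => by simp [nm, length_altB]
    refine ⟨fun x => ?_, fun y => ?_, by rw [gWd_append, gWd_append, e]⟩
    · obtain ⟨y, hy⟩ := f x
      refine ⟨fun k => if k < n then y k else x k, ?_⟩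
      rw [gw_append, gw_append, hy, e, hlen, hlen]
      congr 1
      · exact m.gw_congr _ _ _ fun k hk => by simp only [hlen] at hk; simp [hk]
      · congr 1
        simp
    · obtain ⟨x, hx⟩ := g y
      refine ⟨fun k => if k < n then x k else y k, ?_⟩
      rw [gw_append, gw_append, ← hx, e, hlen, hlen]
      congr 1
      · exact m.gw_congr _ _ _ fun k hk => by simp only [hlen] at hk; simp [hk]
      · congr 1
        simp

/-- **A reduced word carrying a simple root to a simple root does so exactly.** -/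
theorem exact_gen : ∀ (n : ℕ) {l : List D.idx}, l.length = n → Red b₀ l → ∀ {a c : D.idx},
    a ∈ b₀.support → c ∈ b₀.support → wprod D.P l • a = c → ∀ (X : Over S) (y : Γ(X.left, ⊤)),
      kj (m.gWd l X) (m.gP a y) = m.gP c y := by
  intro n
  induction n using Nat.strong_induction_on with
  | _ n ih =>
    intro l hn hl a c ha hc he X y
    by_cases hne : l = []
    · subst hne
      rw [wprod_nil, one_smul] at he
      subst he
      simp [gWd, kj]
    obtain ⟨x, p, q, v, hx, hax, hp, hq, h, hlt, hr, hew, hva⟩ :=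
      exists_fix_step b₀ hl hne ha hc he (fun ha hb hne => exists_pairs' b₀ ha hb hne)
    rw [← ((m.good_of_red hr hl hew) X).2.2, gWd_append, ← kj_kj]
    have hE := (m.rankTwo ha hx hax hp hq h).1 (decide (braidLen p q % 2 = 0)) X y
    rw [(rev_table h).2] at hE
    simp only [Bool.false_eq_true, if_false] at hE
    rw [hE]
    exact ih _ (hn ▸ hlt) rfl (hr.append_left b₀) (by split_ifs <;> assumption) hc hva X y

theorem long_wprod_eq {l l' : List D.idx} (h : Long b₀ l) (h' : Long b₀ l') : wprod D.P l' = wprod D.P l := by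
  haveI := D.fintypeIdx
  have key : wprod D.P l' * (wprod D.P l)⁻¹ = 1 := by
    refine eq_one_of_mapsTo (RootComb21.isSimpleSys_support b₀)
      (mul_mem (RootDLib.wprod_mem_weyl l') (inv_mem (RootDLib.wprod_mem_weyl l))) fun a ha => ?_
    show _ ∈ RedSub.posRoots D.P b₀
    rw [mul_smul]
    by_contra hn
    have hy := h.2 a (simple_pos b₀ ha)
    have h2 := h'.2 _ ((not_pos_iff b₀ _).1 hn)
    rw [smul_ng, inv_smul_smul] at h2
    exact h2 ((not_pos_iff b₀ _).1 hy)
  calc wprod D.P l' = wprod D.P l' * (wprod D.P l)⁻¹ * wprod D.P l := by group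
    _ = wprod D.P l := by rw [key, _root_.one_mul]

theorem long_good {l l' : List D.idx} (h : Long b₀ l) (h' : Long b₀ l') : m.Good l l' :=
  haveI := D.fintypeIdx
  m.good_of_red h.1 h'.1 (long_wprod_eq h h').symm

/-- The pair lies on the graph over the positive unipotent group. -/
def InU {X : Over S} (g : KK m X) : Prop := ∃ l : List D.idx, Long b₀ l ∧ ∃ x, g = m.gw l x

theorem InU.repr {X : Over S} {g : KK m X} (hg : m.InU g) {l' : List D.idx} (h' : Long b₀ l') :
    ∃ x, g = m.gw l' x := by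
  obtain ⟨l, hl, x, rfl⟩ := hg
  exact ((m.long_good hl h') X).1 x

theorem inU_one (X : Over S) : m.InU (1 : KK m X) := by
  haveI := D.fintypeIdx
  obtain ⟨l, hl⟩ := exists_long b₀
  exact ⟨l, hl, 0, (m.gw_zero l).symm⟩

theorem InU.mul_left {X : Over S} {g : KK m X} (hg : m.InU g) {a : D.idx} (ha : a ∈ b₀.support)
    (r : Γ(X.left, ⊤)) : m.InU (m.gP a r * g) := by
  haveI := D.fintypeIdx
  obtain ⟨l, hl⟩ := exists_long b₀
  obtain ⟨l₁, hl₁, -⟩ := hl.exists_start ha
  obtain ⟨x, rfl⟩ := hg.repr m hl₁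
  refine ⟨_, hl₁, consN (r + x 0) fun k => x (k + 1), ?_⟩
  rw [gw, gw, ← _root_.mul_assoc, ← gP_add]
  rfl

theorem pull_gw {X Y : Over S} (π : Y ⟶ X) : ∀ (l : List D.idx) (x : ℕ → Γ(X.left, ⊤)),
    m.pull π (m.gw l x) = m.gw l fun k => π.left.appTop (x k)
  | [], _ => m.pull_one π
  | a :: l, x => by
    rw [gw, gw, pull_mul, kj, pull_mul, pull_mul, pull_inv, pull_gP, pull_gW, pull_gw π l]

theorem InU.pull {X Y : Over S} (π : Y ⟶ X) {g : KK m X} (hg : m.InU g) : m.InU (m.pull π g) := by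
  obtain ⟨l, hl, x, rfl⟩ := hg
  exact ⟨l, hl, _, m.pull_gw π l x⟩

theorem gT_comm {X : Over S} (s t : X ⟶ D.T) : m.gT s * m.gT t = m.gT t * m.gT s := by
  rw [← gT_mul, ← gT_mul, torus_comm]

theorem gW_conj_gT_inv {X : Over S} {a : D.idx} (ha : a ∈ b₀.support) (t : X ⟶ D.T) :
    kj (m.gW a X) (m.gT (tRefl a t)) = m.gT t := by
  rw [← m.gW_conj_gT ha, kj_kj, m.gW_mul_gW ha, kj, gT_comm, mul_inv_cancel_right]

theorem gT_conj_gw {X : Over S} : ∀ (l : List D.idx), (∀ a ∈ l, a ∈ b₀.support) → ∀ (t : X ⟶ D.T)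
    (x : ℕ → Γ(X.left, ⊤)), ∃ y, kj (m.gT t) (m.gw l x) = m.gw l y ∧ (x 0 = 0 → y 0 = 0)
  | [], _, t, x => ⟨x, kj_one _, id⟩
  | a :: l, h, t, x => by
    have ha := h a List.mem_cons_self
    obtain ⟨y, hy, -⟩ := gT_conj_gw l (fun c hc => h c (List.mem_cons_of_mem a hc)) (tRefl a t)
      fun k => x (k + 1)
    refine ⟨consN (rt D t a * x 0) y, ?_, fun h0 => ?_⟩
    · rw [gw, gw, kj_mul, gT_conj_gP]
      show _ * _ = m.gP a (rt D t a * x 0) * kj (m.gW a X) (m.gw l y)
      rw [← hy, kj_kj, kj_kj, ← m.gW_conj_gT_inv ha t]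
      congr 1
      simp [kj, _root_.mul_assoc]
    · show rt D t a * x 0 = 0
      rw [h0, mul_zero]

theorem InU.conj_gT {X : Over S} {g : KK m X} (hg : m.InU g) (t : X ⟶ D.T) : m.InU (kj (m.gT t) g) := by
  obtain ⟨l, hl, x, rfl⟩ := hg
  obtain ⟨y, hy, -⟩ := m.gT_conj_gw l hl.1.1 t x
  exact ⟨l, hl, y, hy⟩

include m in
/-- The first component in coordinates. -/
theorem exists_sw_rp : ∀ (l : List D.idx), (∀ a ∈ l, a ∈ b₀.support) → ∀ X : Over S,
    ∃ ν : Fin (rts (P := D.P) l).length → (Γ(X.left, ⊤))ˣ, ∀ x : ℕ → Γ(X.left, ⊤),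
      sw D l x = rp D (fun i => (rts (P := D.P) l).get i) (fun i => (ν i : Γ(X.left, ⊤)) * x i) := by
  intro l
  induction l with
  | nil => exact fun _ X => ⟨fun i => i.elim0, fun x => by rw [rp_eq_prod]; simp [sw, rts]⟩
  | cons a l ih =>
    intro h X
    obtain ⟨ν, hν⟩ := ih (fun c hc => h c (List.mem_cons_of_mem a hc)) X
    have Ea := m.dual a (h a List.mem_cons_self)
    choose w hw using fun c => exists_weyl_conj D a Ea b₀ c
    have hlen : (rts (P := D.P) (a :: l)).length = (rts (P := D.P) l).length + 1 := by simp [rts]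
    let ν' : Fin (rts (P := D.P) (a :: l)).length → (Γ(X.left, ⊤))ˣ := fun i =>
      Fin.cases 1 (fun j => w ((rts (P := D.P) l).get j) X * ν j) (Fin.cast hlen i)
    refine ⟨ν', fun x => ?_⟩
    rw [sw, hν]
    have hcj : cj (Wy D a X) (rp D (fun i => (rts (P := D.P) l).get i) fun i => (ν i : Γ(X.left, ⊤)) * x (i + 1)) =
        rp D (fun i => D.P.reflectionPerm a ((rts (P := D.P) l).get i))
          fun i => ((w ((rts (P := D.P) l).get i) X * ν i : (Γ(X.left, ⊤))ˣ) : Γ(X.left, ⊤)) * x (i + 1) := by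
      refine cj_rp _ _ _ _ _ fun i => ?_
      rw [hw _ X, Units.val_mul, _root_.mul_assoc ((w ((rts (P := D.P) l).get i) X : (Γ(X.left, ⊤))ˣ) : Γ(X.left, ⊤)),
        Units.inv_mul_cancel_left]
    rw [hcj]
    have key : ∀ (k k' : ℕ) (he : k' = k) (e : Fin k → D.idx) (v : Fin k → Γ(X.left, ⊤)),
        rp D e v = rp D (fun i => e (Fin.cast he i)) (fun i => v (Fin.cast he i)) := by
      rintro k _ rfl e v; rfl
    symm
    rw [key _ _ hlen.symm, rp_succ]
    congr 1
    · simp [ν', rts]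
    · congr 1
      funext i; simp [ν', rts]

theorem gw_fst_mem {l : List D.idx} (hl : Long b₀ l) {X : Over S} (x : ℕ → Γ(X.left, ⊤)) :
    (m.gw l x).1 ∈ gens D (RedSub.posRoots D.P b₀) X := by
  haveI := D.fintypeIdx
  obtain ⟨ν, hν⟩ := m.exists_sw_rp l hl.1.1 X
  rw [gw_fst, hν]
  exact rp_mem_gens D _ _ fun i => (hl.mem_rts _).1 (List.get_mem _ _)

theorem enum_rts {l : List D.idx} (hl : Long b₀ l) :
    RedSub.Enumerates (RedSub.posRoots D.P b₀) fun i => (rts (P := D.P) l).get i := by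
  haveI := D.fintypeIdx
  refine ⟨List.Nodup.injective_get (rts_spec b₀ hl.1).1, ?_⟩
  ext c
  rw [Set.mem_range, ← hl.mem_rts, List.mem_iff_get]

/-- **The first component determines the coordinates.** -/
theorem gw_inj {l : List D.idx} (hl : Long b₀ l) {X : Over S} {x y : ℕ → Γ(X.left, ⊤)}
    (h : (m.gw l x).1 = (m.gw l y).1) : m.gw l x = m.gw l y ∧ ∀ k < l.length, x k = y k := by
  haveI := D.fintypeIdx
  obtain ⟨n, _, eneg, _, hneg, -⟩ := exists_enum D b₀
  obtain ⟨ν, hν⟩ := m.exists_sw_rp l hl.1.1 X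
  rw [gw_fst, gw_fst, hν, hν, ← cellPt_zero_left D eneg, ← cellPt_zero_left D eneg] at h
  have h2 := (cellPt_inj D eneg _ hneg (enum_rts hl) h).2.2
  have hk : ∀ k < l.length, x k = y k := fun k hk => by
    have := congrFun h2 ⟨k, by rwa [length_rts]⟩
    exact (Units.mul_right_inj _).1 this
  exact ⟨m.gw_congr l x y hk, hk⟩

theorem InU.ext {X : Over S} {g g' : KK m X} (hg : m.InU g) (hg' : m.InU g') (h : g.1 = g'.1) : g = g' := by
  obtain ⟨l, hl, x, rfl⟩ := hg
  obtain ⟨y, rfl⟩ := hg'.repr m hl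
  exact (m.gw_inj hl h).1

theorem exists_InU {X : Over S} {w : X ⟶ G} (hw : w ∈ gens D (RedSub.posRoots D.P b₀) X) :
    ∃ g : KK m X, m.InU g ∧ g.1 = w := by
  haveI := D.fintypeIdx
  obtain ⟨l, hl⟩ := exists_long b₀
  obtain ⟨ν, hν⟩ := m.exists_sw_rp l hl.1.1 X
  obtain ⟨z, rfl⟩ := exists_coords D b₀ _ (enum_rts hl).2.ge hw
  refine ⟨m.gw l fun k => if hk : k < (rts (P := D.P) l).length then
      (((ν ⟨k, hk⟩)⁻¹ : (Γ(X.left, ⊤))ˣ) : Γ(X.left, ⊤)) * z ⟨k, hk⟩ else 0, ⟨l, hl, _, rfl⟩, ?_⟩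
  rw [gw_fst, hν]
  congr 1
  funext i
  simp [Units.mul_inv_cancel_left]

theorem InU.fst_mem {X : Over S} {g : KK m X} (hg : m.InU g) : g.1 ∈ gens D (RedSub.posRoots D.P b₀) X := by
  obtain ⟨l, hl, x, rfl⟩ := hg
  exact m.gw_fst_mem hl x

/-- A simple root element moves to the right through the part of the graph away from it. -/
theorem exists_commute_simple {a : D.idx} {l₁ : List D.idx} (hl : Long b₀ (a :: l₁)) {X : Over S}
    (x : ℕ → Γ(X.left, ⊤)) (r : Γ(X.left, ⊤)) :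
    ∃ (y : ℕ → Γ(X.left, ⊤)) (r' : Γ(X.left, ⊤)), m.gP a r * m.gw l₁ x = m.gw l₁ y * m.gP a r' := by
  haveI := D.fintypeIdx
  obtain ⟨L, hL, hLa, hlong, -⟩ := hl.exists_end
  have hU : m.InU (m.gw l₁ x) := ⟨_, hlong, fun k => if k < l₁.length then x k else 0, by
    rw [gw_append]
    simp only [gw, zero_add, kj_one, _root_.mul_one, lt_irrefl, if_false, gP_zero]
    exact m.gw_congr _ _ _ fun k hk => by simp [hk]⟩
  obtain ⟨z, hz⟩ := (hU.mul_left m ((red_cons_iff b₀).1 hl.1).1 r).repr m hlong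
  refine ⟨z, z l₁.length, ?_⟩
  rw [hz, gw_append]
  simp only [gw, zero_add, kj_one, _root_.mul_one]
  rw [m.exact_gen _ rfl (hlong.1.append_left b₀) hL ((red_cons_iff b₀).1 hl.1).1 hLa]

end Mor

end Groth.Agent.PMor16
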