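import Groth.Agent.Lib.RedCell16.BruhatOrder

/-!
# Reduced words in the Weyl group of a root pairing
-/

set_option autoImplicit false
set_option linter.unusedSectionVars false
set_option linter.unusedSimpArgs false

open Set

noncomputable section

namespace Groth.Agent.PMor16

open RootDLib RootPairing RedCell16

variable {ι M N : Type} [AddCommGroup M] [AddCommGroup N] {P : RootPairing ι ℤ M N}
variable [Finite ι] [P.IsReduced] (b : P.Base)

/-- The number of inversions of a word. -/
abbrev L (l : List ι) : ℕ := Order.len b (RedSub.wordPerm P l)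

/-- A reduced word in the simple roots. -/
def Red (l : List ι) : Prop := (∀ a ∈ l, a ∈ b.support) ∧ L b l = l.length

theorem L_congr {l l' : List ι} (h : wprod P l = wprod P l') : L b l = L b l' := by
  rw [L, L, Order.wordPerm_congr h]

theorem simple_pos {a : ι} (ha : a ∈ b.support) : a ∈ RedSub.posRoots P b := mem_posOf_of_mem ha

theorem not_pos_iff (c : ι) : c ∉ RedSub.posRoots P b ↔ ng P c ∈ RedSub.posRoots P b :=
  (Order.ng_pos_iff b c).symm

theorem ng_not_pos {c : ι} (h : c ∈ RedSub.posRoots P b) : ng P c ∉ RedSub.posRoots P b := by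
  rw [Order.ng_pos_iff]; exact fun h' => h' h

theorem L_nil : L b ([] : List ι) = 0 := by
  rw [L, Order.len, Set.ncard_eq_zero (Set.toFinite _), Set.eq_empty_iff_forall_notMem]
  rintro x ⟨h, h'⟩
  rw [RootComb21.wordPerm_apply, wprod_nil, one_smul, RootComb21.mem_negRoots_iff] at h'
  exact h' h

theorem L_le : ∀ l : List ι, (∀ a ∈ l, a ∈ b.support) → L b l ≤ l.length
  | [], _ => (L_nil b).le
  | a :: l, h => by
    have ih := L_le l fun x hx => h x (List.mem_cons_of_mem a hx)
    have ha := h a List.mem_cons_self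
    have h2 := List.length_cons (a := a) (as := l)
    by_cases hp : (wprod P l)⁻¹ • a ∈ RedSub.posRoots P b
    · have := Order.len_simple b ha l hp
      unfold L at *
      omega
    · have := Order.len_simple' b ha l hp
      unfold L at *
      omega

theorem red_nil : Red b ([] : List ι) := ⟨by simp, L_nil b⟩

theorem red_cons_iff {a : ι} {l : List ι} : Red b (a :: l) ↔
    a ∈ b.support ∧ Red b l ∧ (wprod P l)⁻¹ • a ∈ RedSub.posRoots P b := by
  constructor
  · rintro ⟨h, hl⟩
    have ha := h a List.mem_cons_self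
    have hl' : ∀ x ∈ l, x ∈ b.support := fun x hx => h x (List.mem_cons_of_mem a hx)
    have hle := L_le b l hl'
    rw [List.length_cons] at hl
    by_cases hp : (wprod P l)⁻¹ • a ∈ RedSub.posRoots P b
    · exact ⟨ha, ⟨hl', by have := Order.len_simple b ha l hp; unfold L at *; omega⟩, hp⟩
    · have := Order.len_simple' b ha l hp
      unfold L at *
      omega
  · rintro ⟨ha, ⟨hl, hn⟩, hp⟩
    refine ⟨fun x hx => ?_, ?_⟩
    · rcases List.mem_cons.1 hx with rfl | hx
      exacts [ha, hl x hx]
    · have := Order.len_simple b ha l hp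
      rw [List.length_cons]
      unfold L at *
      omega

theorem Red.simples {l : List ι} (h : Red b l) : ∀ a ∈ l, a ∈ b.support := h.1

theorem Red.tail {a : ι} {l : List ι} (h : Red b (a :: l)) : Red b l := ((red_cons_iff b).1 h).2.1

theorem eq_one_of_descents {l : List ι} (h : ∀ a ∈ b.support, (wprod P l)⁻¹ • a ∈ RedSub.posRoots P b) :
    wprod P l = 1 :=
  inv_eq_one.1 (eq_one_of_mapsTo (RootComb21.isSimpleSys_support b) (inv_mem (wprod_mem_weyl l)) h)

theorem exists_red (l : List ι) : ∃ l', Red b l' ∧ wprod P l' = wprod P l := by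
  induction hn : L b l using Nat.strong_induction_on generalizing l with
  | _ n ih =>
    by_cases h : ∀ a ∈ b.support, (wprod P l)⁻¹ • a ∈ RedSub.posRoots P b
    · exact ⟨[], red_nil b, (eq_one_of_descents b h).symm⟩
    · push Not at h
      obtain ⟨a, ha, hna⟩ := h
      have h1 : L b (a :: l) + 1 = L b l := Order.len_simple' b ha l hna
      obtain ⟨l'', hl'', he⟩ := ih _ (by omega) (a :: l) rfl
      have he2 : wprod P (a :: l'') = wprod P l := by
        rw [wprod_cons, he, ← wprod_cons, Order.wprod_cons_cons]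
      refine ⟨a :: l'', ⟨fun x hx => ?_, ?_⟩, he2⟩
      · rcases List.mem_cons.1 hx with rfl | hx
        exacts [ha, hl''.1 x hx]
      · rw [L_congr b he2, List.length_cons, ← hl''.2, L_congr b he]
        omega

/-- Reduced words are the shortest ones. -/
theorem red_iff_min {l : List ι} (hl : ∀ a ∈ l, a ∈ b.support) :
    Red b l ↔ ∀ l', (∀ a ∈ l', a ∈ b.support) → wprod P l' = wprod P l → l.length ≤ l'.length := by
  constructor
  · intro h l' hl' he
    rw [← h.2, ← L_congr b he]
    exact L_le b l' hl'
  · intro h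
    obtain ⟨l', hl', he⟩ := exists_red b l
    have := h l' hl'.1 he
    have := L_le b l hl
    refine ⟨hl, ?_⟩
    rw [L_congr b he.symm, hl'.2] at *
    omega

theorem Red.reverse {l : List ι} (h : Red b l) : Red b l.reverse := by
  have hrev : ∀ m : List ι, wprod P m.reverse = (wprod P m)⁻¹ := fun m => by
    induction m with
    | nil => simp
    | cons c m ih =>
      rw [List.reverse_cons, wprod_append, ih, wprod_cons, wprod_cons, wprod_nil, _root_.mul_one,
        _root_.mul_inv_rev, Equiv.reflection_inv]
  refine (red_iff_min b fun a ha => h.1 a (List.mem_reverse.1 ha)).2 fun l' hl' he => ?_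
  have := (red_iff_min b h.1).1 h l'.reverse (fun a ha => hl' a (List.mem_reverse.1 ha))
    (by rw [hrev, he, hrev, _root_.inv_inv])
  simpa using this

theorem wprod_reverse' (m : List ι) : wprod P m.reverse = (wprod P m)⁻¹ := by
  induction m with
  | nil => simp
  | cons c m ih =>
    rw [List.reverse_cons, wprod_append, ih, wprod_cons, wprod_cons, wprod_nil, _root_.mul_one,
      _root_.mul_inv_rev, Equiv.reflection_inv]

theorem Red.append_right : ∀ {l m : List ι}, Red b (l ++ m) → Red b m
  | [], _, h => h
  | _ :: l, _, h => Red.append_right (l := l) (((red_cons_iff b).1 h).2.1)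

theorem Red.append_left {l m : List ι} (h : Red b (l ++ m)) : Red b l := by
  have h1 := h.reverse
  rw [List.reverse_append] at h1
  simpa using (h1.append_right b).reverse

theorem Red.of_eq {l l' : List ι} (h : Red b l) (hl' : ∀ a ∈ l', a ∈ b.support)
    (he : wprod P l' = wprod P l) (hlen : l'.length = l.length) : Red b l' :=
  ⟨hl', by rw [L_congr b he, h.2, hlen]⟩

/-- The roots attached to the positions of a word. -/
def rts : List ι → List ι
  | [] => []
  | a :: l => a :: (rts l).map (P.reflectionPerm a)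

theorem length_rts : ∀ l : List ι, (rts (P := P) l).length = l.length
  | [] => rfl
  | a :: l => by simp [rts, length_rts l]

theorem rts_spec : ∀ {l : List ι}, Red b l → (rts (P := P) l).Nodup ∧
    ∀ c, c ∈ rts (P := P) l ↔ c ∈ RedSub.posRoots P b ∧ (wprod P l)⁻¹ • c ∉ RedSub.posRoots P b
  | [], _ => ⟨List.nodup_nil, fun c => by simp [rts]⟩
  | a :: l, h => by
    obtain ⟨ha, hl, hp⟩ := (red_cons_iff b).1 h
    obtain ⟨hnd, hmem⟩ := rts_spec hl
    have haP := simple_pos b ha
    have hkeep : ∀ d, d ∈ RedSub.posRoots P b → d ≠ a → P.reflectionPerm a d ∈ RedSub.posRoots P b :=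
      fun d hd hne => reflect_mem_posOf ha hd hne (RootComb21.root_ne_two_smul _ _) (RootComb21.isSimpleSys_support b)
    have haN : a ∉ (rts (P := P) l).map (P.reflectionPerm a) := by
      intro hm
      obtain ⟨d, hd, e⟩ := List.mem_map.1 hm
      have hd' : d = ng P a := by
        have := congrArg (P.reflectionPerm a) e
        rwa [reflectionPerm_self] at this
      exact ng_not_pos b haP (hd' ▸ ((hmem d).1 hd).1)
    refine ⟨List.nodup_cons.2 ⟨haN, hnd.map (Equiv.injective _)⟩, fun c => ?_⟩
    have hw : (wprod P (a :: l))⁻¹ • c = (wprod P l)⁻¹ • P.reflectionPerm a c := by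
      rw [wprod_cons, _root_.mul_inv_rev, mul_smul, Equiv.reflection_inv, refl_smul]
    rw [hw, rts, List.mem_cons, List.mem_map]
    constructor
    · rintro (rfl | ⟨d, hd, rfl⟩)
      · refine ⟨haP, ?_⟩
        rw [show P.reflectionPerm c c = ng P c from rfl, smul_ng]
        exact ng_not_pos b hp
      · obtain ⟨h1, h2⟩ := (hmem d).1 hd
        refine ⟨hkeep d h1 fun e => h2 (e ▸ hp), ?_⟩
        rw [reflectionPerm_self]
        exact h2
    · rintro ⟨h1, h2⟩
      by_cases hca : c = a
      · exact Or.inl hca
      · exact Or.inr ⟨P.reflectionPerm a c, (hmem _).2 ⟨hkeep c h1 hca, h2⟩, reflectionPerm_self _ _ _⟩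

/-- A reduced word making every positive root negative. -/
def Long (l : List ι) : Prop :=
  Red b l ∧ ∀ c ∈ RedSub.posRoots P b, (wprod P l)⁻¹ • c ∉ RedSub.posRoots P b

theorem exists_long : ∃ l : List ι, Long b l := by
  have hΔ := RootComb21.isSimpleSys_support b
  have hS := isPosSys_posOf hΔ
  have hneg : RootD.IsPosSys P (RedSub.negRoots P b) :=
    isPosSys_of_closed (fun i hi hn => by
      rw [RootComb21.mem_negRoots_iff] at hi hn
      exact hn ((not_pos_iff b i).1 hi))
      (fun i => by
        simp only [RootComb21.mem_negRoots_iff]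
        by_cases h : i ∈ RedSub.posRoots P b
        · exact Or.inr (ng_not_pos b h)
        · exact Or.inl h)
      (fun i j k hi hj hk => by
        rw [RootComb21.mem_negRoots_iff_ng] at hi hj ⊢
        refine IsPosSys.closed hS hi hj ?_
        rw [root_ng, root_ng, root_ng, hk, neg_add])
  obtain ⟨g, hg, he⟩ := exists_weyl_image_eq hneg (isPosSys_posOf hΔ)
  obtain ⟨l₀, hl₀⟩ := exists_word_weyl hg
  obtain ⟨l, hl, hlw⟩ := exists_red b l₀
  refine ⟨l, hl, fun c hc => ?_⟩
  rw [hlw, hl₀]
  obtain ⟨d, hd, hdc⟩ := he.symm ▸ (show c ∈ RootD.posOf P (b.support : Set ι) from hc)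
  rw [show c = g • d from hdc.symm, inv_smul_smul]
  exact (RootComb21.mem_negRoots_iff b d).1 hd

variable {b}

theorem Long.mem_rts {l : List ι} (h : Long b l) (c : ι) :
    c ∈ rts (P := P) l ↔ c ∈ RedSub.posRoots P b := by
  rw [(rts_spec b h.1).2]
  exact ⟨fun h => h.1, fun hc => ⟨hc, h.2 c hc⟩⟩

theorem Long.congr {l l' : List ι} (h : Long b l) (h' : Red b l') (he : wprod P l' = wprod P l) : Long b l' :=
  ⟨h', fun c hc => by rw [he]; exact h.2 c hc⟩

/-- Any simple root begins a longest word. -/
theorem Long.exists_start {l : List ι} (h : Long b l) {a : ι} (ha : a ∈ b.support) :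
    ∃ l₁, Long b (a :: l₁) ∧ wprod P (a :: l₁) = wprod P l := by
  obtain ⟨l₁, hl₁, he⟩ := exists_red b (a :: l)
  have he2 : wprod P (a :: l₁) = wprod P l := by
    rw [wprod_cons, he, ← wprod_cons, Order.wprod_cons_cons]
  have hr : Red b (a :: l₁) := by
    refine (red_cons_iff b).2 ⟨ha, hl₁, ?_⟩
    rw [he, wprod_cons, _root_.mul_inv_rev, mul_smul, Equiv.reflection_inv, refl_smul,
      show P.reflectionPerm a a = ng P a from rfl, smul_ng, ← not_pos_iff]
    exact h.2 a (simple_pos b ha)
  exact ⟨l₁, h.congr hr he2, he2⟩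

/-- A longest word starting with `a` can be rotated into one ending with a simple root moved to `a`. -/
theorem Long.exists_end {a : ι} {l₁ : List ι} (h : Long b (a :: l₁)) :
    ∃ L ∈ b.support, wprod P l₁ • L = a ∧ Long b (l₁ ++ [L]) ∧
      wprod P (l₁ ++ [L]) = wprod P (a :: l₁) := by
  have hΔ := RootComb21.isSimpleSys_support b
  have ha := ((red_cons_iff b).1 h.1).1
  set w := wprod P (a :: l₁) with hw
  set L := ng P (w⁻¹ • a) with hL
  have hLp : L ∈ RedSub.posRoots P b := (not_pos_iff b _).1 (h.2 a (simple_pos b ha))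
  have hneg : ∀ c ∈ RedSub.posRoots P b, ng P (w • c) ∈ RedSub.posRoots P b := fun c hc => by
    rw [← not_pos_iff]
    intro hwc
    have := h.2 _ hwc
    rw [inv_smul_smul] at this
    exact this hc
  have hwL : w • L = ng P a := by rw [hL, smul_ng, smul_inv_smul]
  have hLs : L ∈ b.support := by
    by_contra hns
    obtain ⟨i, hi, -, c, hc, he⟩ := exists_sub_simple hΔ hLp hns
    have h1 := hneg i (simple_pos b hi)
    have h2 := hneg c hc
    have e : P.root a = P.root (ng P (w • c)) + P.root (ng P (w • i)) := by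
      have := congrArg (fun m => w • m) he
      simp only [smul_add, smul_root, hwL, root_ng] at this
      rw [root_ng, root_ng, ← neg_add, ← this, neg_neg]
    have h3 := congrArg (Finsupp.linearCombination ℤ (fun _ : ι => (1 : ℤ))) (coeff_add hΔ e)
    rw [map_add] at h3
    have := ht_pos hΔ h1
    have := ht_pos hΔ h2
    have := ht_simple hΔ (i := a) ha
    simp only [ht] at *
    omega
  have hl1 : wprod P l₁ • L = a := by
    have : wprod P l₁ = Equiv.reflection P a * w := by
      rw [hw, wprod_cons, ← _root_.mul_assoc, refl_mul_self, _root_.one_mul]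
    rw [this, mul_smul, hwL, refl_smul]
    exact reflectionPerm_self _ _ _
  have he : wprod P (l₁ ++ [L]) = w := by
    rw [hw, wprod_append, wprod_cons, wprod_nil, _root_.mul_one, wprod_cons, ← hl1,
      ← conj_reflection, inv_mul_cancel_right]
  refine ⟨L, hLs, hl1, h.congr (Red.of_eq b h.1 ?_ he (by simp)) he, he⟩
  intro x hx
  rcases List.mem_append.1 hx with hx | hx
  · exact h.1.1 x (List.mem_cons_of_mem a hx)
  · rwa [List.mem_singleton.1 hx]

/-- A root combination with a negative part is negative. -/
theorem not_pos_comb {x y z : ι} (hx : x ∈ b.support) (hy : y ∉ RedSub.posRoots P b)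
    (hne : P.root y ≠ -P.root x) {i j : ℤ} (hj : 0 < j) (hz : P.root z = i • P.root x + j • P.root y) :
    z ∉ RedSub.posRoots P b := by
  classical
  have hΔ := RootComb21.isSimpleSys_support b
  intro hzp
  have hyc : coeff hΔ y ≤ 0 := (coeff_sign hΔ y).resolve_left fun h => hy ((mem_posOf_iff hΔ).2 h)
  obtain ⟨e, he, hec⟩ : ∃ e, e ≠ x ∧ coeff hΔ y e < 0 := by
    by_contra hc
    push Not at hc
    have h1 : coeff hΔ y = Finsupp.single x (coeff hΔ y x) := by
      ext e
      by_cases hex : e = x
      · subst hex; simp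
      · rw [Finsupp.single_eq_of_ne hex]; exact le_antisymm (hyc e) (hc e hex)
    have h2 : P.root y = (coeff hΔ y x) • P.root x := by
      conv_lhs => rw [← coeff_sum hΔ y, h1]
      simp
    have h3 : coeff hΔ y x < 0 := by
      refine lt_of_le_of_ne (hyc x) fun h => root_ne_zero P y ?_
      rw [h2, h, zero_smul]
    rcases smul_eq_root_of_mem_one_two P (i := x) (k := ng P y) (c := -coeff hΔ y x) (by omega)
      (by rw [root_ng, h2, neg_smul]) with h | h
    · exact hne (by rw [← h, root_ng, neg_neg])
    · exact RootComb21.root_ne_two_smul x (ng P y) (by rw [root_ng, h2, ← neg_smul, h])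
  have h1 : coeff hΔ z = Finsupp.single x i + j • coeff hΔ y := by
    refine coeff_eq hΔ ?_ (by simp [coeff_sum, hz])
    refine (Finset.coe_subset.2 Finsupp.support_add).trans ?_
    rw [Finset.coe_union, union_subset_iff]
    refine ⟨fun t ht => ?_, (Finset.coe_subset.2 Finsupp.support_smul).trans (coeff_supp hΔ y)⟩
    have := Finsupp.support_single_subset (Finset.mem_coe.1 ht)
    rw [Finset.mem_singleton] at this
    subst this; exact hx
  have h2 := ((mem_posOf_iff hΔ).1 hzp) e
  rw [h1, Finsupp.add_apply, Finsupp.single_eq_of_ne he, zero_add, Finsupp.smul_apply, smul_eq_mul] at h2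
  simp only [Finsupp.coe_zero, Pi.zero_apply] at h2
  nlinarith

/-- A nonnegative combination of two positive roots is positive. -/
theorem pos_comb {x y z : ι} (hx : x ∈ RedSub.posRoots P b) (hy : y ∈ RedSub.posRoots P b) {i j : ℤ}
    (hi : 0 ≤ i) (hj : 0 ≤ j) (hz : P.root z = i • P.root x + j • P.root y) :
    z ∈ RedSub.posRoots P b := by
  obtain ⟨i, rfl⟩ := Int.eq_ofNat_of_zero_le hi
  obtain ⟨j, rfl⟩ := Int.eq_ofNat_of_zero_le hj
  show P.root z ∈ AddSubmonoid.closure _
  rw [hz, natCast_zsmul, natCast_zsmul]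
  exact add_mem (nsmul_mem hx i) (nsmul_mem hy j)

/-- A root moved to a simple one by an element making another simple root negative. -/
theorem neg_span {l : List ι} {a c x : ι} (hc : c ∈ b.support) (hwa : wprod P l • a = c)
    (hwx : wprod P l • x ∉ RedSub.posRoots P b) (hxa : P.root x ≠ -P.root a) {z : ι} {i j : ℤ} (hj : 0 < j)
    (hz : P.root z = i • P.root a + j • P.root x) : wprod P l • z ∉ RedSub.posRoots P b := by
  refine not_pos_comb hc hwx (fun e => hxa ?_) (i := i) (j := j) hj ?_
  · have := congrArg (fun m => (wprod P l)⁻¹ • m) e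
    simpa [smul_neg, smul_root, ← hwa] using this
  · rw [← smul_root, hz, smul_add, smul_comm, smul_comm (wprod P l) j, smul_root, smul_root, hwa]

/-- The simple roots of the opposite base. -/
theorem exists_negBase_support {bn : P.Base}
    (hbn : RedSub.posRoots P bn = RedSub.negRoots P b) (a : ι) :
    a ∈ bn.support ↔ ng P a ∈ b.support := by
  have h1 := indec_posOf (RootComb21.isSimpleSys_support bn)
  have h2 := indec_posOf (RootComb21.isSimpleSys_support b)
  rw [← Finset.mem_coe, ← Finset.mem_coe, ← h1, ← h2, ← RootComb21.posRoots_eq, ← RootComb21.posRoots_eq, hbn]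
  simp only [indec, Set.mem_setOf_eq, RootComb21.mem_negRoots_iff_ng]
  constructor
  · rintro ⟨ha, hno⟩
    refine ⟨ha, fun ⟨x, hx, y, hy, he⟩ => hno ⟨ng P x, by rwa [ng_ng], ng P y, by rwa [ng_ng], ?_⟩⟩
    rw [root_ng, root_ng, ← neg_add, ← he, root_ng, neg_neg]
  · rintro ⟨ha, hno⟩
    refine ⟨ha, fun ⟨x, hx, y, hy, he⟩ => hno ⟨ng P x, hx, ng P y, hy, ?_⟩⟩
    rw [root_ng, root_ng, root_ng, he, neg_add]

end Groth.Agent.PMor16
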